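import Cfsg.Agent.AlmostZ.Table

/-!
# The arithmetic of the table
-/

set_option autoImplicit false
set_option linter.style.haveILetI false
set_option linter.unusedSectionVars false

namespace CfsgLib.AlmostZ

universe u

variable {G : Type u} [Group G] [Finite G] {σ τ : G} {h p o : ℕ}

/-- The valuations in the class equation. -/
theorem eqn_val {s : ℕ} [Fact s.Prime] {N X c A B : ℕ} {Y : ℕ} (hN : N ≠ 0) (hX : X ≠ 0)
    (hc : c ≠ 0) (hA : A ≠ 0) (hB : B ≠ 0) (hY : Y ≠ 0) (e : N * X ^ 2 * c ^ 2 = A ^ 2 * B * Y) :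
    padicValNat s N + 2 * padicValNat s X + 2 * padicValNat s c =
      2 * padicValNat s A + padicValNat s B + padicValNat s Y := by
  have h1 := congrArg (padicValNat s) e
  rwa [padicValNat.mul (mul_ne_zero hN (pow_ne_zero _ hX)) (pow_ne_zero _ hc),
    padicValNat.mul hN (pow_ne_zero _ hX), padicValNat.mul (mul_ne_zero (pow_ne_zero _ hA) hB) hY,
    padicValNat.mul (pow_ne_zero _ hA) hB, padicValNat.pow, padicValNat.pow,
    padicValNat.pow] at h1

/-- The class equation in natural numbers. -/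
theorem TableData.eqn_nat [Fintype G] {q xa xb C : ℤ} (T : TableData σ τ h q xa xb C) :
    Nat.card G * (C + q).natAbs ^ 2 * Nat.card (cen (σ ^ (h / 2)) ⊓ cen τ : Subgroup G) ^ 2 =
      Nat.card (cen (σ ^ h)) ^ 2 * Nat.card (cen (σ ^ (h / 2))) * (C * (C + 1)).natAbs := by
  have e1 := congrArg Int.natAbs T.eqn
  simpa [Int.natAbs_mul, Int.natAbs_pow] using e1

theorem TableData.C_ne [Fintype G] {q xa xb C : ℤ} (T : TableData σ τ h q xa xb C) : C ≠ 0 := fun e => by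
  have := T.dvd_c
  rw [e, zero_dvd_iff] at this
  exact Nat.card_pos.ne' (Int.natCast_eq_zero.1 this)

theorem TableData.C_add_ne [Fintype G] {q xa xb C : ℤ} (T : TableData σ τ h q xa xb C) :
    C + q ≠ 0 := fun e => by
  have h1 := T.eqn
  rw [e] at h1
  simp only [ne_eq, OfNat.ofNat_ne_zero, not_false_eq_true, zero_pow, mul_zero, zero_mul] at h1
  rcases mul_eq_zero.1 h1.symm with e1 | e1
  · rcases mul_eq_zero.1 e1 with e2 | e2
    · exact Nat.card_pos.ne' (Int.natCast_eq_zero.1 ((pow_eq_zero_iff two_ne_zero).1 e2))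
    · exact Nat.card_pos.ne' (Int.natCast_eq_zero.1 e2)
  · rcases mul_eq_zero.1 e1 with e2 | e2
    exacts [T.C_ne e2, T.ne e2]

/-- The prime three is impossible. -/
theorem no_three [Fintype G] (L : LocalFacts σ τ h p o) (hp3 : p = 3) {xa xb C : ℤ}
    (T : TableData σ τ h 3 xa xb C) : False := by
  subst hp3
  obtain ⟨r, hr, hr4⟩ := L.h_eq.1 (by norm_num)
  obtain ⟨v1, v2⟩ := L.val_three rfl
  have h72 : (xb + 9) * (C + 9) = 72 := by linear_combination 9 * T.rel - T.prod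
  have hd : (C + 9) ∣ 72 := ⟨xb + 9, by linarith⟩
  have hb1 := Int.le_of_dvd (by norm_num) hd
  have hb2 := Int.le_of_dvd (by norm_num) ((neg_dvd).2 hd)
  haveI : Fact (Nat.Prime 3) := ⟨Nat.prime_three⟩
  have hne := T.C_add_ne
  have hcases : C = -11 ∨ C = -27 := by
    obtain ⟨k, hk⟩ := T.cong
    have h8 : C % 8 = 5 := by
      have hh : h = 4 := by
        rcases Nat.lt_or_ge r 2 with hr2 | hr2
        · obtain ⟨a, ha⟩ := hr
          obtain rfl : r = 1 := by omega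
          omega
        · have hhr : r ∣ 4 := ⟨h, by linarith⟩
          have := Nat.le_of_dvd (by norm_num) hhr
          obtain ⟨a, ha⟩ := hr
          obtain rfl : r = 3 := by omega
          norm_num at hhr
      rw [hh] at hk; push_cast at hk
      omega
    have hlo : -81 ≤ C := by linarith
    have hhi : C ≤ 63 := by linarith
    clear hb1 hb2 hk h72 v1 v2
    interval_cases C <;> first | omega | (exfalso; revert hd; decide)
  have hv := eqn_val (s := 3) Nat.card_pos.ne' (Int.natAbs_ne_zero.2 hne) Nat.card_pos.ne'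
    Nat.card_pos.ne' Nat.card_pos.ne' (Int.natAbs_ne_zero.2 (mul_ne_zero T.C_ne T.ne)) T.eqn_nat
  have hc : padicValNat 3 (Nat.card (cen (σ ^ (h / 2)) ⊓ cen τ : Subgroup G)) ≤
      padicValNat 3 (Nat.card (cen (σ ^ (h / 2)))) :=
    (padicValNat_dvd_iff_le Nat.card_pos.ne').1
      (pow_padicValNat_dvd.trans (Subgroup.card_dvd_of_le inf_le_left))
  rcases hcases with rfl | rfl
  · rw [show ((-11 : ℤ) + 3).natAbs = 8 by rfl, show ((-11 : ℤ) * (-11 + 1)).natAbs = 110 by rfl,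
      padicValNat.eq_zero_of_not_dvd (show ¬ 3 ∣ 8 by norm_num),
      padicValNat.eq_zero_of_not_dvd (show ¬ 3 ∣ 110 by norm_num)] at hv
    omega
  · rw [show ((-27 : ℤ) + 3).natAbs = 3 * 8 by rfl,
      show ((-27 : ℤ) * (-27 + 1)).natAbs = 3 ^ 3 * 26 by rfl,
      padicValNat.mul (by norm_num) (by norm_num), padicValNat.mul (by norm_num) (by norm_num),
      padicValNat.self (by norm_num), padicValNat.prime_pow,
      padicValNat.eq_zero_of_not_dvd (show ¬ 3 ∣ 8 by norm_num),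
      padicValNat.eq_zero_of_not_dvd (show ¬ 3 ∣ 26 by norm_num)] at hv
    omega

/-- **The only surviving degrees.** -/
theorem table_five [Fintype G] (L : LocalFacts σ τ h p o) (hpow : ∃ k, h = 2 ^ (k + 2)) {xa xb C : ℤ}
    (T : TableData σ τ h (if p % 4 = 3 then (p : ℤ) else -p) xa xb C) :
    p = 5 ∧ h = 4 ∧ xa = 119 ∧ xb = -85 ∧ C = -35 := by
  obtain ⟨k0, hk0⟩ := hpow
  have hh : 4 ∣ h := ⟨2 ^ k0, by rw [hk0]; ring⟩
  have hp := L.prime
  have hp2 := L.ne_two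
  have hpodd : p % 2 = 1 := hp.eq_two_or_odd.resolve_left hp2
  by_cases hp3 : p = 3
  · subst hp3
    exact (no_three L rfl (by simpa using T)).elim
  have hp5 : 5 ≤ p := by
    have := hp.two_le
    omega
  obtain ⟨hvp, -⟩ := L.val_p hp5
  haveI : Fact p.Prime := ⟨hp⟩
  set q : ℤ := if p % 4 = 3 then (p : ℤ) else -p with hq
  obtain ⟨r, hr, hqr, hrdvd⟩ : ∃ r : ℕ, Odd r ∧ (q + 1).natAbs = h * r ∧
      ∀ s : ℕ, s ∣ r → ((p % 4 = 3 ∧ s ∣ p + 1) ∨ (p % 4 = 1 ∧ s ∣ p - 1)) := by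
    rcases (show p % 4 = 3 ∨ p % 4 = 1 by omega) with e | e
    · obtain ⟨r, hr, e'⟩ := L.h_eq.1 e
      refine ⟨r, hr, ?_, fun s hs => Or.inl ⟨e, e' ▸ hs.mul_left h⟩⟩
      rw [hq, if_pos e, ← e']; omega
    · obtain ⟨r, hr, e'⟩ := L.h_eq.2 e
      refine ⟨r, hr, ?_, fun s hs => Or.inr ⟨e, e' ▸ hs.mul_left h⟩⟩
      rw [hq, if_neg (by omega), ← e']; omega
  have hq0 : q ≠ 0 := by rw [hq]; split_ifs <;> omega
  have hqp : q.natAbs = p := by rw [hq]; split_ifs <;> omega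
  have hq4 : q % 4 = 3 := by rw [hq]; split_ifs <;> omega
  -- the prime divides two degrees once
  have hp2N : ¬ ((p : ℤ) ^ 2 ∣ (Nat.card G : ℤ)) := by
    intro hd
    have hd' : p ^ 2 ∣ Nat.card G := by exact_mod_cast hd
    have := (padicValNat_dvd_iff_le Nat.card_pos.ne').1 hd'
    omega
  have hpI : Prime (p : ℤ) := Nat.prime_iff_prime_int.1 hp
  have hp2q : (p : ℤ) ^ 2 ∣ xb * C := ⟨xa, by
    rw [← T.prod, ← hqp, Int.natCast_natAbs, sq_abs]⟩
  have hC : (p : ℤ) ∣ C := by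
    by_contra hn
    exact hp2N (((hpI.coprime_iff_not_dvd.2 hn).pow_left.dvd_of_dvd_mul_right hp2q).trans T.dvd_b)
  have hb : (p : ℤ) ∣ xb := by
    by_contra hn
    exact hp2N (((hpI.coprime_iff_not_dvd.2 hn).pow_left.dvd_of_dvd_mul_left hp2q).trans T.dvd_c)
  rw [← hqp, Int.natAbs_dvd] at hC hb
  obtain ⟨γ, rfl⟩ := hC
  obtain ⟨β, rfl⟩ := hb
  have hxa : xa = β * γ := mul_left_cancel₀ (pow_ne_zero 2 hq0) (by linear_combination T.prod)
  have hprod : (β + q) * (γ + q) = q ^ 2 - 1 := by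
    have := T.rel; rw [hxa] at this; linear_combination this
  have hγne : γ + 1 ≠ 0 := fun e => T.C_add_ne (by linear_combination q * e)
  have h2h : 2 * (h : ℤ) ∣ γ + 1 := by
    have hcop : IsCoprime (2 * (h : ℤ)) q := by
      have h2q : IsCoprime (2 : ℤ) q := (Int.prime_two.coprime_iff_not_dvd).2 (by omega)
      obtain ⟨k, hk⟩ : ∃ k, h = 2 ^ k := ⟨_, hk0⟩
      rw [hk]; push_cast
      rw [← pow_succ']
      exact h2q.pow_left
    exact hcop.dvd_of_dvd_mul_left (by rw [mul_add, mul_one]; exact T.cong)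
  -- odd primes
  have hr2 : (r : ℤ) ∣ γ + 1 := by
    rw [Int.natCast_dvd, ← Nat.factorization_le_iff_dvd (by obtain ⟨a, ha⟩ := hr; omega)
      (Int.natAbs_ne_zero.2 hγne)]
    intro s
    by_cases hs : s.Prime
    swap
    · simp [Nat.factorization_eq_zero_of_not_prime _ hs]
    by_cases hsr : s ∣ r
    swap
    · simp [Nat.factorization_eq_zero_of_not_dvd hsr]
    haveI : Fact s.Prime := ⟨hs⟩
    rw [Nat.factorization_def _ hs, Nat.factorization_def _ hs]
    have hs2 : s ≠ 2 := fun e => Nat.not_even_iff_odd.2 hr (even_iff_two_dvd.2 (e ▸ hsr))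
    obtain ⟨w1, w2, w3⟩ := L.val_torus hp5 s hs hs2 (hrdvd s hsr)
    have hsp : ¬ s ∣ p := fun hd => by
      obtain rfl := (Nat.prime_dvd_prime_iff_eq hs hp).1 hd
      have := hs.two_le
      rcases hrdvd s hsr with ⟨-, hd'⟩ | ⟨-, hd'⟩
      · rw [Nat.dvd_add_right dvd_rfl, Nat.dvd_one] at hd'; omega
      · have := Nat.le_of_dvd (by omega) hd'; omega
    have hv := eqn_val (s := s) Nat.card_pos.ne' (Int.natAbs_ne_zero.2 T.C_add_ne) Nat.card_pos.ne'
      Nat.card_pos.ne' Nat.card_pos.ne' (Int.natAbs_ne_zero.2 (mul_ne_zero T.C_ne T.ne)) T.eqn_nat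
    rw [show (q * γ + q).natAbs = p * (γ + 1).natAbs by
        rw [← hqp, ← Int.natAbs_mul, mul_add, mul_one],
      padicValNat.mul hp.ne_zero (Int.natAbs_ne_zero.2 hγne),
      padicValNat.eq_zero_of_not_dvd hsp, padicValNat.eq_zero_of_not_dvd w3] at hv
    have hrv : padicValNat s r ≤ padicValNat s (Nat.card (cen (σ ^ h))) := by
      refine (padicValNat_dvd_iff_le Nat.card_pos.ne').1 (pow_padicValNat_dvd.trans ?_)
      rw [L.card_cen]
      refine (show r ∣ p ^ 2 - 1 from ?_).mul_left (2 * p) |>.mul_right o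
      rw [show p ^ 2 - 1 = (p + 1) * (p - 1) by
        rw [← Nat.sq_sub_sq, one_pow]]
      rcases hrdvd r dvd_rfl with ⟨-, hd⟩ | ⟨-, hd⟩
      exacts [hd.mul_right _, hd.mul_left _]
    omega
  have hdiv : 2 * (q + 1) ∣ γ + 1 := by
    have hcop : IsCoprime (2 * (h : ℤ)) (r : ℤ) := by
      refine Int.isCoprime_iff_nat_coprime.2 ?_
      obtain ⟨k, hk⟩ : ∃ k, h = 2 ^ k := ⟨_, hk0⟩
      rw [show ((2 * (h : ℤ))).natAbs = 2 ^ (k + 1) by rw [hk, Int.natAbs_mul]; simp [pow_succ']]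
      exact (Nat.coprime_two_left.2 hr).pow_left _
    have h1 := hcop.mul_dvd h2h hr2
    rw [← Int.natAbs_dvd, Int.natAbs_mul, hqr]
    rw [show ((2 : ℤ).natAbs * (h * r) : ℕ) = 2 * h * r by rw [mul_assoc]; rfl]
    push_cast
    exact h1
  obtain ⟨j, hj⟩ := hdiv
  obtain ⟨Q', hQ⟩ : ∃ Q', q - 1 = 2 * Q' := ⟨(q - 1) / 2, by omega⟩
  set E' := Q' + (q + 1) * j with hE'
  have hEE : γ + q = 2 * E' := by rw [hE']; linarith
  have hEodd : E' % 2 = 1 := by
    have h8 : (4 : ℤ) ∣ γ + 1 := (show (4 : ℤ) ∣ 2 * (h : ℤ) from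
      dvd_mul_of_dvd_right (by exact_mod_cast hh) _).trans h2h
    omega
  obtain ⟨k, hk⟩ : ∃ k, E' = 2 * k + 1 := ⟨E' / 2, by omega⟩
  have hcop : IsCoprime E' (q + 1) :=
    ⟨1 + 2 * k, -k * (1 + 2 * j), by rw [hE'] at hk ⊢; linear_combination (-k) * hQ + hk⟩
  have hEQ : E' ∣ Q' := by
    refine hcop.dvd_of_dvd_mul_right ⟨β + q, ?_⟩
    refine mul_left_cancel₀ (two_ne_zero (α := ℤ)) ?_
    linear_combination (-1) * hprod + (β + q) * hEE - (q + 1) * hQ
  have hQ0 : Q' ≠ 0 := by omega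
  have hle : |E'| ≤ |Q'| := Int.le_of_dvd (abs_pos.2 hQ0) ((abs_dvd_abs ..).2 hEQ)
  have hj0 : j ≠ 0 := fun e => hγne (by rw [hj, e, mul_zero])
  have hjb : |q + 1| * |j| ≤ 2 * |Q'| := by
    rw [← abs_mul, show (q + 1) * j = E' - Q' by rw [hE']; ring]
    linarith [abs_sub E' Q']
  have hj1 : (1 : ℤ) ≤ |j| := Int.one_le_abs hj0
  have hp1 : p % 4 = 1 := by
    by_contra hn
    have e : q = (p : ℤ) := by rw [hq, if_pos (by omega)]
    rw [e, abs_of_nonneg (by omega : (0 : ℤ) ≤ (p : ℤ) + 1), abs_of_nonneg (by omega : (0 : ℤ) ≤ Q')] at hjb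
    nlinarith
  have e : q = -(p : ℤ) := by rw [hq, if_neg (by omega)]
  rw [e] at hQ hjb hj hE' hEE
  rw [abs_of_nonpos (by omega : -(p : ℤ) + 1 ≤ 0), abs_of_nonpos (by omega : Q' ≤ 0)] at hjb
  have hj2 : |j| ≤ 1 := by nlinarith
  obtain ⟨hj3, hj4⟩ := abs_le.1 hj2
  interval_cases j
  · obtain ⟨n, hn⟩ := hEQ
    have hp13 : ((p : ℤ) - 3) ∣ 4 := ⟨-n - 1, by
      linear_combination (n - 1) * hQ + (-2) * hn - (2 * n) * hE'⟩
    have := Int.le_of_dvd (by norm_num) hp13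
    have hp57 : p = 5 := by omega
    subst hp57
    rw [show q = -5 by omega] at *
    have hγ : γ = 7 := by omega
    subst hγ
    have hβ : β = 17 := by linarith
    subst hβ
    refine ⟨rfl, ?_, by rw [hxa]; norm_num, by norm_num, by norm_num⟩
    obtain ⟨r', hr', e'⟩ := L.h_eq.2 (by norm_num)
    obtain ⟨a, ha⟩ := hh
    rcases Nat.lt_or_ge a 2 with ha2 | ha2
    · rcases Nat.eq_zero_or_pos a with ha0 | ha0
      · rw [ha, ha0] at e'; simp at e'
      · omega
    · have : 1 ≤ r' := by obtain ⟨b, hb⟩ := hr'; omega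
      nlinarith
  · exact absurd rfl hj0
  · rw [abs_of_nonpos (by omega : Q' ≤ 0), abs_of_nonpos (by omega : E' ≤ 0)] at hle
    omega

end CfsgLib.AlmostZ
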