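import Cfsg.Agent.AlmostZ.Defs
import Cfsg.Agent.Invol.CentralizerPattern

/-!
# Generators of a semidihedral Sylow 2-subgroup and the classes of involutions
-/

set_option autoImplicit false
set_option linter.style.haveILetI false

namespace CfsgLib.AlmostZ

open scoped commutatorElement

universe u

variable {G : Type u} [Group G] [Finite G] {S : Sylow 2 G} {σ τ : G} {h : ℕ}

/-- A semidihedral Sylow 2-subgroup has generators. -/
theorem exists_gen (hS : Cfsg.IsQuasiDihedral (S : Subgroup G)) :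
    ∃ σ τ h, Gen S σ τ h := by
  obtain ⟨R⟩ := CfsgLib.QD.exists_data hS
  refine ⟨R.x, R.y, 4 * R.q, ⟨R.k, by rw [R.hq]; ring⟩, ?_, ?_, ?_, R.x.2, R.y.2, ?_, ?_, ?_⟩
  · rw [Subgroup.orderOf_coe, R.hx]; ring
  · rw [Subgroup.orderOf_coe, R.hy]
  · have h1 := congrArg Subtype.val R.hxy
    push_cast at h1 ⊢
    exact h1
  · intro g hg
    rcases R.cases ⟨g, hg⟩ with ⟨i, hi⟩ | ⟨i, hi⟩
    · exact ⟨i, Or.inl (by simpa using congrArg Subtype.val hi)⟩
    · exact ⟨i, Or.inr (by simpa using congrArg Subtype.val hi)⟩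
  · rw [R.card_eq]; ring
  · intro hm
    obtain ⟨i, hi⟩ := Subgroup.mem_zpowers_iff.1 hm
    exact R.ne_rot 0 i (Subtype.ext (by simpa using hi.symm))

theorem Gen.isQuasiDihedral (D : Gen S σ τ h) : Cfsg.IsQuasiDihedral (S : Subgroup G) := by
  obtain ⟨k, hk⟩ := D.hh
  refine ⟨k + 3, by omega, by rw [D.card, hk]; ring, ⟨σ, D.σ_mem⟩, ⟨τ, D.τ_mem⟩, ?_, ?_, ?_⟩
  · rw [Subgroup.orderOf_mk, D.ordσ, hk]; ring
  · rw [Subgroup.orderOf_mk, D.ordτ]
  · refine Subtype.ext ?_
    show τ * σ * τ⁻¹ = σ ^ (2 ^ (k + 3 - 1) - 1)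
    rw [D.rel, ← zpow_natCast σ (2 ^ (k + 3 - 1) - 1), show k + 3 - 1 = k + 2 from rfl, ← hk,
      Nat.cast_sub (hk ▸ Nat.one_le_two_pow), Nat.cast_one]

/-- A perfect group has no subgroup of index two. -/
theorem no_index_two [Group.IsPerfect G] (H : Subgroup G) : H.index ≠ 2 := fun hH => by
  haveI := Subgroup.normal_of_index_eq_two hH
  haveI : Fact (Nat.Prime 2) := ⟨Nat.prime_two⟩
  haveI : IsCyclic (G ⧸ H) := isCyclic_of_prime_card (p := 2) (by rw [← hH]; rfl)
  haveI : IsMulCommutative (G ⧸ H) := IsCyclic.isMulCommutative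
  have h1 : commutator G ≤ H := by
    rw [commutator_def, Subgroup.commutator_le]
    intro a _ b _
    refine (QuotientGroup.eq_one_iff _).1 ?_
    show QuotientGroup.mk' H ⁅a, b⁆ = 1
    rw [map_commutatorElement, commutatorElement_eq_one_iff_mul_comm]
    exact IsMulCommutative.is_comm.comm _ _
  rw [Group.IsPerfect.commutator_eq_top, top_le_iff] at h1
  rw [h1, Subgroup.index_top] at hH
  omega

/-- All involutions are conjugate. -/
theorem Gen.isConj_invol [Group.IsPerfect G] (D : Gen S σ τ h) {a b : G} (ha : orderOf a = 2)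
    (hb : orderOf b = 2) : IsConj a b :=
  CfsgLib.InvolPattern.isConj_of_one_class
    (CfsgLib.InvolPattern.qd_one_class no_index_two S D.isQuasiDihedral).1 ha hb

end CfsgLib.AlmostZ
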