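import Mathlib.LinearAlgebra.Matrix.GeneralLinearGroup.Projective
import Mathlib.LinearAlgebra.Matrix.GeneralLinearGroup.Card
import Mathlib.NumberTheory.LegendreSymbol.QuadraticChar.Basic
import Mathlib.GroupTheory.Sylow
import Cfsg.Agent.Classical.Transvections

/-!
# Facts about `PGL₂(q)`, `q` odd

Borel subgroup, centralizers of unipotent elements and of the involutions in `PSL₂(q)`, and the
perfect subgroup `PSL₂(q)`.
-/

set_option autoImplicit false
set_option linter.style.haveILetI false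
set_option linter.unusedSectionVars false

namespace CfsgLib.AlmostZ.PGLTwo

open Matrix
open scoped commutatorElement

variable (F : Type) [Field F]

/-- `PGL₂`. -/
abbrev PG : Type := Matrix.ProjGenLinGroup (Fin 2) F

variable {F}

/-- The projection. -/
abbrev pr : GL (Fin 2) F →* PG F := Matrix.ProjGenLinGroup.mk

theorem pr_surjective : Function.Surjective (pr (F := F)) := Matrix.ProjGenLinGroup.mk_surjective

theorem pr_eq_iff {a b : GL (Fin 2) F} :
    pr a = pr b ↔ ∃ c : F, c ≠ 0 ∧ (b : Matrix (Fin 2) (Fin 2) F) = c • (a : Matrix (Fin 2) (Fin 2) F) := by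
  rw [Matrix.ProjGenLinGroup.mk_eq_mk_iff]
  constructor
  · rintro ⟨u, rfl⟩
    refine ⟨u, u.ne_zero, ?_⟩
    ext i j
    simp [Matrix.GeneralLinearGroup.scalar, mul_comm]
  · rintro ⟨c, hc, h⟩
    refine ⟨Units.mk0 c hc, Units.ext ?_⟩
    rw [h]
    ext i j
    simp [Matrix.GeneralLinearGroup.scalar, mul_comm]

theorem pr_eq_one_iff {a : GL (Fin 2) F} :
    pr a = 1 ↔ ∃ c : F, c ≠ 0 ∧ (a : Matrix (Fin 2) (Fin 2) F) = c • 1 := by
  rw [← map_one pr, eq_comm, pr_eq_iff]
  simp

/-- The upper triangular matrices. -/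
def borel : Subgroup (GL (Fin 2) F) where
  carrier := {g | (g : Matrix (Fin 2) (Fin 2) F) 1 0 = 0}
  one_mem' := by simp
  mul_mem' {a b} ha hb := by
    simp only [Set.mem_setOf_eq] at *
    simp [Matrix.mul_apply, Fin.sum_univ_two, ha, hb]
  inv_mem' {a} ha := by
    simp only [Set.mem_setOf_eq] at *
    simp [Matrix.coe_units_inv, Matrix.inv_def, Matrix.adjugate_fin_two, ha]

theorem mem_borel {g : GL (Fin 2) F} : g ∈ borel ↔ (g : Matrix (Fin 2) (Fin 2) F) 1 0 = 0 := Iff.rfl

theorem borel_diag {g : GL (Fin 2) F} (h : g ∈ borel) :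
    (g : Matrix (Fin 2) (Fin 2) F) 0 0 ≠ 0 ∧ (g : Matrix (Fin 2) (Fin 2) F) 1 1 ≠ 0 := by
  have hd := Matrix.GeneralLinearGroup.det_ne_zero g
  rw [Matrix.det_fin_two, mem_borel.1 h, mul_zero, sub_zero] at hd
  exact mul_ne_zero_iff.1 hd

theorem scalar_mem_borel {g : GL (Fin 2) F} (h : g ∈ (pr (F := F)).ker) : g ∈ borel := by
  obtain ⟨c, -, hc⟩ := pr_eq_one_iff.1 h
  simp [mem_borel, hc]

/-- The quotient of the diagonal entries. -/
def bchar : borel (F := F) →* Fˣ where
  toFun g := Units.mk0 _ (borel_diag g.2).1 / Units.mk0 _ (borel_diag g.2).2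
  map_one' := by ext; simp
  map_mul' a b := by
    ext
    simp [Matrix.mul_apply, Fin.sum_univ_two, mem_borel.1 a.2, mem_borel.1 b.2]
    ring

theorem mem_ker_bchar {g : borel (F := F)} :
    g ∈ bchar.ker ↔ ((g : GL (Fin 2) F) : Matrix (Fin 2) (Fin 2) F) 0 0 = ((g : GL (Fin 2) F) : Matrix (Fin 2) (Fin 2) F) 1 1 := by
  rw [MonoidHom.mem_ker, bchar, MonoidHom.coe_mk, OneHom.coe_mk, div_eq_one, Units.ext_iff]
  rfl

variable [Finite F]

instance : Finite (GL (Fin 2) F) := inferInstance

instance : Finite (PG F) := Finite.of_surjective _ (pr_surjective (F := F))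

theorem card_ker_pr : Nat.card (pr (F := F)).ker = Nat.card F - 1 := by
  have e : Fˣ ≃ (pr (F := F)).ker := Equiv.ofBijective
    (fun u => ⟨Matrix.GeneralLinearGroup.scalar (Fin 2) u, Matrix.ProjGenLinGroup.mk_scalar u⟩)
    ⟨fun u v h => Units.ext (by
      simpa using congrArg (fun g : (pr (F := F)).ker => ((g : GL (Fin 2) F) : Matrix (Fin 2) (Fin 2) F) 0 0) h),
    fun g => by
      obtain ⟨c, hc, he⟩ := pr_eq_one_iff.1 g.2
      exact ⟨Units.mk0 c hc, Subtype.ext (Units.ext (by
        rw [he]; ext i j; rcases eq_or_ne i j with rfl | hij <;> simp [*]))⟩⟩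
  rw [← Nat.card_congr e, Nat.card_units]

theorem card_map_pr {K : Subgroup (GL (Fin 2) F)} (hK : (pr (F := F)).ker ≤ K) :
    Nat.card (K.map pr) * (Nat.card F - 1) = Nat.card K := by
  have h1 := Subgroup.index_map_eq (H := K) pr_surjective hK
  have h2 := (K.map pr).card_mul_index
  have h3 := K.card_mul_index
  have h4 := (pr (F := F)).ker.card_mul_index
  rw [Subgroup.index_ker, MonoidHom.range_eq_top.2 pr_surjective, Subgroup.card_top, card_ker_pr] at h4
  rw [h1] at h2
  refine Nat.eq_of_mul_eq_mul_right (Nat.pos_of_ne_zero K.index_ne_zero_of_finite) ?_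
  rw [h3, ← h4, ← h2]
  ring

theorem card_GL_two : Nat.card (GL (Fin 2) F) = (Nat.card F ^ 2 - 1) * (Nat.card F ^ 2 - Nat.card F) := by
  haveI := Fintype.ofFinite F
  rw [Matrix.card_GL_field, Fin.prod_univ_two, Nat.card_eq_fintype_card]
  simp

theorem one_lt_q : 1 < Nat.card F := Finite.one_lt_card

theorem card_PG : Nat.card (PG F) = Nat.card F * (Nat.card F ^ 2 - 1) := by
  have h := card_map_pr (F := F) (K := ⊤) le_top
  rw [← MonoidHom.range_eq_map, MonoidHom.range_eq_top.2 pr_surjective, Subgroup.card_top,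
    Subgroup.card_top, card_GL_two] at h
  have hq := one_lt_q (F := F)
  refine Nat.eq_of_mul_eq_mul_right (show 0 < Nat.card F - 1 by omega) ?_
  rw [h, sq (Nat.card F), show Nat.card F * Nat.card F - Nat.card F = Nat.card F * (Nat.card F - 1) by
    rw [Nat.mul_sub, mul_one]]
  ring

theorem card_borel : Nat.card (borel (F := F)) = (Nat.card F - 1) ^ 2 * Nat.card F := by
  have e : borel (F := F) ≃ Fˣ × Fˣ × F :=
    { toFun g := (Units.mk0 _ (borel_diag g.2).1, Units.mk0 _ (borel_diag g.2).2,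
        ((g : GL (Fin 2) F) : Matrix (Fin 2) (Fin 2) F) 0 1)
      invFun t := ⟨Matrix.GeneralLinearGroup.mkOfDetNeZero !![(t.1 : F), t.2.2; 0, (t.2.1 : F)]
        (by simp [Matrix.det_fin_two]), by simp [mem_borel, Matrix.GeneralLinearGroup.mkOfDetNeZero]⟩
      left_inv g := by
        refine Subtype.ext (Units.ext ?_)
        ext i j
        fin_cases i <;> fin_cases j <;>
          simp [Matrix.GeneralLinearGroup.mkOfDetNeZero, mem_borel.1 g.2]
      right_inv t := by
        refine Prod.ext (Units.ext ?_) (Prod.ext (Units.ext ?_) ?_) <;>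
          simp [Matrix.GeneralLinearGroup.mkOfDetNeZero] }
  rw [Nat.card_congr e, Nat.card_prod, Nat.card_prod, Nat.card_units]
  ring

theorem bchar_surjective : Function.Surjective (bchar (F := F)) := fun u =>
  ⟨⟨Matrix.GeneralLinearGroup.mkOfDetNeZero !![(u : F), 0; 0, 1] (by simp [Matrix.det_fin_two]),
    by simp [mem_borel, Matrix.GeneralLinearGroup.mkOfDetNeZero]⟩,
    Units.ext (by simp [bchar, Matrix.GeneralLinearGroup.mkOfDetNeZero])⟩

theorem card_ker_bchar : Nat.card (bchar (F := F)).ker = (Nat.card F - 1) * Nat.card F := by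
  have h := (bchar (F := F)).ker.card_mul_index
  rw [Subgroup.index_ker, MonoidHom.range_eq_top.2 bchar_surjective, Subgroup.card_top, card_borel,
    Nat.card_units] at h
  have hq := one_lt_q (F := F)
  refine Nat.eq_of_mul_eq_mul_right (show 0 < Nat.card F - 1 by omega) ?_
  rw [h]; ring

/-- The Borel subgroup of `PGL₂`. -/
theorem exists_borel : ∃ B : Subgroup (PG F), B.index = Nat.card F + 1 ∧
    (∀ g g' : PG F, g ∉ B → g' ∉ B → ∃ a ∈ B, ∃ b ∈ B, g' = a * g * b) ∧
    ∀ m : ℕ, m ∣ Nat.card F - 1 → ∃ M : Subgroup (PG F), M ≤ B ∧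
      (∀ a ∈ B, ∀ x ∈ M, a * x * a⁻¹ ∈ M) ∧ Nat.card M = Nat.card F * m := by
  have hker : (pr (F := F)).ker ≤ borel := fun _ h => scalar_mem_borel h
  have hq := one_lt_q (F := F)
  refine ⟨(borel (F := F)).map pr, ?_, ?_, ?_⟩
  · rw [Subgroup.index_map_eq _ pr_surjective hker]
    have h := (borel (F := F)).card_mul_index
    rw [card_borel, card_GL_two] at h
    refine Nat.eq_of_mul_eq_mul_left (show 0 < (Nat.card F - 1) ^ 2 * Nat.card F from
      Nat.mul_pos (pow_pos (by omega) 2) (by omega)) ?_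
    rw [h]
    obtain ⟨q, hq'⟩ := Nat.exists_eq_add_of_le hq.le
    rw [hq', show (1 + q) ^ 2 - 1 = q * (q + 2) from Nat.sub_eq_of_eq_add (by ring),
      show (1 + q) ^ 2 - (1 + q) = q * (q + 1) from Nat.sub_eq_of_eq_add (by ring), Nat.add_sub_cancel_left]
    ring
  · intro g g' hg hg'
    obtain ⟨g, rfl⟩ := pr_surjective g
    obtain ⟨g', rfl⟩ := pr_surjective g'
    -- every matrix outside the Borel subgroup is `b₁ w b₂`
    suffices key : ∀ g : GL (Fin 2) F, g ∉ borel → ∃ a ∈ borel (F := F), ∃ b ∈ borel (F := F),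
        g = a * Matrix.GeneralLinearGroup.mkOfDetNeZero !![0, 1; 1, 0] (by simp [Matrix.det_fin_two]) * b by
      obtain ⟨a, ha, b, hb, e⟩ := key g fun h => hg ⟨g, h, rfl⟩
      obtain ⟨a', ha', b', hb', e'⟩ := key g' fun h => hg' ⟨g', h, rfl⟩
      refine ⟨pr (a' * a⁻¹), ⟨_, mul_mem ha' (inv_mem ha), rfl⟩, pr (b⁻¹ * b'),
        ⟨_, mul_mem (inv_mem hb) hb', rfl⟩, ?_⟩
      rw [← map_mul, ← map_mul]
      congr 1
      rw [e', e]
      group
    intro g hg
    rw [mem_borel] at hg
    set A := (g : Matrix (Fin 2) (Fin 2) F) with hA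
    have hd : A.det ≠ 0 := Matrix.GeneralLinearGroup.det_ne_zero g
    refine ⟨Matrix.GeneralLinearGroup.mkOfDetNeZero !![1, A 0 0 / A 1 0; 0, 1] (by simp [Matrix.det_fin_two]),
      by simp [mem_borel, Matrix.GeneralLinearGroup.mkOfDetNeZero],
      Matrix.GeneralLinearGroup.mkOfDetNeZero !![A 1 0, A 1 1; 0, A 0 1 - A 0 0 / A 1 0 * A 1 1] ?_,
      by simp [mem_borel, Matrix.GeneralLinearGroup.mkOfDetNeZero], ?_⟩
    · rw [Matrix.det_fin_two] at hd
      have : A 1 0 * (A 0 1 - A 0 0 / A 1 0 * A 1 1) ≠ 0 := by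
        field_simp
        intro h
        exact hd (by linear_combination -h)
      simpa [Matrix.det_fin_two] using this
    · refine Units.ext ?_
      rw [← hA]
      ext i j
      fin_cases i <;> fin_cases j <;>
        simp [Matrix.GeneralLinearGroup.mkOfDetNeZero, Matrix.mul_apply, Fin.sum_univ_two] <;>
        field_simp <;> ring
  · intro m hm
    obtain ⟨U, hU⟩ : ∃ U : Subgroup Fˣ, Nat.card U = m := by
      haveI := Fintype.ofFinite F
      obtain ⟨u, hu⟩ := IsCyclic.exists_generator (α := Fˣ)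
      refine ⟨Subgroup.zpowers (u ^ ((Nat.card F - 1) / m)), ?_⟩
      rw [Nat.card_zpowers, orderOf_pow, orderOf_eq_card_of_forall_mem_zpowers hu, Nat.card_units]
      obtain ⟨d, hd⟩ := hm
      have hm0 : 0 < m := Nat.pos_of_ne_zero fun h => by rw [h, zero_mul] at hd; omega
      have hd0 : 0 < d := Nat.pos_of_ne_zero fun h => by rw [h, mul_zero] at hd; omega
      rw [hd, Nat.mul_div_cancel_left _ hm0, Nat.gcd_eq_right (dvd_mul_left d m), Nat.mul_div_cancel _ hd0]
    refine ⟨(((U.comap bchar)).map (borel (F := F)).subtype).map pr,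
      Subgroup.map_mono (Subgroup.map_subtype_le _), ?_, ?_⟩
    · rintro _ ⟨a, ha, rfl⟩ _ ⟨_, ⟨x, hx, rfl⟩, rfl⟩
      refine ⟨_, ⟨⟨a, ha⟩ * x * (⟨a, ha⟩ : borel (F := F))⁻¹, ?_, rfl⟩, by simp⟩
      simpa using hx
    · have hle : (pr (F := F)).ker ≤ (U.comap bchar).map (borel (F := F)).subtype := fun g hg => by
        refine ⟨⟨g, scalar_mem_borel hg⟩, ?_, rfl⟩
        obtain ⟨c, -, hc⟩ := pr_eq_one_iff.1 hg
        have : (⟨g, scalar_mem_borel hg⟩ : borel (F := F)) ∈ bchar.ker := mem_ker_bchar.2 (by simp [hc])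
        rw [SetLike.mem_coe, Subgroup.mem_comap, MonoidHom.mem_ker.1 this]
        exact one_mem U
      have h := card_map_pr hle
      rw [Subgroup.card_map_of_injective (borel (F := F)).subtype_injective] at h
      have h2 : Nat.card (U.comap (bchar (F := F))) = m * ((Nat.card F - 1) * Nat.card F) := by
        have h3 := (U.comap (bchar (F := F))).card_mul_index
        have h4 := U.card_mul_index
        have h5 := (bchar (F := F)).ker.card_mul_index
        rw [Subgroup.index_comap_of_surjective _ bchar_surjective] at h3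
        rw [Subgroup.index_ker, MonoidHom.range_eq_top.2 bchar_surjective, Subgroup.card_top,
          card_ker_bchar] at h5
        refine Nat.eq_of_mul_eq_mul_right (Nat.pos_of_ne_zero U.index_ne_zero_of_finite) ?_
        rw [h3, ← h5, ← h4, hU]
        ring
      rw [h2] at h
      refine Nat.eq_of_mul_eq_mul_right (show 0 < Nat.card F - 1 by omega) ?_
      rw [h]; ring

/-- The centralizer of an element of order `q`, `q` prime. -/
theorem card_centralizer_unip [hp : Fact (Nat.card F).Prime] {x : PG F} (hx : orderOf x = Nat.card F) :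
    Nat.card (Subgroup.centralizer ({x} : Set (PG F))) = Nat.card F := by
  classical
  set p := Nat.card F with hpd
  have hq := one_lt_q (F := F)
  have h2F : (p : F) = 0 := by
    haveI := Fintype.ofFinite F
    rw [hpd, Nat.card_eq_fintype_card, Nat.cast_card_eq_zero]
  -- the standard unipotent
  let u : GL (Fin 2) F := Matrix.GeneralLinearGroup.mkOfDetNeZero !![1, 1; 0, 1] (by simp [Matrix.det_fin_two])
  have hu : (u : Matrix (Fin 2) (Fin 2) F) = !![1, 1; 0, 1] := rfl
  have hupow : ∀ n : ℕ, ((u ^ n : GL (Fin 2) F) : Matrix (Fin 2) (Fin 2) F) = !![1, (n : F); 0, 1] := by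
    intro n
    induction n with
    | zero => simp [Matrix.one_fin_two]
    | succ n ih => rw [pow_succ, Units.val_mul, ih, hu]; simp [add_comm]
  have hC : (Subgroup.centralizer ({pr u} : Set (PG F))) =
      ((bchar (F := F)).ker.map (borel (F := F)).subtype).map pr := by
    apply le_antisymm
    · intro y hy
      obtain ⟨g, rfl⟩ := pr_surjective y
      have h := Subgroup.mem_centralizer_singleton_iff.1 hy
      rw [← map_mul, ← map_mul, pr_eq_iff] at h
      obtain ⟨c, hc, h⟩ := h
      set A := (g : Matrix (Fin 2) (Fin 2) F) with hA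
      have e10 := congrFun (congrFun h 1) 0
      have e00 := congrFun (congrFun h 0) 0
      have e11 := congrFun (congrFun h 1) 1
      have e01 := congrFun (congrFun h 0) 1
      simp [hu, ← hA, Matrix.mul_apply, Fin.sum_univ_two] at e10 e00 e11 e01
      have hd : A.det ≠ 0 := Matrix.GeneralLinearGroup.det_ne_zero g
      rw [Matrix.det_fin_two] at hd
      have h10 : A 1 0 = 0 := by
        by_contra h10
        obtain rfl : c = 1 := mul_right_cancel₀ h10 (by rw [one_mul]; exact e10.symm)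
        exact h10 (by linear_combination e00)
      have h00 : A 0 0 ≠ 0 := fun h0 => hd (by rw [h0, h10]; ring)
      obtain rfl : c = 1 := mul_right_cancel₀ h00 (by linear_combination -e00 + h10)
      refine ⟨g, ⟨⟨g, h10⟩, mem_ker_bchar.2 ?_, rfl⟩, rfl⟩
      show A 0 0 = A 1 1
      linear_combination -e01
    · rintro _ ⟨_, ⟨g, hg, rfl⟩, rfl⟩
      refine Subgroup.mem_centralizer_singleton_iff.2 ?_
      rw [← map_mul, ← map_mul]
      congr 1
      refine Units.ext ?_
      have h1 : _ = _ := mem_ker_bchar.1 hg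
      have h2 := mem_borel.1 g.2
      ext i j
      fin_cases i <;> fin_cases j <;> simp [hu, Matrix.mul_apply, Fin.sum_univ_two, h1, h2, add_comm]
  have hcu : Nat.card (Subgroup.centralizer ({pr u} : Set (PG F))) = p := by
    have hle : (pr (F := F)).ker ≤ (bchar (F := F)).ker.map (borel (F := F)).subtype := fun g hg => by
      refine ⟨⟨g, scalar_mem_borel hg⟩, mem_ker_bchar.2 ?_, rfl⟩
      obtain ⟨c, -, hc⟩ := pr_eq_one_iff.1 hg
      simp [hc]
    have h := card_map_pr hle
    rw [Subgroup.card_map_of_injective (borel (F := F)).subtype_injective, card_ker_bchar] at h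
    rw [hC]
    exact Nat.eq_of_mul_eq_mul_right (show 0 < p - 1 by omega) (by rw [h]; ring)
  have huo : orderOf (pr u) = p := by
    refine orderOf_eq_prime ?_ ?_
    · rw [← map_pow, pr_eq_one_iff]
      exact ⟨1, one_ne_zero, by rw [hupow, h2F]; simp [Matrix.one_fin_two]⟩
    · intro h
      obtain ⟨c, -, h⟩ := pr_eq_one_iff.1 h
      have := congrFun (congrFun h 0) 1
      simp [hu] at this
  -- Sylow
  have hpp : p.Prime := hp.out
  have hsyl : ∀ y : PG F, orderOf y = p → ∃ P : Sylow p (PG F), (P : Subgroup (PG F)) = Subgroup.zpowers y := by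
    intro y hy
    refine ⟨Sylow.ofCard (Subgroup.zpowers y) ?_, rfl⟩
    rw [Nat.card_zpowers, hy, card_PG, ← hpd,
      Nat.factorization_mul hpp.ne_zero (by
        have h4 : 2 ^ 2 ≤ p ^ 2 := Nat.pow_le_pow_left hpp.two_le 2
        omega),
      Finsupp.add_apply, hpp.factorization_self, Nat.factorization_eq_zero_of_not_dvd, add_zero, pow_one]
    intro h
    have : p ∣ p ^ 2 := dvd_pow_self p two_ne_zero
    have h1 : p ∣ 1 := by
      have := Nat.dvd_sub this h
      rwa [Nat.sub_sub_self (Nat.one_le_pow _ _ hpp.pos)] at this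
    exact hpp.not_dvd_one h1
  obtain ⟨P, hP⟩ := hsyl _ huo
  obtain ⟨Q, hQ⟩ := hsyl x hx
  obtain ⟨g, hg⟩ := MulAction.exists_smul_eq (PG F) P Q
  have hmap : (Subgroup.zpowers (pr u)).map (MulAut.conj g).toMonoidHom = Subgroup.zpowers x := by
    rw [← hP, ← hQ, ← hg]
    rfl
  rw [MonoidHom.map_zpowers] at hmap
  have hx' : Subgroup.centralizer ({x} : Set (PG F)) =
      Subgroup.centralizer ({g * pr u * g⁻¹} : Set (PG F)) := by
    rw [← Subgroup.centralizer_closure, ← Subgroup.centralizer_closure {g * pr u * g⁻¹},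
      ← Subgroup.zpowers_eq_closure, ← Subgroup.zpowers_eq_closure, ← hmap]
    rfl
  rw [hx', ← hcu]
  refine (Nat.card_congr (((Subgroup.centralizer ({pr u} : Set (PG F))).equivMapOfInjective
    (MulAut.conj g).toMonoidHom (MulAut.conj g).injective).toEquiv.trans (Equiv.setCongr ?_))).symm
  ext w
  simp only [SetLike.mem_coe, Subgroup.mem_map_equiv, Subgroup.mem_centralizer_singleton_iff,
    MulAut.conj_symm_apply]
  constructor
  · intro h
    calc w * (g * pr u * g⁻¹) = g * (g⁻¹ * w * g * pr u) * g⁻¹ := by group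
      _ = g * (pr u * (g⁻¹ * w * g)) * g⁻¹ := by rw [h]
      _ = _ := by group
  · intro h
    calc g⁻¹ * w * g * pr u = g⁻¹ * (w * (g * pr u * g⁻¹)) * g := by group
      _ = g⁻¹ * (g * pr u * g⁻¹ * w) * g := by rw [h]
      _ = _ := by group

theorem mat_sq_form {A : Matrix (Fin 2) (Fin 2) F} {l : F} (hA : A * A = l • 1)
    (hns : ∀ c : F, A ≠ c • 1) : A 1 1 = -A 0 0 ∧ A 0 0 * A 0 0 + A 0 1 * A 1 0 = l := by
  have e00 := congrFun (congrFun hA 0) 0
  have e01 := congrFun (congrFun hA 0) 1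
  have e10 := congrFun (congrFun hA 1) 0
  have e11 := congrFun (congrFun hA 1) 1
  simp [Matrix.mul_apply, Fin.sum_univ_two] at e00 e01 e10 e11
  refine ⟨?_, e00⟩
  by_contra hne
  have hs : A 0 0 + A 1 1 ≠ 0 := fun h => hne (by linear_combination h)
  have h01 : A 0 1 = 0 := by
    have : A 0 1 * (A 0 0 + A 1 1) = 0 := by linear_combination e01
    simpa [hs] using this
  have h10 : A 1 0 = 0 := by
    have : A 1 0 * (A 0 0 + A 1 1) = 0 := by linear_combination e10
    simpa [hs] using this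
  rcases mul_eq_zero.1 (show (A 0 0 - A 1 1) * (A 0 0 + A 1 1) = 0 by linear_combination e00 - e11) with h | h
  · refine hns (A 0 0) ?_
    ext i j
    fin_cases i <;> fin_cases j <;> simp [h01, h10]
    linear_combination -h
  · exact hs h

/-- A nontrivial element of square one of `PSL₂` has a lift of square minus one. -/
theorem exists_sq_neg_one {s : PG F} (hs : s ∈ commutator (PG F)) (hs2 : s * s = 1) (hs1 : s ≠ 1) :
    ∃ g : GL (Fin 2) F, pr g = s ∧ (g : Matrix (Fin 2) (Fin 2) F) * g = -1 ∧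
      ∀ c : F, (g : Matrix (Fin 2) (Fin 2) F) ≠ c • 1 := by
  classical
  obtain ⟨g, rfl⟩ := pr_surjective s
  rw [← map_mul, pr_eq_one_iff] at hs2
  obtain ⟨l, hl, hg⟩ := hs2
  rw [Units.val_mul] at hg
  have hns : ∀ c : F, (g : Matrix (Fin 2) (Fin 2) F) ≠ c • 1 := fun c hc => by
    refine hs1 (pr_eq_one_iff.2 ⟨c, fun h0 => ?_, hc⟩)
    have := Matrix.GeneralLinearGroup.det_ne_zero g
    rw [hc, h0, zero_smul, Matrix.det_zero] at this
    exact this rfl
  obtain ⟨h11, hl'⟩ := mat_sq_form hg hns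
  -- the determinant of an element of `PSL₂` is a square
  let Q : Subgroup Fˣ := (powMonoidHom 2 : Fˣ →* Fˣ).range
  let δ : PG F →* Fˣ ⧸ Q := QuotientGroup.lift (Subgroup.center (GL (Fin 2) F))
    ((QuotientGroup.mk' Q).comp Matrix.GeneralLinearGroup.det) (by
      intro z hz
      obtain ⟨c, hc, hz⟩ := pr_eq_one_iff.1 (Matrix.ProjGenLinGroup.mk_eq_one.2 hz)
      refine (QuotientGroup.eq_one_iff _).2 ⟨Units.mk0 c hc, Units.ext ?_⟩
      show c ^ 2 = (z : Matrix (Fin 2) (Fin 2) F).det
      rw [hz, Matrix.det_smul]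
      simp)
  letI : CommGroup (Fˣ ⧸ Q) := QuotientGroup.Quotient.commGroup Q
  have hd : δ (pr g) = 1 := by
    have h : commutator (PG F) ≤ δ.ker := by
      rw [_root_.commutator_def, Subgroup.commutator_le]
      intro a _ b _
      rw [MonoidHom.mem_ker, map_commutatorElement, commutatorElement_eq_one_iff_mul_comm]
      exact mul_comm _ _
    exact h hs
  obtain ⟨m, hm⟩ := (QuotientGroup.eq_one_iff _).1 hd
  have hm' : (m : F) ^ 2 = -l := by
    have := congrArg Units.val hm
    simp only [powMonoidHom_apply, Units.val_pow_eq_pow_val, Matrix.GeneralLinearGroup.val_det_apply] at this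
    rw [this, Matrix.det_fin_two, h11]
    linear_combination -hl'
  have hm0 : (m : F) ≠ 0 := m.ne_zero
  refine ⟨g * Matrix.GeneralLinearGroup.scalar (Fin 2) m⁻¹, by
    rw [map_mul, Matrix.ProjGenLinGroup.mk_scalar, mul_one], ?_, ?_⟩
  · have hval : ((g * Matrix.GeneralLinearGroup.scalar (Fin 2) m⁻¹ : GL (Fin 2) F) : Matrix (Fin 2) (Fin 2) F) =
        (m : F)⁻¹ • (g : Matrix (Fin 2) (Fin 2) F) := by
      ext i j; simp [Matrix.GeneralLinearGroup.scalar, mul_comm]
    rw [hval, Matrix.smul_mul, Matrix.mul_smul, hg, smul_smul, smul_smul]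
    rw [show (m : F)⁻¹ * (m : F)⁻¹ * l = -1 by field_simp; linear_combination hm']
    simp
  · intro c hc
    refine hns ((m : F) * c) ?_
    ext i j
    have := congrFun (congrFun hc i) j
    simp [Matrix.GeneralLinearGroup.scalar] at this ⊢
    rcases eq_or_ne i j with rfl | hij
    · simp at this ⊢; field_simp at this; linear_combination this
    · simp [hij] at this ⊢; exact this

/-- The matrices commuting with a non-scalar `g` with `g * g = -1`. -/
theorem commute_form (h2 : (2 : F) ≠ 0) {A Y : Matrix (Fin 2) (Fin 2) F} (hA : A * A = -1)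
    (hns : ∀ c : F, A ≠ c • 1) (hY : Y * A = A * Y) :
    ∃ a b : F, Y = a • 1 + b • A := by
  obtain ⟨h11, hl⟩ := mat_sq_form (l := -1) (by rw [hA]; simp) hns
  have e00 := congrFun (congrFun hY 0) 0
  have e01 := congrFun (congrFun hY 0) 1
  have e10 := congrFun (congrFun hY 1) 0
  simp [Matrix.mul_apply, Fin.sum_univ_two, h11] at e00 e01 e10
  obtain ⟨t, ht⟩ : ∃ t : F, 2 * t = 1 := ⟨2⁻¹, mul_inv_cancel₀ h2⟩
  set B := (Y 0 0 - Y 1 1) * A 0 0 + Y 0 1 * A 1 0 + Y 1 0 * A 0 1 with hB
  refine ⟨(Y 0 0 + Y 1 1) * t, -(B * t), ?_⟩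
  have ka : (Y 0 0 - Y 1 1) + B * A 0 0 = 0 := by
    linear_combination (Y 0 0 - Y 1 1) * hl - t * A 1 0 * e01 + t * A 0 1 * e10 +
      (A 0 0 * Y 0 1 * A 1 0 + A 0 0 * Y 1 0 * A 0 1 - (Y 0 0 - Y 1 1) * A 0 1 * A 1 0) * (-ht)
  have kv : 2 * Y 0 1 + B * A 0 1 = 0 := by
    linear_combination 2 * Y 0 1 * hl + A 0 0 * e01 - A 0 1 * e00
  have kw : 2 * Y 1 0 + B * A 1 0 = 0 := by
    linear_combination 2 * Y 1 0 * hl - A 0 0 * e10 + A 1 0 * e00
  ext i j
  fin_cases i <;> fin_cases j <;> simp [h11]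
  · linear_combination -Y 0 0 * ht + t * ka
  · linear_combination -Y 0 1 * ht + t * kv
  · linear_combination -Y 1 0 * ht + t * kw
  · linear_combination -Y 1 1 * ht - t * ka

/-- The torus centralizing an involution of `PSL₂`. -/
theorem exists_torus (h2 : (2 : F) ≠ 0) {s : PG F} (hs : s ∈ commutator (PG F)) (hs2 : s * s = 1)
    (hs1 : s ≠ 1) : ∃ T : Subgroup (PG F), (∀ y ∈ T, y * s = s * y) ∧
      (Nat.card F % 4 = 3 → Nat.card T = Nat.card F + 1) ∧
      (Nat.card F % 4 = 1 → Nat.card T = Nat.card F - 1) := by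
  classical
  obtain ⟨g, rfl, hg, hns⟩ := exists_sq_neg_one hs hs2 hs1
  set A := (g : Matrix (Fin 2) (Fin 2) F) with hA
  set C : Subgroup (GL (Fin 2) F) := Subgroup.centralizer {g}
  obtain ⟨h11, hl⟩ := mat_sq_form (l := -1) (show A * A = (-1 : F) • 1 by rw [hg]; simp) hns
  have hdet : ∀ a b : F, (a • (1 : Matrix (Fin 2) (Fin 2) F) + b • A).det = a ^ 2 + b ^ 2 := fun a b => by
    simp [Matrix.det_fin_two, h11]
    linear_combination -(b ^ 2) * hl
  have huniq : ∀ a b a' b' : F, a • (1 : Matrix (Fin 2) (Fin 2) F) + b • A = a' • 1 + b' • A →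
      a = a' ∧ b = b' := by
    intro a b a' b' h
    by_cases hb : b = b'
    · subst hb
      exact ⟨by simpa using congrFun (congrFun h 0) 0, rfl⟩
    · have h' : (b - b') • A = (a' - a) • (1 : Matrix (Fin 2) (Fin 2) F) := by
        rw [sub_smul, sub_smul, sub_eq_sub_iff_add_eq_add, add_comm, h, add_comm]
      refine absurd ?_ (hns ((b - b')⁻¹ * (a' - a)))
      rw [← smul_smul, ← h', inv_smul_smul₀ (sub_ne_zero.2 hb)]
  have e : C ≃ {ab : F × F // ab.1 ^ 2 + ab.2 ^ 2 ≠ 0} := (Equiv.ofBijective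
    (fun ab : {ab : F × F // ab.1 ^ 2 + ab.2 ^ 2 ≠ 0} => (⟨Matrix.GeneralLinearGroup.mkOfDetNeZero
        (ab.1.1 • 1 + ab.1.2 • A) (by rw [hdet]; exact ab.2),
      Subgroup.mem_centralizer_singleton_iff.2 (Units.ext (show
        (ab.1.1 • 1 + ab.1.2 • A) * A = A * (ab.1.1 • 1 + ab.1.2 • A) by simp [add_mul, mul_add]))⟩ : C))
    ⟨fun u v h => by
      have h' : u.1.1 • (1 : Matrix (Fin 2) (Fin 2) F) + u.1.2 • A = v.1.1 • 1 + v.1.2 • A :=
        congrArg (fun w : C => ((w : GL (Fin 2) F) : Matrix (Fin 2) (Fin 2) F)) h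
      obtain ⟨h1, h2⟩ := huniq _ _ _ _ h'
      exact Subtype.ext (Prod.ext h1 h2),
    fun y => by
      obtain ⟨a, b, hab⟩ := commute_form h2 hg hns (Y := ((y : GL (Fin 2) F) : Matrix _ _ F))
        (congrArg Units.val (Subgroup.mem_centralizer_singleton_iff.1 y.2))
      have hne : a ^ 2 + b ^ 2 ≠ 0 := by
        rw [← hdet, ← hab]; exact Matrix.GeneralLinearGroup.det_ne_zero _
      exact ⟨⟨(a, b), hne⟩, Subtype.ext (Units.ext hab.symm)⟩⟩).symm
  have hle : (pr (F := F)).ker ≤ C := fun z hz => by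
    obtain ⟨c, -, hc⟩ := pr_eq_one_iff.1 hz
    exact Subgroup.mem_centralizer_singleton_iff.2 (Units.ext (by simp [hc]))
  have hT := card_map_pr hle
  have hq := one_lt_q (F := F)
  haveI := Fintype.ofFinite F
  refine ⟨C.map pr, ?_, fun h4 => ?_, fun h4 => ?_⟩
  · rintro _ ⟨y, hy, rfl⟩
    rw [← map_mul, ← map_mul, Subgroup.mem_centralizer_singleton_iff.1 hy]
  · have hno : ¬ IsSquare (-1 : F) := by
      rw [FiniteField.isSquare_neg_one_iff, ← Nat.card_eq_fintype_card]; omega
    have hz : ∀ a b : F, a ^ 2 + b ^ 2 = 0 ↔ (a, b) = (0, 0) := fun a b => by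
      refine ⟨fun h => ?_, fun h => by obtain ⟨rfl, rfl⟩ := Prod.mk.inj h; ring⟩
      by_cases hb : b = 0
      · subst hb; simp at h; simp [h]
      · exact absurd ⟨a / b, by field_simp; linear_combination -h⟩ hno
    have hc : Nat.card C = Nat.card F * Nat.card F - 1 := by
      rw [Nat.card_congr e, Nat.card_congr (Equiv.subtypeEquivRight (q := fun ab : F × F => ab ≠ (0, 0))
        fun ab => (hz ab.1 ab.2).not), Nat.card_eq_fintype_card, Fintype.card_subtype_compl,
        Fintype.card_subtype_eq, Fintype.card_prod, Nat.card_eq_fintype_card]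
    refine Nat.eq_of_mul_eq_mul_right (show 0 < Nat.card F - 1 by omega) ?_
    rw [hT, hc, ← Nat.mul_self_sub_mul_self_eq, one_mul]
  · obtain ⟨i, hi⟩ : IsSquare (-1 : F) := by
      rw [FiniteField.isSquare_neg_one_iff, ← Nat.card_eq_fintype_card]; omega
    have hi0 : i ≠ 0 := fun h => by rw [h, mul_zero] at hi; exact neg_ne_zero.2 one_ne_zero hi
    have hc : Nat.card C = (Nat.card F - 1) * (Nat.card F - 1) := by
      rw [Nat.card_congr e, ← Nat.card_units, ← Nat.card_prod]
      refine Nat.card_congr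
        { toFun := fun ab => (Units.mk0 (ab.1.1 + i * ab.1.2) ?_, Units.mk0 (ab.1.1 - i * ab.1.2) ?_)
          invFun := fun uv => ⟨(((uv.1 : F) + uv.2) / 2, ((uv.1 : F) - uv.2) / (2 * i)), ?_⟩
          left_inv := fun ab => ?_
          right_inv := fun uv => ?_ }
      · exact fun h => ab.2 (by linear_combination (ab.1.1 - i * ab.1.2) * h - ab.1.2 ^ 2 * hi)
      · exact fun h => ab.2 (by linear_combination (ab.1.1 + i * ab.1.2) * h - ab.1.2 ^ 2 * hi)
      · have huv : (uv.1 : F) * uv.2 ≠ 0 := mul_ne_zero uv.1.ne_zero uv.2.ne_zero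
        intro h
        field_simp at h
        refine huv ?_
        have h4 : (4 : F) * i ^ 2 ≠ 0 := mul_ne_zero (by
          rw [show (4 : F) = 2 * 2 by norm_num]; exact mul_ne_zero h2 h2) (pow_ne_zero 2 hi0)
        apply mul_left_cancel₀ h4
        linear_combination h + ((uv.1 : F) - uv.2) ^ 2 * hi
      · refine Subtype.ext (Prod.ext ?_ ?_) <;> simp <;> field_simp <;> ring
      · refine Prod.ext (Units.ext ?_) (Units.ext ?_) <;> simp <;> field_simp <;> ring
    exact Nat.eq_of_mul_eq_mul_right (show 0 < Nat.card F - 1 by omega) (by rw [hT, hc])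

/-- An element commuting with two distinct commuting involutions, one of them in `PSL₂`. -/
theorem pow_four_eq_one (h2 : (2 : F) ≠ 0) {s t y : PG F} (hs : s ∈ commutator (PG F)) (hs2 : s * s = 1)
    (hs1 : s ≠ 1) (ht2 : t * t = 1) (ht1 : t ≠ 1) (hts : t ≠ s) (hcom : t * s = s * t)
    (hys : y * s = s * y) (hyt : y * t = t * y) : y ^ 4 = 1 := by
  obtain ⟨g, rfl, hg, hns⟩ := exists_sq_neg_one hs hs2 hs1
  obtain ⟨t, rfl⟩ := pr_surjective t
  obtain ⟨y, rfl⟩ := pr_surjective y
  set A := (g : Matrix (Fin 2) (Fin 2) F) with hA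
  set T := (t : Matrix (Fin 2) (Fin 2) F) with hT
  set Y := (y : Matrix (Fin 2) (Fin 2) F) with hY
  have hAne : A ≠ 0 := fun h => hns 0 (by rw [h, zero_smul])
  -- commuting in `PGL₂` means commuting up to sign
  have sign : ∀ x : GL (Fin 2) F, pr x * pr g = pr g * pr x →
      (x : Matrix (Fin 2) (Fin 2) F) * A = A * x ∨ (x : Matrix (Fin 2) (Fin 2) F) * A = -(A * x) := by
    intro x hx
    rw [← map_mul, ← map_mul, eq_comm, pr_eq_iff] at hx
    obtain ⟨c, hc, hx⟩ := hx
    rw [Units.val_mul, Units.val_mul] at hx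
    have h : (x : Matrix (Fin 2) (Fin 2) F) = (c * c) • (x : Matrix (Fin 2) (Fin 2) F) := by
      calc (x : Matrix (Fin 2) (Fin 2) F) = -((x : Matrix (Fin 2) (Fin 2) F) * A * A) := by
            rw [mul_assoc, hg, mul_neg, mul_one, neg_neg]
        _ = -((c * c) • (A * A * (x : Matrix (Fin 2) (Fin 2) F))) := by
            rw [hx, smul_mul_assoc, mul_assoc, hx, mul_smul_comm, smul_smul, mul_assoc]
        _ = _ := by rw [hg, neg_one_mul, smul_neg, neg_neg]
    have hcc : c * c = 1 := by
      by_contra hne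
      have : ((c * c) - 1) • (x : Matrix (Fin 2) (Fin 2) F) = 0 := by rw [sub_smul, one_smul, ← h, sub_self]
      rcases smul_eq_zero.1 this with h' | h'
      · exact hne (sub_eq_zero.1 h')
      · exact (Units.ne_zero x) h'
    rcases mul_self_eq_one_iff.1 hcc with rfl | rfl
    · exact Or.inl (by rw [hx, one_smul])
    · exact Or.inr (by rw [hx, neg_smul, one_smul])
  have hTA : T * A = -(A * T) := by
    rcases sign t hcom with h | h
    · exfalso
      obtain ⟨a, b, hab⟩ := commute_form h2 hg hns h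
      rw [← hT] at hab
      rw [← map_mul, pr_eq_one_iff] at ht2
      obtain ⟨l, -, hl⟩ := ht2
      rw [Units.val_mul, ← hT, hab] at hl
      have h' : (2 * a * b) • A = (l - a * a + b * b) • (1 : Matrix (Fin 2) (Fin 2) F) := by
        rw [add_mul, mul_add, mul_add, smul_mul_smul_comm, smul_mul_smul_comm, smul_mul_smul_comm,
          smul_mul_smul_comm, mul_one, one_mul, mul_one, hg] at hl
        ext i j
        have := congrFun (congrFun hl i) j
        simp at this ⊢
        linear_combination this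
      by_cases hab0 : 2 * a * b = 0
      · rcases mul_eq_zero.1 hab0 with h0 | h0
        · rcases mul_eq_zero.1 h0 with h0' | h0'
          · exact h2 h0'
          · refine hts (Eq.symm (pr_eq_iff.2 ⟨b, fun hb => ?_, by rw [← hA, ← hT, hab, h0']; simp⟩))
            have := Matrix.GeneralLinearGroup.det_ne_zero t
            rw [← hT, hab, h0', hb] at this
            simp at this
        · refine ht1 (pr_eq_one_iff.2 ⟨a, fun ha => ?_, by rw [← hT, hab, h0]; simp⟩)
          have := Matrix.GeneralLinearGroup.det_ne_zero t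
          rw [← hT, hab, ha, h0] at this
          simp at this
      · refine hns ((2 * a * b)⁻¹ * (l - a * a + b * b)) ?_
        rw [← smul_smul, ← h', inv_smul_smul₀ hab0]
    · exact h
  -- the square of `y` commutes with `g`
  have hY2 : Y * Y * A = A * (Y * Y) := by
    rcases sign y hys with h | h
    · rw [mul_assoc, h, ← mul_assoc, h, mul_assoc]
    · rw [mul_assoc, h, mul_neg, ← mul_assoc, h, neg_mul, neg_neg, mul_assoc]
  obtain ⟨a, b, hab⟩ := commute_form h2 hg hns hY2
  have hyt' : pr (y * y) * pr t = pr t * pr (y * y) := by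
    rw [map_mul]
    exact ((show Commute (pr y) (pr t) from hyt).mul_left hyt).eq
  rw [← map_mul, ← map_mul, pr_eq_iff] at hyt'
  obtain ⟨c, hc, hyt'⟩ := hyt'
  simp only [Units.val_mul, ← hY, ← hT, hab] at hyt'
  -- `T (a + b A) = c (a + b A) T`
  rw [mul_add, add_mul, smul_add, mul_smul_comm, mul_smul_comm, smul_mul_assoc, smul_mul_assoc, mul_one,
    one_mul, hTA, smul_neg, smul_smul, smul_smul] at hyt'
  have h' : (a • (1 : Matrix (Fin 2) (Fin 2) F) + (-b) • A) * T = ((c * a) • 1 + (c * b) • A) * T := by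
    simp only [add_mul, smul_mul_assoc, one_mul, neg_smul, neg_mul]
    exact hyt'
  have h'' : a • (1 : Matrix (Fin 2) (Fin 2) F) + (-b) • A = (c * a) • 1 + (c * b) • A :=
    (Units.mul_left_inj t).1 h'
  have h3 : (-b - c * b) • A = (c * a - a) • (1 : Matrix (Fin 2) (Fin 2) F) := by
    rw [sub_smul, sub_smul, sub_eq_sub_iff_add_eq_add, add_comm, h'', add_comm]
  have hz : -b - c * b = 0 := by
    by_contra hne
    refine hns ((-b - c * b)⁻¹ * (c * a - a)) ?_
    rw [← smul_smul, ← h3, inv_smul_smul₀ hne]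
  rw [hz, zero_smul] at h3
  have hz' : c * a - a = 0 := by
    have := congrFun (congrFun h3.symm 0) 0
    simpa using this
  have hdetne : a ≠ 0 ∨ b ≠ 0 := by
    by_contra h
    push Not at h
    have := Matrix.GeneralLinearGroup.det_ne_zero (y * y)
    rw [Units.val_mul, ← hY, hab, h.1, h.2] at this
    simp at this
  rw [show (4 : ℕ) = 2 * 2 from rfl, pow_mul, ← map_pow, pow_two (pr (y ^ 2)), ← map_mul, pr_eq_one_iff]
  rcases hdetne with ha | hb
  · have hc1 : c = 1 := by
      have : (c - 1) * a = 0 := by linear_combination hz'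
      simpa [ha, sub_eq_zero] using this
    subst hc1
    have hb0 : b = 0 := by
      have : 2 * b = 0 := by linear_combination -hz
      simpa [h2] using this
    refine ⟨a * a, mul_ne_zero ha ha, ?_⟩
    rw [pow_two y]
    simp only [Units.val_mul, ← hY]
    rw [hab, hb0]
    simp [smul_smul]
  · have hc1 : c = -1 := by
      have : (c + 1) * b = 0 := by linear_combination -hz
      simpa [hb, add_eq_zero_iff_eq_neg] using this
    subst hc1
    have ha0 : a = 0 := by
      have : 2 * a = 0 := by linear_combination -hz'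
      simpa [h2] using this
    refine ⟨-(b * b), neg_ne_zero.2 (mul_ne_zero hb hb), ?_⟩
    rw [pow_two y]
    simp only [Units.val_mul, ← hY]
    rw [hab, ha0]
    simp [hg, smul_smul]

/-- `PSL₂(q)` inside `PGL₂(q)`. -/
theorem exists_perfect (h3 : 3 < Nat.card F) : ∃ P : Subgroup (PG F), ⁅P, P⁆ = P ∧
    ∀ r : ℕ, r.Prime → r ≠ 2 → r ∣ Nat.card F * (Nat.card F ^ 2 - 1) → r ∣ Nat.card P := by
  classical
  haveI := Fintype.ofFinite F
  set φ := Matrix.SpecialLinearGroup.toPGL (n := Fin 2) (R := F) with hφ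
  refine ⟨φ.range, ?_, fun r hr hr2 hdvd => ?_⟩
  · have hx : ∃ x : F, x ≠ 0 ∧ x ^ 2 ≠ 1 := by
      by_contra h
      push Not at h
      have hsub : (Finset.univ : Finset F) ⊆ {0, 1, -1} := fun x _ => by
        by_cases hx0 : x = 0
        · simp [hx0]
        · rcases sq_eq_one_iff.1 (h x hx0) with e | e <;> simp [e]
      have := (Finset.card_le_card hsub).trans Finset.card_le_three
      rw [Finset.card_univ, ← Nat.card_eq_fintype_card] at this
      omega
    rw [MonoidHom.range_eq_map, ← Subgroup.map_commutator, ← _root_.commutator_def,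
      CfsgLib.Linear.commutator_SL_eq_top (Or.inr hx)]
  · haveI := Fact.mk hr
    have hdvd' : r ∣ Nat.card (Matrix.SpecialLinearGroup (Fin 2) F) := by
      have h1 := Nat.card_congr (QuotientGroup.quotientKerEquivRange
        (Matrix.GeneralLinearGroup.det : GL (Fin 2) F →* Fˣ)).toEquiv
      have h2 := (Matrix.GeneralLinearGroup.det : GL (Fin 2) F →* Fˣ).ker.card_mul_index
      rw [Subgroup.index, h1, ← CfsgLib.Linear.toGL_range] at h2
      have h4 : Nat.card ((Matrix.GeneralLinearGroup.det : GL (Fin 2) F →* Fˣ).range) = Nat.card F - 1 := by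
        rw [MonoidHom.range_eq_top.2, Subgroup.card_top, Nat.card_units]
        intro u
        exact ⟨Matrix.GeneralLinearGroup.mkOfDetNeZero !![(u : F), 0; 0, 1] (by simp [Matrix.det_fin_two]),
          Units.ext (by simp [Matrix.GeneralLinearGroup.mkOfDetNeZero, Matrix.det_fin_two])⟩
      rw [h4, card_GL_two, Nat.card_congr (MonoidHom.ofInjective
        Matrix.SpecialLinearGroup.toGL_injective).toEquiv.symm] at h2
      have hq := one_lt_q (F := F)
      have : Nat.card (Matrix.SpecialLinearGroup (Fin 2) F) = Nat.card F * (Nat.card F ^ 2 - 1) := by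
        refine Nat.eq_of_mul_eq_mul_right (show 0 < Nat.card F - 1 by omega) ?_
        rw [h2, sq (Nat.card F), show Nat.card F * Nat.card F - Nat.card F = Nat.card F * (Nat.card F - 1) by
          rw [Nat.mul_sub, mul_one]]
        ring
      rwa [this]
    obtain ⟨x, hx⟩ := exists_prime_orderOf_dvd_card' r hdvd'
    have hne : φ x ≠ 1 := fun h => by
      rw [← MonoidHom.mem_ker, Matrix.SpecialLinearGroup.toPGL_ker,
        Matrix.SpecialLinearGroup.mem_center_iff] at h
      obtain ⟨c, hc, hcx⟩ := h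
      rw [Fintype.card_fin] at hc
      have hsq : x ^ 2 = 1 := by
        refine Subtype.ext ?_
        rw [Matrix.SpecialLinearGroup.coe_pow, ← hcx, ← map_pow, hc, map_one]
        rfl
      have := orderOf_dvd_of_pow_eq_one hsq
      rw [hx] at this
      exact hr2 ((Nat.prime_dvd_prime_iff_eq hr Nat.prime_two).1 this)
    have ho : orderOf (φ x) = r := orderOf_eq_prime (by rw [← map_pow, ← hx, pow_orderOf_eq_one, map_one]) hne
    have h := orderOf_dvd_natCard (⟨φ x, ⟨x, rfl⟩⟩ : φ.range)
    rw [← Subgroup.orderOf_coe] at h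
    exact ho ▸ h

end CfsgLib.AlmostZ.PGLTwo
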