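import Cfsg.Agent.AlmostZ.Basic
import Cfsg.Agent.AlmostZ.PGLTwo
import Cfsg.Agent.GWApps.QDCentralizer
import Cfsg.Agent.LocalB.OddSignalizer
import Cfsg.Agent.SL2C.Basic
import Cfsg.Agent.SmallSimple.SixThousand.Tools

/-!
# The centralizer of the central involution maps onto `PGL₂(p)`

A simple group with semidihedral Sylow 2-subgroup and cyclic odd Sylow subgroups: `C(σ ^ h)` maps
onto `PGL₂(p)`, the kernel being the product of the odd core with the involution.
-/

set_option autoImplicit false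
set_option linter.style.haveILetI false
set_option linter.unusedSectionVars false

namespace CfsgLib.AlmostZ

open Subgroup
open scoped commutatorElement

universe u

variable {G : Type u} [Group G] {S : Sylow 2 G} {σ τ : G} {h : ℕ}

namespace Gen

variable (D : Gen S σ τ h)
include D

theorem exists_k : ∃ k : ℕ, h = 4 * 2 ^ k ∧ h / 2 = 2 * 2 ^ k := by
  obtain ⟨k, hk⟩ := D.hh
  refine ⟨k, ?_, ?_⟩
  · rw [hk, pow_add]; ring
  · rw [hk, pow_add]; omega

theorem zpow_eq_iff {a b : ℤ} : σ ^ a = σ ^ b ↔ (2 * (h : ℤ)) ∣ a - b := by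
  rw [← mul_inv_eq_one, ← zpow_sub, ← orderOf_dvd_iff_zpow_eq_one, D.ordσ]
  push_cast
  rfl

theorem conj_zpow' (i : ℤ) : τ * σ ^ i * τ⁻¹ = σ ^ (((h : ℤ) - 1) * i) := by
  rw [zpow_mul, ← D.rel, conj_zpow]

theorem pow_eq (n : ℕ) : σ ^ n = σ ^ (n : ℤ) := (zpow_natCast σ n).symm

theorem orderOf_z : orderOf (σ ^ h) = 2 := by
  obtain ⟨k, hk, -⟩ := D.exists_k
  have hk0 : 0 < 2 ^ k := Nat.two_pow_pos k
  rw [orderOf_pow' _ (by omega), D.ordσ, Nat.gcd_eq_right (dvd_mul_left h 2), Nat.mul_div_cancel _ (by omega)]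

theorem conj_z : τ * σ ^ h * τ⁻¹ = σ ^ h := by
  obtain ⟨k, hk, -⟩ := D.exists_k
  rw [D.pow_eq, D.conj_zpow', D.zpow_eq_iff]
  exact ⟨2 * 2 ^ k - 1, by rw [hk]; push_cast; ring⟩

theorem z_comm {g : G} (hg : g ∈ (S : Subgroup G)) : g * σ ^ h = σ ^ h * g := by
  have hs : ∀ i : ℤ, Commute (σ ^ i) (σ ^ h) := fun i => ((Commute.refl σ).pow_right h).zpow_left i
  obtain ⟨i, rfl | rfl⟩ := D.cases g hg
  · exact (hs i).eq
  · exact ((hs i).mul_left (mul_inv_eq_iff_eq_mul.1 D.conj_z)).eq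

theorem le_cen : (S : Subgroup G) ≤ cen (σ ^ h) := fun _ hg =>
  mem_centralizer_singleton_iff.2 (D.z_comm hg)

theorem orderOf_f : orderOf (σ ^ (h / 2)) = 4 := by
  obtain ⟨k, hk, hk2⟩ := D.exists_k
  have hk0 : 0 < 2 ^ k := Nat.two_pow_pos k
  rw [orderOf_pow' _ (by omega), D.ordσ,
    Nat.gcd_eq_right (⟨4, by omega⟩ : h / 2 ∣ 2 * h),
    show 2 * h = 4 * (h / 2) by omega, Nat.mul_div_cancel _ (by omega)]

theorem f_sq : σ ^ (h / 2) * σ ^ (h / 2) = σ ^ h := by
  obtain ⟨k, hk, hk2⟩ := D.exists_k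
  rw [← pow_add]
  congr 1
  omega

theorem f_sq_ne : σ ^ (h / 2) * σ ^ (h / 2) ≠ 1 := by
  rw [D.f_sq]
  intro e
  have := D.orderOf_z
  rw [e, orderOf_one] at this
  omega

theorem conj_f : τ * σ ^ (h / 2) * τ⁻¹ = (σ ^ (h / 2))⁻¹ := by
  obtain ⟨k, hk, hk2⟩ := D.exists_k
  rw [D.pow_eq, D.conj_zpow', ← zpow_neg, D.zpow_eq_iff]
  exact ⟨2 ^ k, by rw [hk2, hk]; push_cast; ring⟩

theorem f_mem : σ ^ (h / 2) ∈ (S : Subgroup G) := pow_mem D.σ_mem _

/-- Only the rotations commute with the element of order four of the rotation group. -/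
theorem mem_zpowers_of_comm_f {g : G} (hg : g ∈ (S : Subgroup G))
    (hc : g * σ ^ (h / 2) = σ ^ (h / 2) * g) : ∃ i : ℤ, g = σ ^ i := by
  obtain ⟨i, rfl | rfl⟩ := D.cases g hg
  · exact ⟨i, rfl⟩
  · exfalso
    have h1 : σ ^ i * τ * σ ^ (h / 2) * (σ ^ i * τ)⁻¹ = (σ ^ (h / 2))⁻¹ := by
      calc σ ^ i * τ * σ ^ (h / 2) * (σ ^ i * τ)⁻¹
          = σ ^ i * (τ * σ ^ (h / 2) * τ⁻¹) * (σ ^ i)⁻¹ := by group
        _ = (σ ^ (h / 2))⁻¹ := by
            rw [D.conj_f, mul_inv_eq_iff_eq_mul]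
            exact (((Commute.refl σ).pow_right (h / 2)).zpow_left i).inv_right.eq
    rw [hc, mul_inv_cancel_right] at h1
    exact D.f_sq_ne (mul_eq_one_iff_eq_inv.2 h1)

theorem invol_comm_four {g : G} (hg : g ∈ (S : Subgroup G)) (hgo : orderOf g = 2)
    (hc : g * σ ^ (h / 2) = σ ^ (h / 2) * g) : g = σ ^ h := by
  obtain ⟨i, rfl⟩ := D.mem_zpowers_of_comm_f hg hc
  have h1 : (σ ^ i) ^ (2 : ℤ) = 1 := by
    rw [show (2 : ℤ) = ((2 : ℕ) : ℤ) from rfl, zpow_natCast, ← hgo, pow_orderOf_eq_one]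
  rw [← zpow_mul, ← zpow_zero σ, D.zpow_eq_iff, sub_zero] at h1
  obtain ⟨c, hc'⟩ := h1
  have hi : i = (h : ℤ) * c := by linarith
  rcases Int.even_or_odd c with ⟨d, rfl⟩ | ⟨d, rfl⟩
  · exfalso
    have : σ ^ i = 1 := by
      rw [← zpow_zero σ, D.zpow_eq_iff]
      exact ⟨d, by rw [hi]; ring⟩
    rw [this, orderOf_one] at hgo
    omega
  · rw [D.pow_eq, D.zpow_eq_iff]
    exact ⟨d, by rw [hi]; ring⟩

theorem f_mem_commutator {X : Subgroup G} (hσ : σ ∈ X) (hτ : τ ∈ X) :
    (⟨σ ^ (h / 2), pow_mem hσ _⟩ : X) ∈ commutator X := by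
  obtain ⟨k, hk, hk2⟩ := D.exists_k
  have h1 : (⟨σ ^ ((h : ℤ) - 2), zpow_mem hσ _⟩ : X) ∈ commutator X := by
    have he : (⟨σ ^ ((h : ℤ) - 2), zpow_mem hσ _⟩ : X) = ⁅(⟨τ, hτ⟩ : X), ⟨σ, hσ⟩⁆ := by
      refine Subtype.ext ?_
      show σ ^ ((h : ℤ) - 2) = τ * σ * τ⁻¹ * σ⁻¹
      rw [D.rel, ← zpow_neg_one σ, ← zpow_add]
      congr 1
      ring
    rw [he]
    exact commutator_mem_commutator (mem_top _) (mem_top _)
  -- `h - 2` is twice an odd number, so invertible modulo `2 h` up to a factor two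
  have hco : Int.gcd ((2 : ℤ) * 2 ^ k - 1) (4 * 2 ^ k) = 1 := by
    rw [← Int.isCoprime_iff_gcd_eq_one, show (4 : ℤ) * 2 ^ k = 2 ^ (k + 2) by ring]
    exact (show IsCoprime ((2 : ℤ) * 2 ^ k - 1) 2 from ⟨-1, 2 ^ k, by ring⟩).pow_right
  have hb := Int.gcd_eq_gcd_ab ((2 : ℤ) * 2 ^ k - 1) (4 * 2 ^ k)
  rw [hco, Nat.cast_one] at hb
  set a := Int.gcdA ((2 : ℤ) * 2 ^ k - 1) (4 * 2 ^ k)
  set b := Int.gcdB ((2 : ℤ) * 2 ^ k - 1) (4 * 2 ^ k)
  have h2 := zpow_mem h1 (a * 2 ^ k)
  convert h2 using 1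
  refine Subtype.ext ?_
  show σ ^ (h / 2) = (σ ^ ((h : ℤ) - 2)) ^ (a * 2 ^ k)
  rw [D.pow_eq, ← zpow_mul, D.zpow_eq_iff, hk2, hk]
  push_cast
  exact ⟨b * 2 ^ k, by linear_combination (2 * 2 ^ k : ℤ) * hb⟩

end Gen

/-- A finite group whose odd Sylow subgroups are cyclic has only cyclic odd `p`-sections. -/
theorem isCyclic_quotient_pgroup [Finite G] (hodd : OddCyclic G) {H : Subgroup G} {D : Type*} [Group D]
    [Finite D] {π : H →* D} (hπ : Function.Surjective π) {p : ℕ} (hp : p.Prime) (hp2 : p ≠ 2)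
    {P : Subgroup D} (hP : IsPGroup p P) : IsCyclic P := by
  haveI := Fact.mk hp
  obtain ⟨Q, hQ⟩ := hP.exists_le_sylow
  obtain ⟨R, rfl⟩ := Sylow.mapSurjective_surjective hπ p Q
  obtain ⟨T, hT⟩ := (R.2.map H.subtype).exists_le_sylow
  haveI := hodd p hp hp2 T
  haveI : IsCyclic ((R : Subgroup H).map H.subtype) :=
    isCyclic_of_injective (inclusion hT) (inclusion_injective hT)
  haveI : IsCyclic (R : Subgroup H) := isCyclic_of_surjective
    (equivMapOfInjective _ H.subtype H.subtype_injective).symm.toMonoidHom (MulEquiv.surjective _)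
  haveI : IsCyclic ((R : Subgroup H).map π) :=
    isCyclic_of_surjective (π.subgroupMap _) (π.subgroupMap_surjective _)
  exact isCyclic_of_injective (inclusion (show P ≤ (R : Subgroup H).map π from hQ)) (inclusion_injective _)

theorem sl_two_no_index_two {F : Type} [Field F] [Finite F] (h2 : (2 : F) ≠ 0)
    (K : Subgroup (Matrix.SpecialLinearGroup (Fin 2) F)) : K.index ≠ 2 := by
  intro hK
  haveI := normal_of_index_eq_two hK
  have : K = ⊤ := eq_top_iff.2 fun A _ => CfsgLib.Linear.transvection_induction (fun A => A ∈ K)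
    (fun i j hij c => by
      have h' : ((c * 2⁻¹) : F) + c * 2⁻¹ = c := by field_simp; ring
      rw [← h', Matrix.SpecialLinearGroup.transvection_add hij]
      exact mul_self_mem_of_index_two hK _)
    (fun _ _ => mul_mem) A
  rw [this, index_top] at hK
  omega

theorem sl_two_invol {F : Type} [Field F] [Finite F] (h2 : (2 : F) ≠ 0) {x : Matrix.SpecialLinearGroup (Fin 2) F}
    (hx : x * x = 1) : x = 1 ∨ x = -1 := by
  have h : (x : Matrix (Fin 2) (Fin 2) F) * x = (1 : F) • 1 := by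
    rw [one_smul, ← Matrix.SpecialLinearGroup.coe_mul, hx, Matrix.SpecialLinearGroup.coe_one]
  by_cases hs : ∃ c : F, (x : Matrix (Fin 2) (Fin 2) F) = c • 1
  · obtain ⟨c, hc⟩ := hs
    have hd := x.2
    rw [hc, Matrix.det_smul, Matrix.det_one, mul_one, Fintype.card_fin, sq, mul_self_eq_one_iff] at hd
    rcases hd with rfl | rfl
    · exact Or.inl (Subtype.ext (by rw [hc, one_smul, Matrix.SpecialLinearGroup.coe_one]))
    · exact Or.inr (Subtype.ext (by
        rw [hc, neg_smul, one_smul, Matrix.SpecialLinearGroup.coe_neg, Matrix.SpecialLinearGroup.coe_one]))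
  · push Not at hs
    obtain ⟨h11, hl⟩ := PGLTwo.mat_sq_form h hs
    have hd := x.2
    rw [Matrix.det_fin_two, h11] at hd
    exact absurd (show (2 : F) = 0 by linear_combination -hl - hd) h2

theorem sl_two_card_center {F : Type} [Field F] [Finite F] (h2 : (2 : F) ≠ 0) :
    Nat.card (center (Matrix.SpecialLinearGroup (Fin 2) F)) = 2 := by
  have hneg : (-1 : Matrix.SpecialLinearGroup (Fin 2) F) ∈ center _ :=
    Subgroup.mem_center_iff.2 fun g => Subtype.ext (by simp)
  rw [Nat.card_eq_two_iff]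
  refine ⟨1, ⟨-1, hneg⟩, fun e => h2 ?_, Set.eq_univ_of_forall fun x => ?_⟩
  · have := congrArg (fun a : center (Matrix.SpecialLinearGroup (Fin 2) F) =>
      (((a : Matrix.SpecialLinearGroup (Fin 2) F)) : Matrix (Fin 2) (Fin 2) F) 0 0) e
    simp at this
    linear_combination this
  · obtain ⟨c, hc, hcx⟩ := Matrix.SpecialLinearGroup.mem_center_iff.1 x.2
    rw [Fintype.card_fin] at hc
    have : (x : Matrix.SpecialLinearGroup (Fin 2) F) * x = 1 := by
      refine Subtype.ext ?_
      rw [Matrix.SpecialLinearGroup.coe_mul, ← hcx, ← map_mul, ← sq, hc, map_one]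
      rfl
    rcases sl_two_invol h2 this with e | e
    · exact Or.inl (Subtype.ext e)
    · exact Or.inr (Subtype.ext e)

/-- Transport of automorphisms along an isomorphism. -/
def autCongr {A : Type*} {B : Type*} [Group A] [Group B] (e : A ≃* B) : MulAut A →* MulAut B where
  toFun f := (e.symm.trans f).trans e
  map_one' := by ext x; simp
  map_mul' f g := by ext x; simp [MulAut.mul_apply]

theorem autCongr_injective {A : Type*} {B : Type*} [Group A] [Group B] (e : A ≃* B) :
    Function.Injective (autCongr e) := fun f g h => MulEquiv.ext fun x => by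
  have := DFunLike.congr_fun h (e x)
  simpa [autCongr] using this

variable [Finite G] [Group.IsPerfect G]

/-- **`C(σ ^ h)` maps onto `PGL₂(p)`.** -/
theorem exists_map (hGW : CfsgLib.GWApps.Statement.{u}) (hodd : OddCyclic G) (D : Gen S σ τ h) :
    ∃ (F : Type) (_ : Field F) (_ : Finite F) (ρ : cen (σ ^ h) →* PGLTwo.PG F),
      (Nat.card F).Prime ∧ Nat.card F ≠ 2 ∧ (2 : F) ≠ 0 ∧ Function.Surjective ρ ∧
      Cfsg.oddCore (cen (σ ^ h)) ≤ ρ.ker ∧
      (⟨σ ^ h, D.le_cen (pow_mem D.σ_mem h)⟩ : cen (σ ^ h)) ∈ ρ.ker ∧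
      Nat.card ρ.ker = 2 * Nat.card (Cfsg.oddCore (cen (σ ^ h))) := by
  classical
  haveI : Fact (Nat.Prime 2) := ⟨Nat.prime_two⟩
  set z : G := σ ^ h with hz
  set H : Subgroup G := cen z with hH
  obtain ⟨F, iF, iFF, hFodd, ⟨e⟩⟩ := GWApps.qd_centralizer_mod_core hGW S (Or.inl D.isQuasiDihedral)
    no_index_two z D.orderOf_z
  have h2 : (2 : F) ≠ 0 := fun e2 => by
    have h1 : addOrderOf (1 : F) = 2 := addOrderOf_eq_prime (by rw [two_nsmul, ← e2]; norm_num) one_ne_zero
    have h3 := addOrderOf_dvd_card (x := (1 : F))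
    rw [h1] at h3
    exact Nat.not_even_iff_odd.2 hFodd (even_iff_two_dvd.2 h3)
  set O := Cfsg.oddCore H with hO
  set π := QuotientGroup.mk' O with hπdef
  have hπ : Function.Surjective π := QuotientGroup.mk'_surjective _
  set N : Subgroup (H ⧸ O) := commutator (H ⧸ O) with hN
  -- two elements of the Sylow subgroup equal modulo the core are equal
  have hSO : ∀ x : H, (x : G) ∈ (S : Subgroup G) → π x = 1 → (x : G) = 1 := fun x hx h1 => by
    obtain ⟨j, hj⟩ := IsPGroup.iff_orderOf.1 S.2 ⟨x, hx⟩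
    rw [Subgroup.orderOf_mk] at hj
    have h3 := DGroup.odd_orderOf (DGroup.odd_oddCore H) ((QuotientGroup.eq_one_iff x).1 h1)
    rw [← Subgroup.orderOf_coe, hj] at h3
    rcases j.eq_zero_or_pos with rfl | hj0
    · exact orderOf_eq_one_iff.1 (hj.trans (pow_zero 2))
    · exact absurd (Nat.even_pow.2 ⟨even_two, by omega⟩) (Nat.not_even_iff_odd.2 h3)
  let z' : H := ⟨z, D.le_cen (pow_mem D.σ_mem h)⟩
  let f' : H := ⟨σ ^ (h / 2), D.le_cen D.f_mem⟩
  let τ' : H := ⟨τ, D.le_cen D.τ_mem⟩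
  have hz'c : π z' ∈ center (H ⧸ O) := mem_center_iff.2 fun g => by
    obtain ⟨g, rfl⟩ := hπ g
    rw [← map_mul, ← map_mul]
    congr 1
    exact Subtype.ext (mem_centralizer_singleton_iff.1 g.2)
  have hz'1 : π z' ≠ 1 := fun h1 => by
    have h3 := D.orderOf_z
    rw [show σ ^ h = 1 from hSO z' (pow_mem D.σ_mem h) h1, orderOf_one] at h3
    omega
  have hf'N : π f' ∈ N := by
    have h1 := mem_map_of_mem π (D.f_mem_commutator (D.le_cen D.σ_mem) (D.le_cen D.τ_mem))
    rw [_root_.commutator_def, Subgroup.map_commutator] at h1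
    exact Subgroup.commutator_mono le_top le_top h1
  have hff : f' * f' = z' := Subtype.ext D.f_sq
  have hz'N : π z' ∈ N := by rw [← hff, map_mul]; exact mul_mem hf'N hf'N
  -- the field is prime
  obtain ⟨p, hchar⟩ := CharP.exists F
  obtain ⟨n, hp, hpn⟩ := FiniteField.card F p
  haveI := Fact.mk hp
  have hp2 : p ≠ 2 := by
    intro e2
    rw [hpn, e2] at hFodd
    exact Nat.not_even_iff_odd.2 hFodd (Nat.even_pow.2 ⟨even_two, n.pos.ne'⟩)
  let U : Multiplicative F →* Matrix.SpecialLinearGroup (Fin 2) F :=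
    { toFun := fun a => Matrix.SpecialLinearGroup.transvection (show (0 : Fin 2) ≠ 1 by decide) a.toAdd
      map_one' := by
        refine Subtype.ext ?_
        simp [CfsgLib.Linear.transvec_coe]
      map_mul' := fun a b => Matrix.SpecialLinearGroup.transvection_add _ _ _ }
  have hU : Function.Injective U := fun a b hab => by
    have := congrArg (fun A : Matrix.SpecialLinearGroup (Fin 2) F => (A : Matrix (Fin 2) (Fin 2) F) 0 1) hab
    change ((Matrix.SpecialLinearGroup.transvection (show (0 : Fin 2) ≠ 1 by decide) a.toAdd :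
      Matrix.SpecialLinearGroup (Fin 2) F) : Matrix (Fin 2) (Fin 2) F) 0 1 =
      ((Matrix.SpecialLinearGroup.transvection (show (0 : Fin 2) ≠ 1 by decide) b.toAdd :
      Matrix.SpecialLinearGroup (Fin 2) F) : Matrix (Fin 2) (Fin 2) F) 0 1 at this
    simpa [CfsgLib.Linear.transvec_coe, Matrix.transvection] using this
  have hn : (n : ℕ) = 1 := by
    let V : Multiplicative F →* H ⧸ O := N.subtype.comp (e.symm.toMonoidHom.comp U)
    have hV : Function.Injective V := N.subtype_injective.comp (e.symm.injective.comp hU)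
    have hVp : IsPGroup p V.range := IsPGroup.of_card (n := n) (by
      rw [← Nat.card_congr (MonoidHom.ofInjective hV).toEquiv, Nat.card_congr Multiplicative.toAdd,
        Nat.card_eq_fintype_card, hpn])
    haveI := isCyclic_quotient_pgroup hodd hπ hp hp2 hVp
    haveI : IsCyclic (Multiplicative F) :=
      isCyclic_of_surjective (MonoidHom.ofInjective hV).symm.toMonoidHom (MulEquiv.surjective _)
    obtain ⟨g, hg⟩ := IsCyclic.exists_ofOrder_eq_natCard (α := Multiplicative F)
    have hd : orderOf g ∣ p := orderOf_dvd_of_pow_eq_one (by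
      refine Multiplicative.toAdd.injective ?_
      rw [toAdd_pow, toAdd_one, nsmul_eq_mul, CharP.cast_eq_zero, zero_mul])
    rw [hg, Nat.card_congr Multiplicative.toAdd, Nat.card_eq_fintype_card, hpn,
      ← Nat.pow_one p, ← pow_mul, one_mul] at hd
    have := (Nat.pow_dvd_pow_iff_le_right hp.one_lt).1 hd
    have := n.pos
    omega
  have hq : Nat.card F = p := by rw [Nat.card_eq_fintype_card, hpn, hn, pow_one]
  -- the action on `PSL₂`
  have hN2 : ∀ K : Subgroup N, K.index ≠ 2 :=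
    GWApps.no_index_two_of_surj (f := e.symm.toMonoidHom) e.symm.surjective (sl_two_no_index_two h2)
  have hNc : Nat.card (center N) = 2 := by
    rw [Nat.card_congr (Subgroup.centerCongr e).toEquiv, sl_two_card_center h2]
  let ψ : N ⧸ center N ≃* Matrix.ProjectiveSpecialLinearGroup (Fin 2) F :=
    QuotientGroup.congr _ _ e (by
      ext y
      rw [mem_map, mem_center_iff]
      constructor
      · rintro ⟨l, hl, rfl⟩ g
        obtain ⟨g', rfl⟩ := e.surjective g
        show e g' * e l = e l * e g'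
        rw [← map_mul, ← map_mul, mem_center_iff.1 hl g']
      · intro hy
        refine ⟨e.symm y, mem_center_iff.2 fun g => e.injective ?_, e.apply_symm_apply y⟩
        rw [map_mul, map_mul, e.apply_symm_apply, hy])
  let α : H ⧸ O →* MulAut (Matrix.ProjectiveSpecialLinearGroup (Fin 2) F) :=
    ((autCongr ψ).comp (GWApps.quotCenterAut N)).comp MulAut.conjNormal
  set C : Subgroup (H ⧸ O) := centralizer (N : Set (H ⧸ O)) with hC
  have hker : α.ker = C := by
    apply le_antisymm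
    · intro x hx
      exact GWApps.centralizer_of_quot hN2 hNc (autCongr_injective ψ (hx.trans (map_one _).symm))
    · intro x hx
      have h1 : (MulAut.conjNormal x : MulAut N) = 1 := by
        ext l
        rw [MulAut.conjNormal_apply, MulAut.one_apply, mul_inv_eq_iff_eq_mul]
        exact (mem_centralizer_iff.1 hx l l.2).symm
      rw [MonoidHom.mem_ker]
      show autCongr ψ (GWApps.quotCenterAut N (MulAut.conjNormal x)) = 1
      rw [h1, map_one, map_one]
  -- the centralizer of `N` has order two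
  haveI : C.Normal := Subgroup.normal_centralizer (H := N)
  have hz'C : π z' ∈ C := mem_centralizer_iff.2 fun l _ => mem_center_iff.1 hz'c l
  have hCN : ∀ x ∈ C, x ∈ N → x * x = 1 := fun x hx hxN => by
    have h1 : (⟨x, hxN⟩ : N) ∈ center N := mem_center_iff.2 fun l =>
      Subtype.ext (mem_centralizer_iff.1 hx l l.2)
    have h3 : (⟨⟨x, hxN⟩, h1⟩ : center N) ^ 2 = 1 := by rw [← hNc]; exact pow_card_eq_one'
    rw [sq] at h3
    exact congrArg (fun a : center N => ((a : N) : H ⧸ O)) h3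
  set T : Sylow 2 (H ⧸ O) := (S.subtype D.le_cen).mapSurjective hπ with hT
  have hTC : ∀ y ∈ (T : Subgroup (H ⧸ O)), y ∈ C → y = 1 ∨ y = π z' := by
    rintro _ ⟨s, hs, rfl⟩ hyC
    have hcomm : (s : G) * σ ^ (h / 2) = σ ^ (h / 2) * s := by
      have h1 : π (s * f' * s⁻¹ * f'⁻¹) = 1 := by
        rw [map_mul, map_mul, map_mul, map_inv, map_inv, ← mem_centralizer_iff.1 hyC _ hf'N,
          mul_inv_cancel_right, mul_inv_cancel]
      have h3 := hSO _ (mul_mem (mul_mem (mul_mem hs D.f_mem) (inv_mem hs)) (inv_mem D.f_mem)) h1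
      exact mul_inv_eq_iff_eq_mul.1 (mul_inv_eq_one.1 h3)
    obtain ⟨i, hi'⟩ := D.mem_zpowers_of_comm_f hs hcomm
    have hi : (s : G) = σ ^ i := hi'
    -- if the order is at least four, a power is the element of order four
    obtain ⟨k, hk, hk2⟩ := D.exists_k
    have hd : Int.gcd i ((2 * h : ℕ) : ℤ) ∣ 2 ^ (k + 3) := by
      rw [show 2 ^ (k + 3) = 2 * h by rw [hk]; ring]
      exact Int.natCast_dvd_natCast.1 (Int.gcd_dvd_right _ _)
    obtain ⟨a, ha, hag⟩ := (Nat.dvd_prime_pow Nat.prime_two).1 hd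
    by_cases hak : a ≤ k + 1
    · exfalso
      have hb := Int.gcd_eq_gcd_ab i ((2 * h : ℕ) : ℤ)
      rw [hag] at hb
      set A := Int.gcdA i ((2 * h : ℕ) : ℤ)
      set B := Int.gcdB i ((2 * h : ℕ) : ℤ)
      have hfs : f' = s ^ (A * 2 ^ (k + 1 - a)) := by
        refine Subtype.ext ?_
        show σ ^ (h / 2) = ((s ^ _ : H) : G)
        rw [SubgroupClass.coe_zpow, hi, ← zpow_mul, D.pow_eq, D.zpow_eq_iff, hk2]
        refine ⟨B * 2 ^ (k + 1 - a), ?_⟩
        have e1 : (2 : ℤ) ^ a * 2 ^ (k + 1 - a) = 2 * 2 ^ k := by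
          rw [← pow_add, Nat.add_sub_cancel' hak, pow_succ']
        push_cast at hb ⊢
        linear_combination (2 : ℤ) ^ (k + 1 - a) * hb - e1
      have hfC : π f' ∈ C := by rw [hfs, map_zpow]; exact zpow_mem hyC _
      refine hz'1 ?_
      rw [← hff, map_mul, hCN _ hfC hf'N]
    · have hdi : ((h : ℕ) : ℤ) ∣ i := by
        refine Dvd.dvd.trans ?_ (Int.gcd_dvd_left i ((2 * h : ℕ) : ℤ))
        rw [hag, Int.natCast_dvd_natCast, show h = 2 ^ (k + 2) by rw [hk]; ring]
        exact pow_dvd_pow 2 (by omega)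
      obtain ⟨c, hc⟩ := hdi
      rcases Int.even_or_odd c with ⟨d, rfl⟩ | ⟨d, rfl⟩
      · left
        have : s = 1 := by
          refine Subtype.ext ?_
          rw [hi, OneMemClass.coe_one, ← zpow_zero σ, D.zpow_eq_iff]
          exact ⟨d, by rw [hc]; ring⟩
        rw [this, map_one]
      · right
        congr 1
        refine Subtype.ext ?_
        rw [hi]
        show σ ^ i = σ ^ h
        rw [D.pow_eq, D.zpow_eq_iff]
        exact ⟨d, by rw [hc]; ring⟩
  have hz'T : π z' ∈ (T : Subgroup (H ⧸ O)) := ⟨z', pow_mem D.σ_mem h, rfl⟩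
  have hC2dvd : 2 ∣ Nat.card C := by
    have ho : orderOf (π z') = 2 := orderOf_eq_prime (by
      rw [← map_pow, show z' ^ 2 = 1 from Subtype.ext (show z ^ 2 = 1 by
        rw [← D.orderOf_z]; exact pow_orderOf_eq_one z), map_one]) hz'1
    rw [← ho]
    exact Subgroup.orderOf_dvd_natCard C hz'C
  obtain ⟨c, hc⟩ := hC2dvd
  have hcodd : Odd c := by
    by_contra hev
    rw [Nat.not_odd_iff_even, even_iff_two_dvd] at hev
    obtain ⟨R, hR⟩ := Sylow.exists_subgroup_card_pow_prime (G := C) (n := 2) 2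
      (by obtain ⟨d, rfl⟩ := hev; exact ⟨d, by rw [hc]; ring⟩)
    have hR2 : IsPGroup 2 (R.map C.subtype) := (IsPGroup.of_card (n := 2) hR).map C.subtype
    obtain ⟨T', hT'⟩ := hR2.exists_le_sylow
    obtain ⟨g, hg⟩ := MulAction.exists_smul_eq (H ⧸ O) T' T
    have hsub : ((R.map C.subtype).map (MulAut.conj g).toMonoidHom : Set (H ⧸ O)) ⊆ {1, π z'} := by
      rintro _ ⟨_, ⟨r, hr, rfl⟩, rfl⟩
      refine hTC _ ?_ (Subgroup.Normal.conj_mem inferInstance _ r.2 g)
      have : (T : Subgroup (H ⧸ O)) = (T' : Subgroup (H ⧸ O)).map (MulAut.conj g).toMonoidHom := by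
        rw [← hg]; rfl
      rw [this]
      exact mem_map_of_mem _ (hT' (mem_map_of_mem _ hr))
    have h4 := Set.ncard_le_ncard hsub
    rw [← Nat.card_coe_set_eq, SetLike.coe_sort_coe, card_map_of_injective (MulAut.conj g).injective,
      card_map_of_injective C.subtype_injective, hR, Set.ncard_pair (Ne.symm hz'1)] at h4
    omega
  have hC2 : Nat.card C = 2 := by
    obtain ⟨Y, hYn, hY⟩ := SixThousand.exists_index_two hc (Nat.odd_iff.1 hcodd)
    have hYc : Nat.card Y = c := by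
      have := Y.card_mul_index
      rw [hY, hc] at this
      omega
    have hYodd : ∀ x : C, x ∈ Y ↔ Odd (orderOf x) := fun x =>
      ⟨fun hx => (hYc ▸ hcodd).of_dvd_nat (Subgroup.orderOf_dvd_natCard _ hx), fun hx => by
        obtain ⟨m, hm⟩ := hx
        have h1 : x ^ (2 * m + 1) = 1 := by rw [← hm]; exact pow_orderOf_eq_one x
        rw [pow_succ, pow_mul, pow_two] at h1
        have h3 : (x * x) ^ m ∈ Y := pow_mem (mul_self_mem_of_index_two hY x) m
        exact inv_mem_iff.1 (by rw [← mul_eq_one_iff_eq_inv.1 h1]; exact h3)⟩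
    have hYnorm : (Y.map C.subtype).Normal := ⟨by
      rintro _ ⟨x, hx, rfl⟩ g
      refine ⟨⟨g * x * g⁻¹, Subgroup.Normal.conj_mem inferInstance _ x.2 g⟩, (hYodd _).2 ?_, rfl⟩
      rw [← Subgroup.orderOf_coe]
      show Odd (orderOf (g * (x : H ⧸ O) * g⁻¹))
      rw [← MulAut.conj_apply, MulEquiv.orderOf_eq, Subgroup.orderOf_coe]
      exact (hYodd x).1 hx⟩
    have hle : Y.map C.subtype ≤ Cfsg.oddCore (H ⧸ O) := DGroup.le_oddCore hYnorm (by
      rw [card_map_of_injective C.subtype_injective, hYc]; exact hcodd)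
    rw [LocalB.oddCore_quotient, le_bot_iff] at hle
    have : Nat.card Y = 1 := by
      rw [← card_map_of_injective C.subtype_injective, hle, card_bot]
    omega
  -- the image is all of `PGL₂`
  have hrange : ∀ x, α x ∈ (AutPSL.innDiagHom 2 F).range := fun x => by
    obtain ⟨g, s, hgs⟩ := AutPSL.exists_semi_two (α x)
    obtain ⟨eA⟩ := AutPSL.nonempty_ringAut_equiv (F := F) (p := p) le_rfl (by rw [hpn, hn])
    haveI : Subsingleton (Multiplicative (ZMod 1)) := Multiplicative.toAdd.subsingleton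
    haveI : Subsingleton (RingAut F) := eA.toEquiv.subsingleton
    refine ⟨g, ?_⟩
    rw [AutPSL.innDiagHom_apply, hgs,
      show (RingEquiv.refl F : RingAut F) = s from Subsingleton.elim _ _]
  let eR : PGLTwo.PG F ≃* (AutPSL.innDiagHom 2 F).range :=
    (QuotientGroup.quotientMulEquivOfEq (AutPSL.ker_innDiagHom (F := F) le_rfl).symm).trans
      (QuotientGroup.quotientKerEquivRange _)
  let ρ : H →* PGLTwo.PG F := (eR.symm.toMonoidHom.comp (α.codRestrict _ hrange)).comp π
  have hρker : ρ.ker = C.comap π := by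
    ext x
    rw [MonoidHom.mem_ker, mem_comap, ← hker, MonoidHom.mem_ker]
    show eR.symm (α.codRestrict _ hrange (π x)) = 1 ↔ _
    rw [MulEquiv.map_eq_one_iff, Subtype.ext_iff]
    rfl
  have hρcard : Nat.card ρ.ker = 2 * Nat.card O := by
    let q : (C.comap π) →* C := π.subgroupComap C
    have hq : Function.Surjective q := MonoidHom.subgroupComap_surjective_of_surjective π C hπ
    have h1 := q.ker.card_mul_index
    rw [index_ker, MonoidHom.range_eq_top.2 hq, card_top, hC2] at h1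
    rw [hρker, ← h1, mul_comm]
    congr 1
    let w : q.ker ≃ O :=
      { toFun := fun a => ⟨((a : C.comap π) : H), (QuotientGroup.eq_one_iff _).1
          (congrArg (fun b : C => (b : H ⧸ O)) (a.2 : q (a : C.comap π) = 1))⟩
        invFun := fun o => ⟨⟨o, by
            rw [mem_comap, show π o = 1 from (QuotientGroup.eq_one_iff _).2 o.2]
            exact one_mem C⟩, Subtype.ext ((QuotientGroup.eq_one_iff _).2 o.2)⟩
        left_inv := fun _ => rfl
        right_inv := fun _ => rfl }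
    exact Nat.card_congr w
  have hsl : Nat.card N = Nat.card F * (Nat.card F ^ 2 - 1) := by
    rw [Nat.card_congr e.toEquiv, SL2C.card_SL2_mul, Nat.card_eq_fintype_card]
  have hNne : N.index ≠ 1 := fun h1 => by
    have hτN : π τ' ∈ N := by rw [index_eq_one.1 h1]; exact mem_top _
    have hτ2 : τ' * τ' = 1 := Subtype.ext (show τ * τ = 1 by
      rw [← pow_two, ← D.ordτ]; exact pow_orderOf_eq_one τ)
    have key : ∀ x : H, (x : G) ∈ (S : Subgroup G) → orderOf (x : G) = 2 → (hx : π x ∈ N) →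
        e ⟨π x, hx⟩ = -1 := fun x hxS hxo hx => by
      have hx2 : x * x = 1 := Subtype.ext (show (x : G) * x = 1 by
        rw [← pow_two, ← hxo]; exact pow_orderOf_eq_one _)
      refine (sl_two_invol h2 ?_).resolve_left fun e1 => ?_
      · rw [← map_mul, ← map_one e]
        congr 1
        exact Subtype.ext (show π x * π x = 1 by rw [← map_mul, hx2, map_one])
      · have := congrArg Subtype.val (e.map_eq_one_iff.1 e1)
        rw [hSO x hxS this, orderOf_one] at hxo
        omega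
    have heq : π τ' = π z' := congrArg Subtype.val (e.injective
      ((key τ' D.τ_mem D.ordτ hτN).trans (key z' (pow_mem D.σ_mem h) D.orderOf_z hz'N).symm))
    have h3 := hSO (τ' * z'⁻¹) (mul_mem D.τ_mem (inv_mem (pow_mem D.σ_mem h)))
      (by rw [map_mul, map_inv, heq, mul_inv_cancel])
    refine D.τ_not ?_
    have h4 : τ * z⁻¹ = 1 := h3
    rw [mul_inv_eq_one.1 h4]
    exact pow_mem (mem_zpowers σ) h
  have hρsurj : Function.Surjective ρ := by
    rw [← MonoidHom.range_eq_top]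
    refine eq_top_of_le_card _ ?_
    have h1 := ρ.ker.card_mul_index
    rw [index_ker, hρcard] at h1
    have h3 := O.card_mul_index
    rw [index, ← N.card_mul_index, hsl] at h3
    have h4 : 2 ≤ N.index := by
      have := N.index_ne_zero_of_finite
      omega
    have hOp : 0 < Nat.card O := Nat.card_pos
    rw [PGLTwo.card_PG]
    have h5 : 2 * Nat.card O * Nat.card ρ.range =
        Nat.card O * (Nat.card F * (Nat.card F ^ 2 - 1) * N.index) := by rw [h1, h3]
    by_contra hlt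
    push Not at hlt
    have h6 : Nat.card F * (Nat.card F ^ 2 - 1) * 2 ≤ Nat.card F * (Nat.card F ^ 2 - 1) * N.index :=
      Nat.mul_le_mul_left _ h4
    have h7 : Nat.card O * (2 * Nat.card ρ.range) <
        Nat.card O * (Nat.card F * (Nat.card F ^ 2 - 1) * 2) := Nat.mul_lt_mul_of_pos_left (by omega) hOp
    have h8 := Nat.mul_le_mul_left (Nat.card O) h6
    rw [← h5] at h8
    linarith
  refine ⟨F, iF, Finite.of_fintype F, ρ, hq ▸ hp, hq ▸ hp2, h2, hρsurj, ?_, ?_, hρcard⟩
  · intro x hx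
    rw [hρker, mem_comap, show π x = 1 from (QuotientGroup.eq_one_iff _).2 hx]
    exact one_mem C
  · rw [hρker]
    exact hz'C

end CfsgLib.AlmostZ
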