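import Cfsg.Agent.AlmostZ.Defs
import Cfsg.Agent.S0157
import Cfsg.Agent.BlocksB.PrincipalNorm
import Cfsg.Agent.Invol.IsolatedApps

/-!
# The character of degree `p` of a group with a subgroup of index `p + 1`
-/

set_option autoImplicit false
set_option linter.style.haveILetI false
set_option linter.unusedSectionVars false

namespace CfsgLib.AlmostZ

open Cfsg Finset CfsgLib.Block
open scoped Classical

universe u

variable {H : Type u} [Group H] [Fintype H] {B : Subgroup H} {p : ℕ}

/-- **The doubly transitive character and its sum over the elements of odd order.** -/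
theorem Borel.exists_deg_p (hB : Borel B p) (hp : 1 ≤ p) :
    ∃ (ξ : IrrCharacter H) (K j : ℕ), (ξ : H → ℂ) 1 = (p : ℂ) ∧ Odd K ∧
      Nat.card H = (p + 1) * (2 ^ j * K) ∧
      PrincipalNorm.regSum 2 (ξ : H → ℂ) =
        ((p + 1) * K : ℕ) - PrincipalNorm.regSum 2 (fun _ : H => (1 : ℂ)) := by
  haveI : Fintype (H ⧸ B) := Fintype.ofFinite _
  have hX : Nat.card (H ⧸ B) = p + 1 := by rw [← Subgroup.index_eq_card, hB.index]
  obtain ⟨K, hKB, hKodd, hKn, j, hj⟩ := hB.complement
  haveI h2 : MulAction.IsMultiplyPretransitive H (H ⧸ B) 2 := by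
    rw [MulAction.is_two_pretransitive_iff]
    intro a b c d hab hcd
    induction a using QuotientGroup.induction_on with | _ a =>
    induction b using QuotientGroup.induction_on with | _ b =>
    induction c using QuotientGroup.induction_on with | _ c =>
    induction d using QuotientGroup.induction_on with | _ d =>
    obtain ⟨s, hs, t, ht, e⟩ := hB.double (a⁻¹ * b) (c⁻¹ * d)
      (fun h' => hab (QuotientGroup.eq.2 h')) (fun h' => hcd (QuotientGroup.eq.2 h'))
    refine ⟨c * s * a⁻¹, ?_, ?_⟩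
    · rw [MulAction.Quotient.smul_coe, smul_eq_mul, inv_mul_cancel_right, QuotientGroup.eq]
      simpa [mul_assoc] using B.inv_mem hs
    · rw [MulAction.Quotient.smul_coe, smul_eq_mul, QuotientGroup.eq]
      have e' : d = c * (s * (a⁻¹ * b) * t) := by rw [← e]; group
      rw [show (c * s * a⁻¹ * b)⁻¹ * d = t by rw [e']; group]
      exact ht
  have hirr := (Cfsg.Agent.S0157.result (G := H) (H ⧸ B) (by omega)).2 h2
  refine ⟨⟨_, hirr⟩, Nat.card K, j, ?_, hKodd, ?_, ?_⟩
  · show (Nat.card (MulAction.fixedBy (H ⧸ B) (1 : H)) : ℂ) - 1 = (p : ℂ)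
    rw [MulAction.fixedBy_one_eq_univ, Nat.card_congr (Equiv.Set.univ _), hX]
    push_cast; ring
  · rw [← B.index_mul_card, hB.index, hj]
  show PrincipalNorm.regSum 2 (fun g : H => (Nat.card (MulAction.fixedBy (H ⧸ B) g) : ℂ) - 1) = _
  simp only [PrincipalNorm.regSum, sum_sub_distrib]
  congr 1
  set R := (univ : Finset H).filter fun g => ¬ 2 ∣ orderOf g
  have hK : ∀ g ∈ B, ¬ 2 ∣ orderOf g → g ∈ K := by
    intro g hg hodd
    haveI : (K.subgroupOf B).Normal := ⟨fun n hn b => Subgroup.mem_subgroupOf.2 (by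
      push_cast; exact hKn b b.2 n (Subgroup.mem_subgroupOf.1 hn))⟩
    set π := QuotientGroup.mk' (K.subgroupOf B)
    have hcard : Nat.card (B ⧸ K.subgroupOf B) = 2 ^ j := by
      have h1 := (K.subgroupOf B).card_eq_card_quotient_mul_card_subgroup
      rw [hj, Nat.card_congr (Subgroup.subgroupOfEquivOfLe hKB).toEquiv] at h1
      exact (mul_right_cancel₀ Nat.card_pos.ne' h1).symm
    have h1 : orderOf (π ⟨g, hg⟩) ∣ 2 ^ j := hcard ▸ orderOf_dvd_natCard _
    have h2 : orderOf (π ⟨g, hg⟩) ∣ orderOf g := by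
      refine (orderOf_map_dvd π ⟨g, hg⟩).trans ?_
      rw [Subgroup.orderOf_mk]
    have h3 : orderOf (π ⟨g, hg⟩) = 1 :=
      Nat.eq_one_of_dvd_coprimes ((Nat.prime_two.coprime_iff_not_dvd.2 hodd).pow_left j) h1 h2
    exact Subgroup.mem_subgroupOf.1 ((QuotientGroup.eq_one_iff _).1 (orderOf_eq_one_iff.1 h3))
  have hfib : ∀ x : H ⧸ B, (R.filter fun g => g • x = x).card = Nat.card K := by
    intro x
    induction x using QuotientGroup.induction_on with | _ y =>
    rw [Nat.card_eq_fintype_card, ← card_univ]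
    have hfix : ∀ g : H, g • (y : H ⧸ B) = y ↔ y⁻¹ * g * y ∈ B := fun g => by
      rw [MulAction.Quotient.smul_coe, smul_eq_mul, QuotientGroup.eq, ← B.inv_mem_iff]
      simp [mul_assoc]
    refine (card_bij (fun (v : K) _ => y * (v : H) * y⁻¹) (fun v _ => ?_)
      (fun v _ w _ e => Subtype.ext (mul_left_cancel (mul_right_cancel e))) fun g hg => ?_).symm
    · refine mem_filter.2 ⟨mem_filter.2 ⟨mem_univ _, ?_⟩, (hfix _).2 ?_⟩
      · rw [CfsgLib.Invol.orderOf_conj_eq, Subgroup.orderOf_coe]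
        exact fun hd => Nat.not_even_iff_odd.2 hKodd
          (even_iff_two_dvd.2 (hd.trans (orderOf_dvd_natCard v)))
      · rw [show y⁻¹ * (y * (v : H) * y⁻¹) * y = v by group]
        exact hKB v.2
    · obtain ⟨h1, h3⟩ := mem_filter.1 hg
      refine ⟨⟨y⁻¹ * g * y, hK _ ((hfix g).1 h3) ?_⟩, mem_univ _, by group⟩
      have e := CfsgLib.Invol.orderOf_conj_eq y⁻¹ g
      rw [inv_inv] at e
      rw [e]
      exact (mem_filter.1 h1).2
  have hcount : ∀ g : H, Nat.card (MulAction.fixedBy (H ⧸ B) g) =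
      ∑ x : H ⧸ B, if g • x = x then 1 else 0 := fun g => by
    rw [Nat.card_eq_fintype_card, sum_boole, Nat.cast_id]
    exact Fintype.card_subtype _
  rw [← Nat.cast_sum, Nat.cast_inj]
  simp only [hcount]
  rw [sum_comm]
  simp only [sum_boole, hfib, Nat.cast_id, sum_const, card_univ, smul_eq_mul]
  rw [← Nat.card_eq_fintype_card, hX]

end CfsgLib.AlmostZ
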