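import Cfsg.Agent.BlocksB.SemidihedralDefect.Main

/-!
# The columns at the central involution from given columns of its centralizer
-/

set_option autoImplicit false
set_option linter.style.haveILetI false
set_option linter.unusedSectionVars false

namespace CfsgLib.AlmostZ

open Cfsg Finset CfsgLib.SDDefect CfsgLib.Block CfsgLib.Block.Chr CfsgLib.BrauerPairs CfsgLib.BlockStar
  CfsgLib.BlockB CfsgLib.Char
open CfsgLib.QuatDefect (Fus exists_sub contribR_idem sum_contribR_self)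
open CfsgLib.DihDefect (DihData exists_local_maxPair)
open scoped ComplexConjugate
open scoped Classical

universe u

variable {M : Ideal AlgInt} [M.IsPrime] [Fact (Nat.Prime 2)] [CharP (Residue M) 2]
  {G : Type u} [Group G] [Fintype G]

local notation "𝕜" => Residue M
local notation "Z[" x "]" => Subgroup.zpowers x
local notation "C[" Q "]" => Subgroup.centralizer (SetLike.coe Q)

/-- **The columns at the central involution exist.** -/
theorem exists_zData_form {B : Set (IrrCharacter G)} {D : Subgroup G}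
    {e : MonoidAlgebra (Residue M) G} {σ τ : G} {h : ℕ} (S : SDData (M := M) B D e σ τ h)
    [Fintype B] [Fintype C[Z[σ ^ h]]] {f : Set (IrrCharacter C[Z[σ ^ h]])} (hf : IsPBlock M f)
    [Fintype f] (hfe : idemIn M C[Z[σ ^ h]] f = subBlk 2 D e (σ ^ h))
    {tf sf : IrrCharacter C[Z[σ ^ h]] → ℤ} (F : FormData f (h / 2) tf sf) :
    ∃ n : IrrCharacter G → f → ℤ, (∀ (φ : IrrCharacter G) (ξ : f), classInner (secFun C[Z[σ ^ h]] (σ ^ h) φ)
        ((ξ : IrrCharacter C[Z[σ ^ h]]) : C[Z[σ ^ h]] → ℂ) = (n φ ξ : ℂ)) ∧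
      ZData S (blockRank 2 f) (fun χ : B => ∑ ξ : f, n χ.1 ξ * tf ξ.1)
        (fun χ : B => ∑ ξ : f, n χ.1 ξ * sf ξ.1) := by
  have hM := S.hM
  have hh := S.h_pos
  have hzD := S.pow_mem_D h
  obtain ⟨f', hf', hfe', hind'⟩ := exists_sub hM S.hB S.hmax hzD
  have hind : IsInducedBlock M C[Z[σ ^ h]] f B := by
    rwa [idemIn_injective hf' hf (hfe'.trans hfe.symm)] at hind'
  obtain ⟨hbd, e', hemb, hmax'⟩ :=
    exists_local_maxPair hM S.hB S.hmax hzD S.le_centralizer hf hfe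
  have hH := CfsgLib.BlockB.centralizer_zpowers_eq (σ ^ h)
  have hord : orderOf (σ ^ h) = 2 ^ 1 := by rw [S.orderOf_z, pow_one]
  choose L N hL _ _ hLN using fun (φ : IrrCharacter G) (ξ : f) =>
    exists_section_coeff (M := M) hM hH hord φ ξ.1
  have hint : ∀ (φ : IrrCharacter G) (ξ : f), ∃ n : ℤ, classInner (secFun C[Z[σ ^ h]] (σ ^ h) φ)
      ((ξ : IrrCharacter C[Z[σ ^ h]]) : C[Z[σ ^ h]] → ℂ) = (n : ℂ) := by
    intro φ ξ
    have h1 := hL φ ξ
    rw [pow_one, pow_two] at h1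
    rcases mul_self_eq_one_iff.1 h1 with e1 | e1
    · exact ⟨N φ ξ, by rw [hLN, e1, one_mul, Int.cast_natCast]⟩
    · exact ⟨-(N φ ξ : ℤ), by rw [hLN, e1, neg_one_mul, Int.cast_neg, Int.cast_natCast]⟩
  choose n hn using hint
  set t : B → ℤ := fun χ => ∑ ξ : f, n χ.1 ξ * tf ξ.1 with ht
  set s : B → ℤ := fun χ => ∑ ξ : f, n χ.1 ξ * sf ξ.1 with hs
  set m : B → B → ℤ := fun χ ψ => t χ * t ψ + ((h / 2 : ℕ) : ℤ) * (s χ * s ψ) with hm
  have hd : ((2 : ℕ) : ℂ) ^ blockDefect 2 B = ((4 * h : ℕ) : ℂ) := by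
    rw [← Nat.cast_pow, S.defect]
  have hcon : ∀ χ ψ : IrrCharacter G, contribR 2 χ ψ (σ ^ h) (subBlk 2 D e (σ ^ h)) =
      BlockB.contrib 2 f (σ ^ h) χ ψ := fun χ ψ => by
    rw [← hfe]
    convert contribR_idemIn hM χ ψ (mem_pSet_of_mem S.pair hzD) hf using 2
  have hform : ∀ χ ψ : B, ((4 * h : ℕ) : ℂ) *
      contribR 2 χ.1 ψ.1 (σ ^ h) (subBlk 2 D e (σ ^ h)) = (m χ ψ : ℂ) := by
    intro χ ψ
    rw [hcon, contrib_eq_sum hM hf, mul_sum]
    simp only [hm, ht, hs]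
    simp only [Int.cast_sum, Int.cast_mul, Int.cast_add, Int.cast_pow, Int.cast_natCast, Nat.cast_mul, Nat.cast_ofNat, Int.cast_ofNat]
    rw [sum_mul_sum, sum_mul_sum, mul_sum, ← sum_add_distrib]
    refine sum_congr rfl fun ξ _ => ?_
    rw [mul_sum, mul_sum, ← sum_add_distrib]
    refine sum_congr rfl fun η _ => ?_
    have h1 := redInt_eq_regMat hM hf ξ η
    rw [F.form ξ.1 ξ.2 η.1 η.2, hbd, hd] at h1
    simp only [Int.cast_sum, Int.cast_mul, Int.cast_add, Int.cast_pow, Int.cast_natCast, Nat.cast_mul, Nat.cast_ofNat, Int.cast_ofNat] at h1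
    rw [hn, hn, map_intCast]
    linear_combination (-((n χ.1 ξ : ℂ) * (n ψ.1 η : ℂ))) * h1
  have htrace : ∑ χ : B, contribR 2 χ.1 χ.1 (σ ^ h) (subBlk 2 D e (σ ^ h)) =
      (blockRank 2 f : ℂ) := sum_contribR_self hM S.hB S.hmax hzD hf hfe
  have hmtr : ∑ χ : B, m χ χ = 4 * h * blockRank 2 f := by
    apply Int.cast_injective (α := ℂ)
    simp only [Int.cast_sum, Int.cast_mul, Int.cast_add, Int.cast_pow, Int.cast_natCast, Nat.cast_mul, Nat.cast_ofNat, Int.cast_ofNat]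
    rw [← htrace, mul_sum]
    exact sum_congr rfl fun χ _ => by rw [← hform, Nat.cast_mul, Nat.cast_ofNat]
  have hmsq : ∀ χ φ : B, ∑ ψ : B, m χ ψ * m ψ φ = 4 * h * m χ φ := by
    intro χ φ
    apply Int.cast_injective (α := ℂ)
    simp only [Int.cast_sum, Int.cast_mul, Int.cast_add, Int.cast_pow, Int.cast_natCast, Nat.cast_mul, Nat.cast_ofNat, Int.cast_ofNat]
    simp only [← hform]
    rw [← contribR_idem hM S.hB S.hmax hzD χ.1 φ.1, mul_sum, mul_sum]
    exact sum_congr rfl fun ψ _ => by simp only [Int.cast_sum, Int.cast_mul, Int.cast_add, Int.cast_pow, Int.cast_natCast, Nat.cast_mul, Nat.cast_ofNat, Int.cast_ofNat]; ring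
  have hzero1 : blockRank 2 f = 1 → ∀ χ, s χ = 0 := fun e1 χ => by
    simp [hs, F.s_zero e1]
  have hA : ∑ χ : B, m χ χ = ∑ χ : B, t χ ^ 2 + ((h / 2 : ℕ) : ℤ) * ∑ χ : B, s χ ^ 2 := by
    rw [mul_sum, ← sum_add_distrib]
    exact sum_congr rfl fun χ _ => by simp only [hm]; ring
  have h2m : (h : ℤ) = 2 * ((h / 2 : ℕ) : ℤ) := by exact_mod_cast S.h_two
  set a := ∑ χ : B, t χ ^ 2 with ha
  set b := ∑ χ : B, s χ * t χ with hb
  set c := ∑ χ : B, s χ ^ 2 with hc
  set m' : ℤ := ((h / 2 : ℕ) : ℤ) with hm'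
  have hm0 : 0 < m' := by have := S.four_le; simp only [hm']; omega
  have hB2 : blockRank 2 f = 2 → a = 4 * h ∧ c = 8 ∧ b = 0 := by
    intro e1
    rw [hA, e1] at hmtr
    push_cast at hmtr
    have h2 : a * a + 2 * m' * (b * b) + m' * m' * (c * c) = 4 * h * (8 * h) := by
      rw [show (8 * h : ℤ) = a + m' * c by rw [hmtr]; ring]
      conv_rhs => rw [← hA, mul_sum]
      simp only [← hmsq]
      simp only [hm, ha, hb, hc, mul_sum, sum_mul, ← sum_add_distrib]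
      exact sum_congr rfl fun χ _ => sum_congr rfl fun ψ _ => by ring
    have hz2 : (a - m' * c) ^ 2 + 4 * m' * b ^ 2 = 0 := by
      linear_combination 2 * h2 - (a + m' * c + 8 * h) * hmtr
    have h3 : a - m' * c = 0 := by
      nlinarith [sq_nonneg (a - m' * c), mul_nonneg hm0.le (sq_nonneg b)]
    have h4 : b = 0 := by
      rw [h3] at hz2
      have h5 : 4 * m' * b ^ 2 = 0 := by linarith
      exact (pow_eq_zero_iff two_ne_zero).1 ((mul_eq_zero.1 h5).resolve_left (by positivity))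
    refine ⟨by linarith, ?_, h4⟩
    refine mul_left_cancel₀ hm0.ne' ?_
    linarith
  have hpar : blockRank 2 f = 2 → ∀ χ : B, (2 : ℤ) ∣ s χ - t χ := fun e1 χ => by
    simp only [hs, ht, ← sum_sub_distrib, ← mul_sub]
    exact dvd_sum fun ξ _ => (F.parity e1 ξ.1 ξ.2).mul_left _
  have hscal : ∀ χ ψ : B,
      MemLocalRing M ((m χ ψ : ℂ) / (2 : ℂ) ^ blockHeight 2 B ((χ : IrrCharacter G) : G → ℂ)) ∧
      (MemLocalIdeal M ((m χ ψ : ℂ) / (2 : ℂ) ^ blockHeight 2 B ((χ : IrrCharacter G) : G → ℂ)) ↔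
        blockHeight 2 B ((ψ : IrrCharacter G) : G → ℂ) ≠ 0) := by
    intro χ ψ
    have key := scaled_contrib_height hM hH hord hind hbd χ.2 ψ.2
    rw [← hcon, hd, hform] at key
    push_cast at key
    exact key
  have hheight : ∀ χ ψ : B, blockHeight 2 B ((ψ : IrrCharacter G) : G → ℂ) = 0 →
      (2 : ℤ) ^ blockHeight 2 B ((χ : IrrCharacter G) : G → ℂ) ∣ m χ ψ ∧
        ¬ (2 : ℤ) ^ (blockHeight 2 B ((χ : IrrCharacter G) : G → ℂ) + 1) ∣ m χ ψ := by
    intro χ ψ h0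
    obtain ⟨k1, k2⟩ := hscal χ ψ
    refine ⟨pow_dvd_of_local hM _ k1 (by field_simp), ?_⟩
    rintro ⟨q, hq⟩
    refine k2.not.2 (not_not.2 h0) ?_
    rw [hq]
    simp only [Int.cast_sum, Int.cast_mul, Int.cast_add, Int.cast_pow, Int.cast_natCast, Nat.cast_mul, Nat.cast_ofNat, Int.cast_ofNat]
    rw [pow_succ, mul_assoc, mul_div_assoc, mul_div_assoc, mul_comm (2 : ℂ) ((q : ℂ) / _),
      ← mul_assoc, mul_div_cancel₀ _ (pow_ne_zero _ two_ne_zero), mul_comm, ← Int.cast_ofNat,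
      ← Int.cast_mul]
    exact (memLocalIdeal_intCast_iff hM).2 (by exact_mod_cast dvd_mul_right 2 q)
  have hmev : (2 : ℤ) ∣ m' := by
    obtain ⟨k, hk⟩ := S.hh
    exact ⟨2 ^ k, by simp only [hm']; rw [hk, pow_succ]; push_cast [Nat.mul_div_cancel]; ring⟩
  have hoddt : ∀ χ : B, blockHeight 2 B ((χ : IrrCharacter G) : G → ℂ) = 0 → Odd (t χ) := by
    intro χ h0
    rw [← Int.not_even_iff_odd, even_iff_two_dvd]
    intro h2
    refine (hheight χ χ h0).2 ?_
    rw [h0, zero_add, pow_one]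
    exact dvd_add (h2.mul_right _) (hmev.mul_right _)
  obtain ⟨ψ₀, hψ₀, h00⟩ := exists_height_zero hM S.hB
  suffices hZ : ZData S (blockRank 2 f) t s from ⟨n, hn, hZ⟩
  refine ⟨F.rank, htrace, hform, ?_, fun e1 => ⟨(hB2 e1).2.1, (hB2 e1).2.2⟩,
    hzero1, ?_, ?_, hheight⟩
  · rcases F.rank with e1 | e1
    · rw [← ha]
      have hc0 : c = 0 := by simp [hc, hzero1 e1]
      rw [hA, e1, hc0] at hmtr
      push_cast at hmtr
      linarith
    · exact (hB2 e1).1
  · intro χ h0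
    refine ⟨hoddt χ h0, fun e1 => ?_⟩
    have h1 := hpar e1 χ
    have h2 := hoddt χ h0
    rw [Int.odd_iff] at h2 ⊢
    omega
  · intro χ hne
    have h1 := hheight χ ⟨ψ₀, hψ₀⟩ h00
    have h2 : (2 : ℤ) ∣ m χ ⟨ψ₀, hψ₀⟩ :=
      (dvd_pow_self 2 hne).trans h1.1
    have h3 : (2 : ℤ) ∣ t χ * t ⟨ψ₀, hψ₀⟩ := (dvd_add_left (hmev.mul_right _)).1 h2
    have h4 : (2 : ℤ) ∣ t χ := (Int.prime_two.dvd_mul.1 h3).resolve_right fun h5 => by
      have := hoddt ⟨ψ₀, hψ₀⟩ h00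
      rw [Int.odd_iff] at this
      omega
    refine ⟨even_iff_two_dvd.2 h4, ?_, ?_⟩
    · rcases F.rank with e1 | e1
      · rw [hzero1 e1]; exact Even.zero
      · have := hpar e1 χ
        rw [Int.even_iff]
        omega
    · by_contra hn
      push Not at hn
      refine h1.2 ?_
      simp only [hm, hn.1, hn.2, zero_mul, mul_zero, add_zero]
      exact dvd_zero _

end CfsgLib.AlmostZ
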