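import Cfsg.Agent.AlmostZ.Principal
import Cfsg.Agent.AlmostZ.Steinberg
import Cfsg.Agent.AlmostZ.ZForm
import Cfsg.Agent.S4888

/-!
# The values of the principal block at the central involution
-/

set_option autoImplicit false
set_option linter.style.haveILetI false
set_option linter.unusedSectionVars false
set_option linter.unusedSimpArgs false

namespace CfsgLib.AlmostZ

open Cfsg Finset CfsgLib.Block CfsgLib.Block.Chr CfsgLib.BrauerPairs CfsgLib.BlockStar
  CfsgLib.BlockB CfsgLib.SDDefect CfsgLib.Char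
open scoped ComplexConjugate
open scoped Classical

universe u

variable {M : Ideal AlgInt} [M.IsPrime] [Fact (Nat.Prime 2)] [CharP (Residue M) 2]
  {G : Type u} [Group G] [Fintype G] {S : Sylow 2 G} {σ τ : G} {h : ℕ}

local notation "Z[" x "]" => Subgroup.zpowers x
local notation "C[" Q "]" => Subgroup.centralizer (SetLike.coe Q)

/-- Two powers of two times odd numbers. -/
theorem two_pow_unique {a b r s : ℕ} (hr : Odd r) (hs : Odd s) (e : 2 ^ a * r = 2 ^ b * s) :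
    a = b := by
  have key : ∀ {a b r s : ℕ}, Odd s → 2 ^ a * r = 2 ^ b * s → a ≤ b := fun {a b r s} hs e =>
    (Nat.pow_dvd_pow_iff_le_right (by norm_num)).1 (((Nat.coprime_two_left.2 hs).pow_left a).dvd_of_dvd_mul_right
      ⟨r, e.symm⟩)
  exact le_antisymm (key hs e) (key hr e.symm)

namespace Gen

variable (D : Gen S σ τ h)
include D

/-- The generators inside a subgroup containing the Sylow subgroup. -/
theorem restrict (H : Subgroup G) (hle : (S : Subgroup G) ≤ H) :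
    Gen (S.subtype hle) (⟨σ, hle D.σ_mem⟩ : H) ⟨τ, hle D.τ_mem⟩ h where
  hh := D.hh
  ordσ := by rw [← Subgroup.orderOf_coe]; exact D.ordσ
  ordτ := by rw [← Subgroup.orderOf_coe]; exact D.ordτ
  rel := Subtype.ext (by push_cast; exact D.rel)
  σ_mem := Subgroup.mem_subgroupOf.2 D.σ_mem
  τ_mem := Subgroup.mem_subgroupOf.2 D.τ_mem
  cases := fun g hg => by
    obtain ⟨i, hi | hi⟩ := D.cases g (Subgroup.mem_subgroupOf.1 hg)
    · exact ⟨i, Or.inl (Subtype.ext (by push_cast; exact hi))⟩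
    · exact ⟨i, Or.inr (Subtype.ext (by push_cast; exact hi))⟩
  card := by
    rw [Sylow.coe_subtype, Nat.card_congr (Subgroup.subgroupOfEquivOfLe hle).toEquiv, D.card]
  τ_not := fun hm => by
    obtain ⟨i, hi⟩ := Subgroup.mem_zpowers_iff.1 hm
    exact D.τ_not (Subgroup.mem_zpowers_iff.2 ⟨i, by simpa using congrArg Subtype.val hi⟩)

/-- **The columns of the principal block when the involution is central.** -/
theorem centre_form (hM : IsPModular 2 M) (hzc : ∀ g : G, σ ^ h * g = g * σ ^ h) :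
    ∃ t s, FormData (principalBlock M G) (h / 2) t s ∧
      ∀ χ ∈ principalBlock M G, blockHeight 2 (principalBlock M G) (χ : G → ℂ) = 0 →
        t χ ^ 2 = 1 ∧ (blockRank 2 (principalBlock M G) = 2 → s χ ^ 2 = 1) := by
  have S' := D.sdData hM
  have hD : IsDefectGroup 2 M (principalBlock M G) (S : Subgroup G) := by
    have hmax : IsMaxPair 2 (idem M (principalBlock M G)) ((S : Subgroup G), pe M S) := by
      rw [idem_principal hM]; exact isMaxPair_prin S
    exact isDefectGroup_of_isDef hM S'.hB (hmax.isDef (isBlk_idem hM S'.hB))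
  obtain ⟨t, s, F⟩ := exists_formData hM S'.hB hD D.hh D.ordσ D.ordτ D.rel D.cases D.σ_mem D.τ_mem
    D.τ_not S'.defect hzc
  refine ⟨t, s, F, fun χ hχ h0 => ?_⟩
  haveI : Fintype (principalBlock M G) := Fintype.ofFinite _
  obtain ⟨lz, t', s', T⟩ := S'.exists_zData
  obtain ⟨W, hWz, hW2, hWt, hWs, -, -, -, -, -⟩ :=
    S'.exists_vectors (D.rotVals hM) T fun hl => S'.oth_nonempty T hl
  have hlz := S'.rank_central hzc T
  obtain ⟨ht', hs'⟩ := W.main.2.2.2.1 ⟨χ, hχ⟩ (W.mem_zeros.2 ((hWz _).2 h0))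
  rw [hWt] at ht'; rw [hWs] at hs'
  have hred : redInt 2 (principalBlock M G) χ χ =
      1 + if blockRank 2 (principalBlock M G) = 2 then ((h / 2 : ℕ) : ℤ) else 0 := by
    apply Int.cast_injective (α := ℂ)
    show (redInt 2 (principalBlock M G) χ χ : ℂ) = _
    rw [redInt_eq_regMat hM S'.hB ⟨χ, hχ⟩ ⟨χ, hχ⟩, ← S'.ctr_central hzc, ← Nat.cast_pow, S'.defect,
      T.form, Int.cast_inj, ← sq, ← sq, ht', hs']
    by_cases h2 : W.two
    · rw [if_pos h2, if_pos (by rw [← hlz]; exact hW2.1 h2), mul_one]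
    · rw [if_neg h2, if_neg (fun e1 => h2 (hW2.2 (by rw [hlz]; exact e1))), mul_zero]
  rw [F.form χ hχ χ hχ, ← sq, ← sq] at hred
  rcases F.rank with e1 | e1
  · rw [if_neg (by omega), F.s_zero e1 χ] at hred
    refine ⟨by linarith, fun e2 => by omega⟩
  · rw [if_pos e1] at hred
    obtain ⟨-, hf2, hf4, -⟩ : 0 < h ∧ h / 2 ≠ 0 ∧ 2 ∣ h / 2 ∧ True := by
      obtain ⟨k, hk⟩ := D.hh
      have : h / 2 = 2 * 2 ^ k := by rw [hk, pow_add]; omega
      have := Nat.two_pow_pos k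
      exact ⟨by omega, by omega, ⟨2 ^ k, by omega⟩, trivial⟩
    obtain ⟨c, hc⟩ := hf4
    have hpar := F.parity e1 χ hχ
    have htodd : Odd (t χ) := by
      rw [← Int.not_even_iff_odd]
      rintro ⟨a, ha⟩
      rw [hc, ha] at hred
      push_cast at hred
      have : (2 : ℤ) ∣ 1 := ⟨2 * a * a + c * s χ ^ 2 - c, by linarith⟩
      norm_num at this
    have hsodd : Odd (s χ) := by
      rw [Int.odd_iff] at htodd ⊢; omega
    have h1 := CfsgLib.SDDefect.Vectors.one_le_sq htodd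
    have h2 := CfsgLib.SDDefect.Vectors.one_le_sq hsodd
    have hm0 : (0 : ℤ) < ((h / 2 : ℕ) : ℤ) := by exact_mod_cast Nat.pos_of_ne_zero hf2
    exact ⟨by nlinarith, fun _ => by nlinarith⟩

/-- The centralizer of the central involution contains the Sylow subgroup. -/
theorem le_centre : (S : Subgroup G) ≤ C[Z[σ ^ h]] := fun g hg => by
  rw [CfsgLib.BlockB.centralizer_zpowers_eq, Subgroup.mem_centralizer_singleton_iff]
  have hz : τ * σ ^ h * τ⁻¹ = σ ^ h := by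
    obtain ⟨k, hk⟩ := D.hh
    rw [← zpow_natCast, ← conj_zpow, D.rel, ← zpow_mul, ← mul_inv_eq_one, ← zpow_neg, ← zpow_add,
      ← orderOf_dvd_iff_zpow_eq_one, D.ordσ]
    exact ⟨(2 : ℤ) ^ (k + 1) - 1, by rw [hk]; push_cast; ring⟩
  obtain ⟨i, rfl | rfl⟩ := D.cases g hg
  · exact ((Commute.refl σ).zpow_left i |>.pow_right h).eq
  · rw [mul_assoc, mul_inv_eq_iff_eq_mul.1 hz, ← mul_assoc,
      ((Commute.refl σ).zpow_left i |>.pow_right h).eq, mul_assoc]

/-- **The values at the central involution.** -/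
theorem exists_zNorm (hM : IsPModular 2 M) [Fintype (principalBlock M G)] {p : ℕ} (hp : p.Prime)
    (hp2 : p ≠ 2)
    (hheq : (p % 4 = 3 → ∃ r, Odd r ∧ p + 1 = h * r) ∧ (p % 4 = 1 → ∃ r, Odd r ∧ p - 1 = h * r))
    (hbor : ∃ B : Subgroup (cen (σ ^ h)), Borel B p) :
    ∃ (t s : principalBlock M G → ℤ) (q : ℤ), q = (if p % 4 = 3 then (p : ℤ) else -p) ∧
      ZData (D.sdData hM) 2 t s ∧
      (∀ χ : principalBlock M G, (χ.1 : G → ℂ) = (oneIrr G : G → ℂ) → t χ = 1 ∧ s χ = 1) ∧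
      ∀ χ : principalBlock M G, 2 * (χ.1 : G → ℂ) (σ ^ h) = ((1 - q) * t χ + (1 + q) * s χ : ℤ) := by
  have hp4 : p % 4 = 3 ∨ p % 4 = 1 := by
    rcases hp.eq_two_or_odd with e | e
    · exact absurd e hp2
    · omega
  have S' := D.sdData hM
  have h4h : (4 : ℂ) * (h : ℂ) ≠ 0 := mul_ne_zero (by norm_num) (Nat.cast_ne_zero.2 S'.h_pos.ne')
  haveI : Fintype C[Z[σ ^ h]] := Fintype.ofFinite _
  set D' := D.restrict C[Z[σ ^ h]] D.le_centre
  set σ' : C[Z[σ ^ h]] := ⟨σ, D.le_centre D.σ_mem⟩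
  have hzc : ∀ g : C[Z[σ ^ h]], σ' ^ h * g = g * σ' ^ h :=
    fun g => Subtype.ext (by simpa [σ'] using (mem_cz.1 g.2).symm)
  obtain ⟨tf, sf, F, hF1⟩ := D'.centre_form hM hzc
  set f := principalBlock M C[Z[σ ^ h]] with hf0
  haveI : Fintype f := Fintype.ofFinite f
  have hf : IsPBlock M f := isPBlock_principal
  have hfe : idemIn M C[Z[σ ^ h]] f = subBlk 2 (S : Subgroup G) (pe M S) (σ ^ h) := by
    rw [idemIn_principal hM, D.subBlk_eq hM (S'.pow_mem_D h)]
  obtain ⟨n, hn, T⟩ := exists_zData_form S' hf hfe F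
  have hdf : 2 ^ blockDefect 2 f = 4 * h := (D'.sdData hM).defect
  letI := irrFintype (G := C[Z[σ ^ h]])
  set one : f := ⟨oneIrr _, oneIrr_mem_principalBlock⟩ with hone
  -- values at the identity
  set At : ℂ := ∑ η : f, (tf η.1 : ℂ) * (η.1 : C[Z[σ ^ h]] → ℂ) 1 with hAt
  set As : ℂ := ((h / 2 : ℕ) : ℂ) * ∑ η : f, (sf η.1 : ℂ) * (η.1 : C[Z[σ ^ h]] → ℂ) 1 with hAs
  have hd : ((2 : ℕ) : ℂ) ^ blockDefect 2 f = 4 * (h : ℂ) := by
    rw [← Nat.cast_pow, hdf]; push_cast; rfl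
  have hdeg : ∀ ξ : f, 4 * (h : ℂ) * (ξ.1 : C[Z[σ ^ h]] → ℂ) 1 =
      (tf ξ.1 : ℂ) * At + (sf ξ.1 : ℂ) * As := by
    intro ξ
    have h1 := regPart_expand hM hf ξ 1
    rw [regPart_of_not_dvd (by rw [orderOf_one]; norm_num)] at h1
    rw [h1, hAt, hAs, mul_sum, mul_sum, mul_sum, mul_sum, ← sum_add_distrib]
    refine sum_congr rfl fun η _ => ?_
    rw [← mul_assoc, ← hd, ← redInt_eq_regMat hM hf, F.form ξ.1 ξ.2 η.1 η.2]
    simp only [Int.cast_add, Int.cast_mul, Int.cast_natCast]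
    ring
  have hzval : ∀ χ : principalBlock M G, 4 * (h : ℂ) * (χ.1 : G → ℂ) (σ ^ h) =
      ((∑ ξ : f, n χ.1 ξ * tf ξ.1 : ℤ) : ℂ) * At + ((∑ ξ : f, n χ.1 ξ * sf ξ.1 : ℤ) : ℂ) * As := by
    intro χ
    have hP : PElt 2 (σ ^ h) 1 := ⟨mem_pSet.1 (mem_pSet_of_mem S'.pair (S'.pow_mem_D h)),
      by rw [orderOf_one]; norm_num, Commute.one_right _⟩
    have h1 := D.val_eq hM χ.2 (S'.pow_mem_D h) hP
    rw [mul_one, ← hfe, val_idemIn hM χ.1 hP hf, subPart_eq_regPart hM hf,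
      regPart_of_not_dvd (by rw [← Subgroup.orderOf_coe]; simp), blockPart_eq_sum_inner,
      sum_subtype (univ.filter (· ∈ f)) (p := (· ∈ f)) (by simp)
        fun ξ : IrrCharacter C[Z[σ ^ h]] => classInner (secFun C[Z[σ ^ h]] (σ ^ h) χ.1) (ξ : _ → ℂ) *
          (ξ : C[Z[σ ^ h]] → ℂ) ⟨1, hP.mem⟩] at h1
    rw [← h1, mul_sum, Int.cast_sum, Int.cast_sum, sum_mul, sum_mul, ← sum_add_distrib]
    refine sum_congr rfl fun ξ _ => ?_
    rw [hn, show (⟨1, hP.mem⟩ : C[Z[σ ^ h]]) = 1 from rfl, mul_left_comm, hdeg]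
    push_cast; ring
  -- the trivial character
  have hn1 : ∀ φ : IrrCharacter G, (φ : G → ℂ) = (oneIrr G : G → ℂ) →
      ∀ ξ : f, n φ ξ = if ξ = one then 1 else 0 := by
    intro φ hφ ξ
    apply Int.cast_injective (α := ℂ)
    show (n φ ξ : ℂ) = _
    rw [← hn, show secFun C[Z[σ ^ h]] (σ ^ h) φ = ((oneIrr C[Z[σ ^ h]] : IrrCharacter _) : _ → ℂ) from
      funext fun c => by show (φ : G → ℂ) _ = _; rw [hφ, oneIrr_apply, oneIrr_apply],
      classInner_irr]
    by_cases e : ξ = one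
    · rw [if_pos e, if_pos (by rw [e, hone]), Int.cast_one]
    · rw [if_neg e, if_neg fun e' => e (Subtype.ext e'.symm), Int.cast_zero]
  obtain ⟨ht0, hs0⟩ := hF1 one.1 one.2 oneIrr_height_zero
  -- the character of degree `p`
  have hb : ∃ B : Subgroup C[Z[σ ^ h]], Borel B p := by
    rw [CfsgLib.BlockB.centralizer_zpowers_eq]; exact hbor
  obtain ⟨Bs, hBs⟩ := hb
  obtain ⟨ξ, K, j, hξdeg, hKodd, hcardH, hreg⟩ := hBs.exists_deg_p hp.one_lt.le
  obtain ⟨k, hk⟩ := D.hh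
  set c : ℕ := if p % 4 = 3 then h else 2 with hc
  have hjc : 2 ^ j * c = 4 * h := by
    set SH := S.subtype D.le_centre with hSH
    have h1 : Nat.card C[Z[σ ^ h]] = 4 * h * (SH : Subgroup C[Z[σ ^ h]]).index := by
      rw [← D'.card, Subgroup.card_mul_index]
    have hidx : Odd (SH : Subgroup C[Z[σ ^ h]]).index :=
      Nat.not_even_iff_odd.1 fun he => SH.not_dvd_index (even_iff_two_dvd.1 he)
    rcases hp4 with e | e
    · obtain ⟨r, hr, hpr⟩ := hheq.1 e
      have h3 : 2 ^ (k + 2 + j) * (r * K) = 2 ^ (k + 2 + 2) * (SH : Subgroup C[Z[σ ^ h]]).index := by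
        rw [pow_add, pow_add _ (k + 2), ← hk]
        linarith [show Nat.card C[Z[σ ^ h]] = h * r * (2 ^ j * K) by rw [hcardH, hpr]]
      have := two_pow_unique (hr.mul hKodd) hidx h3
      rw [hc, if_pos e, show j = 2 by omega]; ring
    · obtain ⟨r, hr, hpr⟩ := hheq.2 e
      obtain ⟨r', hr', hpr'⟩ : ∃ r', Odd r' ∧ p + 1 = 2 * r' :=
        ⟨(p + 1) / 2, by rw [Nat.odd_iff]; omega, by omega⟩
      have h3 : 2 ^ (1 + j) * (r' * K) = 2 ^ (k + 2 + 2) * (SH : Subgroup C[Z[σ ^ h]]).index := by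
        rw [pow_add, pow_one, pow_add _ (k + 2), ← hk]
        linarith [show Nat.card C[Z[σ ^ h]] = 2 * r' * (2 ^ j * K) by rw [hcardH, hpr']]
      have := two_pow_unique (hr'.mul hKodd) hidx h3
      rw [hc, if_neg (by omega), show j = (k + 2) + 1 by omega, pow_succ, ← hk]; ring
  -- the reduced matrix against the trivial character
  have hcI : ∀ θ : C[Z[σ ^ h]] → ℂ, (Nat.card C[Z[σ ^ h]] : ℂ) *
      classInner (regPart 2 θ) (one.1 : C[Z[σ ^ h]] → ℂ) = PrincipalNorm.regSum 2 θ := by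
    intro θ
    rw [classInner_regPart, ← mul_assoc, mul_inv_cancel₀ (Nat.cast_ne_zero.2 Nat.card_pos.ne'),
      one_mul, PrincipalNorm.regSum]
    exact sum_congr rfl fun g _ => by rw [hone, oneIrr_apply, map_one, mul_one]
  have hR11 : redInt 2 f one.1 one.1 = tf one.1 ^ 2 + ((h / 2 : ℕ) : ℤ) * sf one.1 ^ 2 := by
    rw [F.form _ one.2 _ one.2]; ring
  have hregone : 4 * (h : ℂ) * PrincipalNorm.regSum 2 (fun _ : C[Z[σ ^ h]] => (1 : ℂ)) =
      (Nat.card C[Z[σ ^ h]] : ℂ) * (redInt 2 f one.1 one.1 : ℂ) := by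
    rw [redInt_eq_regMat hM hf one one, regMat, hd, mul_left_comm, hcI]
    rfl
  have hregξ : (2 ^ j : ℂ) * (4 * (h : ℂ) * PrincipalNorm.regSum 2 (ξ : C[Z[σ ^ h]] → ℂ)) =
      (Nat.card C[Z[σ ^ h]] : ℂ) * (2 ^ j * ((c : ℂ) - (redInt 2 f one.1 one.1 : ℂ))) := by
    rw [hreg, mul_sub, mul_sub, hregone, hcardH]
    push_cast
    have e : (2 : ℂ) ^ j * (c : ℂ) = 4 * (h : ℂ) := by exact_mod_cast hjc
    linear_combination (-((2 : ℂ) ^ j * ((p : ℂ) + 1) * (K : ℂ))) * e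
  obtain ⟨hm0, hh2⟩ : 2 ≤ h / 2 ∧ h = 2 * (h / 2) := ⟨by have := S'.four_le; omega, S'.h_two⟩
  have hξf : ξ ∈ f := by
    rw [hf0, PrincipalNorm.mem_principal_iff hM]
    intro e
    rw [e, mul_zero, mul_zero, eq_comm, mul_eq_zero] at hregξ
    have e2 := ((mul_eq_zero.1 (hregξ.resolve_left (Nat.cast_ne_zero.2 Nat.card_pos.ne'))).resolve_left
      (pow_ne_zero _ two_ne_zero))
    rw [sub_eq_zero] at e2
    have e3 : (c : ℤ) = redInt 2 f one.1 one.1 := by exact_mod_cast e2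
    rw [hR11, ht0] at e3
    rcases F.rank with e4 | e4
    · rw [F.s_zero e4] at e3
      simp only [hc] at e3
      split_ifs at e3 <;> push_cast at e3 <;> omega
    · rw [hs0 e4] at e3
      simp only [hc] at e3
      split_ifs at e3 <;> push_cast at e3 <;> omega
  have hξ0 : blockHeight 2 f (ξ : C[Z[σ ^ h]] → ℂ) = 0 := by
    rw [hf0, Cfsg.Agent.S4888.height_zero_iff Nat.prime_two]
    intro hd2
    have e : charDegree (ξ : C[Z[σ ^ h]] → ℂ) = p := by
      rw [charDegree, hξdeg]; simp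
    rw [e] at hd2
    exact hp2 (((Nat.prime_dvd_prime_iff_eq Nat.prime_two hp).1 hd2).symm)
  obtain ⟨htξ, hsξ⟩ := hF1 ξ hξf hξ0
  set ξf : f := ⟨ξ, hξf⟩
  have hRξ : redInt 2 f ξ one.1 = (c : ℤ) - redInt 2 f one.1 one.1 := by
    apply Int.cast_injective (α := ℂ)
    refine mul_left_cancel₀ (pow_ne_zero j (two_ne_zero (α := ℂ))) ?_
    refine mul_left_cancel₀ (Nat.cast_ne_zero.2 (Nat.card_pos (α := C[Z[σ ^ h]])).ne' :
      (Nat.card C[Z[σ ^ h]] : ℂ) ≠ 0) ?_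
    rw [Int.cast_sub, Int.cast_natCast]
    rw [← hregξ, show (redInt 2 f ξ one.1 : ℂ) = _ from redInt_eq_regMat hM hf ξf one, regMat, hd,
      ← hcI]
    ring
  have e1 := hdeg one
  rw [show (one.1 : C[Z[σ ^ h]] → ℂ) 1 = 1 from oneIrr_apply _, mul_one] at e1
  have e2 := hdeg ξf
  rw [show (ξf.1 : C[Z[σ ^ h]] → ℂ) 1 = (p : ℂ) from hξdeg] at e2
  -- the rank is two
  have hrk : blockRank 2 f = 2 := by
    refine F.rank.resolve_left fun e4 => ?_
    rw [F.s_zero e4, Int.cast_zero, zero_mul, add_zero] at e1 e2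
    have h0 : ((tf ξf.1 : ℤ) : ℂ) ^ 2 = 1 ∧ ((tf one.1 : ℤ) : ℂ) ^ 2 = 1 :=
      ⟨by exact_mod_cast htξ, by exact_mod_cast ht0⟩
    have h5 : (4 * (h : ℂ) * p) ^ 2 = (4 * (h : ℂ)) ^ 2 := by
      rw [e2]; conv_rhs => rw [e1]
      rw [mul_pow, mul_pow, h0.1, h0.2]
    rw [mul_pow] at h5
    have h6 : ((p : ℂ)) ^ 2 = 1 := mul_left_cancel₀ (pow_ne_zero 2 h4h) (by rw [h5, mul_one])
    have h7 : p ^ 2 = 1 := by exact_mod_cast h6
    rcases pow_eq_one_iff.1 h7 with e | e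
    · exact hp.ne_one e
    · omega
  have hs0' := hs0 hrk
  have hsξ' := hsξ hrk
  rw [hrk] at T
  set ε : ℤ := if p % 4 = 3 then 1 else -1 with hε
  -- the signs
  have hsign : tf ξ * tf one.1 = -ε ∧ sf ξ * sf one.1 = ε := by
    have hR : tf ξ * tf one.1 + ((h / 2 : ℕ) : ℤ) * (sf ξ * sf one.1) =
        ε * (((h / 2 : ℕ) : ℤ) - 1) := by
      rw [← F.form ξ hξf _ one.2, hRξ, hR11, ht0, hs0', hε, hc]
      split_ifs <;> push_cast <;> omega
    have hu : tf ξ * tf one.1 = 1 ∨ tf ξ * tf one.1 = -1 := mul_self_eq_one_iff.1 (by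
      linear_combination (tf one.1 ^ 2) * htξ + ht0)
    have hv : sf ξ * sf one.1 = 1 ∨ sf ξ * sf one.1 = -1 := mul_self_eq_one_iff.1 (by
      linear_combination (sf one.1 ^ 2) * hsξ' + hs0')
    have hm2 : (2 : ℤ) ≤ ((h / 2 : ℕ) : ℤ) := by exact_mod_cast hm0
    generalize tf ξ * tf one.1 = u at *
    generalize sf ξ * sf one.1 = v at *
    generalize ((h / 2 : ℕ) : ℤ) = mm at *
    simp only [hε] at hR ⊢
    rcases hu with rfl | rfl <;> rcases hv with rfl | rfl <;> split_ifs at hR ⊢ <;> omega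
  set q : ℤ := if p % 4 = 3 then (p : ℤ) else -p with hq
  have hqε : q = ε * p := by simp only [hq, hε]; split_ifs <;> ring
  have hεε : ε * ε = 1 := by simp only [hε]; split_ifs <;> norm_num
  have hA : (tf one.1 : ℂ) * At = 2 * (h : ℂ) * (1 - q) ∧ (sf one.1 : ℂ) * As = 2 * (h : ℂ) * (1 + q) := by
    have c1 : ((tf ξ : ℤ) : ℂ) = -(ε : ℂ) * (tf one.1 : ℂ) := by
      exact_mod_cast (show tf ξ = -ε * tf one.1 by
        linear_combination (tf one.1) * hsign.1 - tf ξ * ht0)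
    have c2 : ((sf ξ : ℤ) : ℂ) = (ε : ℂ) * (sf one.1 : ℂ) := by
      exact_mod_cast (show sf ξ = ε * sf one.1 by
        linear_combination (sf one.1) * hsign.2 - sf ξ * hs0')
    have c3 : (ε : ℂ) * (ε : ℂ) = 1 := by exact_mod_cast hεε
    rw [show (ξf.1 : IrrCharacter _) = ξ from rfl, c1, c2] at e2
    rw [hqε]
    push_cast
    constructor
    · linear_combination -(1 / 2 : ℂ) * e1 + ((ε : ℂ) / 2) * e2 +
        ((-(tf one.1 : ℂ) * At + (sf one.1 : ℂ) * As) / 2) * c3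
    · linear_combination -(1 / 2 : ℂ) * e1 - ((ε : ℂ) / 2) * e2 +
        (((tf one.1 : ℂ) * At - (sf one.1 : ℂ) * As) / 2) * c3
  -- normalisation
  set t := fun χ : principalBlock M G => ∑ ξ : f, n χ.1 ξ * tf ξ.1
  set s := fun χ : principalBlock M G => ∑ ξ : f, n χ.1 ξ * sf ξ.1
  have ct : tf one.1 * tf one.1 = 1 := by rw [← sq]; exact ht0
  have cs : sf one.1 * sf one.1 = 1 := by rw [← sq]; exact hs0'
  refine ⟨fun χ => tf one.1 * t χ, fun χ => sf one.1 * s χ, q, rfl, ?_, fun χ hχ => ?_, fun χ => ?_⟩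
  · have hev : ∀ a b c : ℤ, c * c = 1 → c * a * (c * b) = a * b := fun a b c hcc => by
      linear_combination (a * b) * hcc
    refine ⟨T.rank, T.trace, fun χ ψ => ?_, ?_, fun e => ?_, fun e => absurd e (by norm_num),
      fun χ h0 => ?_, fun χ hne => ?_, fun χ ψ h0 => ?_⟩
    · rw [T.form, hev _ _ _ ct, hev _ _ _ cs]
    · simp only [mul_pow, ht0, one_mul]; exact T.sum_t
    · obtain ⟨a, b⟩ := T.sum_s e
      refine ⟨by simp only [mul_pow, hs0', one_mul]; exact a, ?_⟩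
      calc ∑ χ : principalBlock M G, sf one.1 * s χ * (tf one.1 * t χ)
          = (sf one.1 * tf one.1) * ∑ χ : principalBlock M G, s χ * t χ := by
            rw [mul_sum]; exact sum_congr rfl fun _ _ => by ring
        _ = 0 := by rw [b, mul_zero]
    · obtain ⟨a, b⟩ := T.zero_odd χ h0
      exact ⟨(Int.Odd.of_mul_left (show Odd (tf one.1 * tf one.1) by rw [ct]; exact odd_one)).mul a,
        fun e => (Int.Odd.of_mul_left (show Odd (sf one.1 * sf one.1) by rw [cs]; exact odd_one)).mul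
          (b e)⟩
    · obtain ⟨a, b, cc⟩ := T.pos_even χ hne
      refine ⟨a.mul_left _, b.mul_left _, cc.imp (mul_ne_zero ?_) (mul_ne_zero ?_)⟩
      · intro e; rw [e] at ct; norm_num at ct
      · intro e; rw [e] at cs; norm_num at cs
    · rw [hev _ _ _ ct, hev _ _ _ cs]; exact T.height χ ψ h0
  · simp only [t, s, hn1 χ.1 hχ, ite_mul, one_mul, zero_mul, sum_ite_eq', mem_univ, if_true]
    exact ⟨ct, cs⟩
  · refine mul_left_cancel₀ h4h ?_
    have h1 := hzval χ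
    have c1 : (tf one.1 : ℂ) * (tf one.1 : ℂ) = 1 := by exact_mod_cast ct
    have c2 : (sf one.1 : ℂ) * (sf one.1 : ℂ) = 1 := by exact_mod_cast cs
    show _ = 4 * (h : ℂ) * (((1 - q) * (tf one.1 * t χ) + (1 + q) * (sf one.1 * s χ) : ℤ) : ℂ)
    push_cast
    linear_combination 2 * h1 + 2 * (tf one.1 : ℂ) * (t χ : ℂ) * hA.1
      + 2 * (sf one.1 : ℂ) * (s χ : ℂ) * hA.2 - 2 * (t χ : ℂ) * At * c1 - 2 * (s χ : ℂ) * As * c2

end Gen

end CfsgLib.AlmostZ
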