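import Cfsg.Agent.AlmostZ.Principal
import Cfsg.Agent.AlmostZ.Basic
import Cfsg.Agent.BlocksB.ClassSum
import Cfsg.Agent.Char.SmallTIBase
import Cfsg.Agent.Invol.IsolatedApps

/-!
# Class sums of involutions restricted to the principal block, on the rotations
-/

set_option autoImplicit false
set_option linter.style.haveILetI false
set_option linter.unusedSectionVars false

namespace CfsgLib.AlmostZ

open Cfsg Finset CfsgLib.Block CfsgLib.Block.Chr CfsgLib.SectionCount CfsgLib.Char
open scoped ComplexConjugate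
open scoped Classical

universe u

variable {G : Type u} [Group G] [Fintype G]

local notation "Z[" x "]" => Subgroup.zpowers x

/-- The pairs (involution, element of the core) with an involution as product on the coset. -/
noncomputable def coreSol (x : G) : Finset (G × core 2 x) :=
  (univ : Finset (G × core 2 x)).filter fun av =>
    orderOf av.1 = 2 ∧
      orderOf (av.1 * (x * ((av.2 : Subgroup.centralizer ({x} : Set G)) : G))) = 2

theorem card_conj_fibre {z a : G} (ha : IsConj z a) :
    (univ.filter fun g : G => g * z * g⁻¹ = a).card =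
      Nat.card (Subgroup.centralizer ({z} : Set G)) := by
  obtain ⟨c, rfl⟩ := isConj_iff.1 ha
  rw [Nat.card_eq_fintype_card, ← card_univ]
  refine card_bij' (fun g hg => ⟨c⁻¹ * g, ?_⟩) (fun d _ => c * (d : G)) (fun _ _ => mem_univ _)
    (fun d _ => ?_) (fun g _ => ?_) (fun d _ => ?_)
  · rw [Subgroup.mem_centralizer_singleton_iff]
    have h1 := (mem_filter.1 hg).2
    calc c⁻¹ * g * z = c⁻¹ * (g * z * g⁻¹) * g := by group
      _ = z * (c⁻¹ * g) := by rw [h1]; group
  · refine mem_filter.2 ⟨mem_univ _, ?_⟩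
    have h1 := Subgroup.mem_centralizer_singleton_iff.1 d.2
    calc c * (d : G) * z * (c * (d : G))⁻¹ = c * ((d : G) * z) * (d : G)⁻¹ * c⁻¹ := by group
      _ = c * z * c⁻¹ := by rw [h1]; group
  · simp
  · apply Subtype.ext; simp

variable {M : Ideal AlgInt} [M.IsPrime] [Fact (Nat.Prime 2)] [Fintype (IrrCharacter G)]

/-- **The class sum of involutions on a 2-section, restricted to the principal block.** -/
theorem class_sum_principal (hM : IsPModular 2 M) {z x : G} {k a : ℕ} (hk : orderOf x = 2 ^ k)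
    (hidx : (core 2 x).index = 2 ^ a) (hone : ∀ v : G, orderOf v = 2 ↔ IsConj z v) :
    (Nat.card G : ℂ) * ((Nat.card (core 2 x) : ℂ) *
      ∑ χ ∈ univ.filter (· ∈ principalBlock M G),
        (χ : G → ℂ) z * (χ : G → ℂ) z * conj ((χ : G → ℂ) x) / (χ : G → ℂ) 1) =
      (Nat.card (Subgroup.centralizer ({z} : Set G)) : ℂ) ^ 2 * ((coreSol x).card : ℂ) := by
  set c := Nat.card (Subgroup.centralizer ({z} : Set G)) with hc
  -- each element of the core
  have hv : ∀ v : core 2 x,
      ((univ.filter fun gh : G × G => gh.1 * z * gh.1⁻¹ * (gh.2 * z * gh.2⁻¹) =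
        x * ((v : Subgroup.centralizer ({x} : Set G)) : G)).card) =
      c * c * ((univ : Finset G).filter fun b => orderOf b = 2 ∧
        orderOf (b * (x * ((v : Subgroup.centralizer ({x} : Set G)) : G))) = 2).card := by
    intro v
    set w := x * ((v : Subgroup.centralizer ({x} : Set G)) : G)
    set A := (univ : Finset G).filter fun b => orderOf b = 2 ∧ orderOf (b * w) = 2
    rw [card_eq_sum_card_fiberwise (f := fun gh : G × G => gh.1 * z * gh.1⁻¹) (t := A)]
    · rw [mul_comm, ← smul_eq_mul (α := ℕ), ← sum_const]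
      refine sum_congr rfl fun b hb => ?_
      obtain ⟨hb2, hbw⟩ := (mem_filter.1 hb).2
      rw [← card_conj_fibre ((hone b).1 hb2)] at hc
      have hc' : c = (univ.filter fun g : G => g * z * g⁻¹ = b * w).card := by
        rw [card_conj_fibre ((hone _).1 hbw)]
      conv_rhs => arg 1; rw [hc]
      conv_rhs => arg 2; rw [hc']
      rw [← card_product]
      congr 1
      ext ⟨g, g'⟩
      simp only [mem_filter, mem_univ, true_and, mem_product]
      constructor
      · rintro ⟨h1, rfl⟩
        refine ⟨rfl, ?_⟩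
        rw [← h1]
        have h2 : g * z * g⁻¹ * (g * z * g⁻¹) = 1 := CfsgLib.Invol.mul_self_eq_one hb2
        rw [← mul_assoc, h2, one_mul]
      · rintro ⟨rfl, h1⟩
        refine ⟨?_, rfl⟩
        have h2 : g * z * g⁻¹ * (g * z * g⁻¹) = 1 := CfsgLib.Invol.mul_self_eq_one hb2
        rw [h1, ← mul_assoc, h2, one_mul]
    · intro gh hgh
      have h1 := (mem_filter.1 hgh).2
      refine mem_filter.2 ⟨mem_univ _, (hone _).2 (isConj_iff.2 ⟨gh.1, rfl⟩), ?_⟩
      show orderOf (gh.1 * z * gh.1⁻¹ * w) = 2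
      rw [← h1, ← mul_assoc,
        CfsgLib.Invol.mul_self_eq_one ((hone _).2 (isConj_iff.2 ⟨gh.1, rfl⟩)), one_mul]
      exact (hone _).2 (isConj_iff.2 ⟨gh.2, rfl⟩)
  have hsum : ((coreSol x).card : ℂ) * (c * c : ℕ) = ∑ v : core 2 x,
      ((univ.filter fun gh : G × G => gh.1 * z * gh.1⁻¹ * (gh.2 * z * gh.2⁻¹) =
        x * ((v : Subgroup.centralizer ({x} : Set G)) : G)).card : ℂ) := by
    simp only [hv, Nat.cast_mul, ← mul_sum]
    rw [mul_comm]
    congr 1
    rw [← Nat.cast_sum]
    congr 1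
    rw [coreSol, card_eq_sum_card_fiberwise (f := fun av : G × core 2 x => av.2) (t := univ)
      fun _ _ => mem_univ _]
    refine sum_congr rfl fun v _ => card_bij' (fun av _ => av.1) (fun b _ => (b, v))
      (fun av hav => ?_) (fun b hb => ?_) (fun av hav => ?_) (fun _ _ => rfl)
    · obtain ⟨h1, h2⟩ := mem_filter.1 hav
      obtain ⟨-, h3, h4⟩ := mem_filter.1 h1
      subst h2
      exact mem_filter.2 ⟨mem_univ _, h3, h4⟩
    · obtain ⟨-, h3, h4⟩ := mem_filter.1 hb
      exact mem_filter.2 ⟨mem_filter.2 ⟨mem_univ _, h3, h4⟩, rfl⟩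
    · obtain ⟨-, h2⟩ := mem_filter.1 hav
      subst h2; rfl
  simp only [CfsgLib.BlocksB.card_pairs, CfsgLib.Char.SmallTI.sum_irrFinset] at hsum
  rw [← mul_sum, sum_comm] at hsum
  have hT : ∀ χ : IrrCharacter G, ∑ v : core 2 x, (χ : G → ℂ) z * (χ : G → ℂ) z *
      (χ : G → ℂ) (x * ((v : Subgroup.centralizer ({x} : Set G)) : G))⁻¹ / (χ : G → ℂ) 1 =
      (χ : G → ℂ) z * (χ : G → ℂ) z * conj (T 2 x χ) / (χ : G → ℂ) 1 := fun χ => by
    rw [T_eq_sum, map_sum, mul_sum, sum_div]
    exact sum_congr rfl fun v _ => by rw [conj_irr]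
  simp only [hT] at hsum
  rw [← sum_filter_add_sum_filter_not univ (· ∈ principalBlock M G),
    sum_eq_zero (s := univ.filter fun χ => ¬χ ∈ principalBlock M G) fun χ hχ => by
      rw [T_eq_zero hM hk hidx (mem_filter.1 hχ).2, map_zero, mul_zero, zero_div],
    add_zero] at hsum
  rw [mul_sum]
  push_cast at hsum
  rw [sum_congr rfl fun χ hχ => by
    rw [T_principal hM hk (mem_filter.1 hχ).2, map_mul, map_natCast]] at hsum
  rw [sq, mul_comm _ ((coreSol x).card : ℂ), hsum]
  refine congrArg (_ * ·) (sum_congr rfl fun χ _ => ?_)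
  ring

end CfsgLib.AlmostZ
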