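import Cfsg.Agent.AlmostZ.ClassSums

/-!
# The pairs of involutions on the sections of the rotations
-/

set_option autoImplicit false
set_option linter.style.haveILetI false
set_option linter.unusedSectionVars false

namespace CfsgLib.AlmostZ

open Cfsg Finset CfsgLib.Block CfsgLib.Block.Chr CfsgLib.SectionCount CfsgLib.SDDefect
open scoped Classical

universe u

variable {M : Ideal AlgInt} [M.IsPrime] [Fact (Nat.Prime 2)] [CharP (Residue M) 2]
  {G : Type u} [Group G] [Fintype G] {S : Sylow 2 G} {σ τ : G} {h : ℕ}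

local notation "Z[" x "]" => Subgroup.zpowers x

/-- The solutions: involutions inverting both factors. -/
theorem mem_coreSol {x : G} {k : ℕ} (hk : orderOf x = 2 ^ (k + 2)) {a : G} {v : core 2 x} :
    (a, v) ∈ coreSol x ↔ orderOf a = 2 ∧ a * x * a⁻¹ = x⁻¹ ∧
      a * ((v : Subgroup.centralizer ({x} : Set G)) : G) * a⁻¹ =
        ((v : Subgroup.centralizer ({x} : Set G)) : G)⁻¹ := by
  have hco : Commute x ((v : Subgroup.centralizer ({x} : Set G)) : G) :=
    (Subgroup.mem_centralizer_singleton_iff.1 v.1.2).symm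
  have hv : ¬ 2 ∣ orderOf ((v : Subgroup.centralizer ({x} : Set G)) : G) := by
    rw [Subgroup.orderOf_coe]; exact not_dvd_orderOf Nat.prime_two v.2
  set w := ((v : Subgroup.centralizer ({x} : Set G)) : G)
  have hcop : (orderOf x).Coprime (orderOf w) :=
    hk ▸ ((Nat.prime_two.coprime_iff_not_dvd.2 hv).pow_left _)
  have hord : orderOf (x * w) = orderOf x * orderOf w := hco.orderOf_mul_eq_mul_orderOf_of_coprime hcop
  simp only [coreSol, mem_filter, mem_univ, true_and]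
  refine and_congr_right fun ha => ?_
  have hai : a⁻¹ = a := CfsgLib.Invol.inv_eq_self ha
  constructor
  · intro hb
    have h2 : a * (x * w) * (a * (x * w)) = 1 := CfsgLib.Invol.mul_self_eq_one hb
    have h3 : a * (x * w) * a⁻¹ = (x * w)⁻¹ := by
      rw [hai]; exact eq_inv_of_mul_eq_one_left (by rw [mul_assoc (a * (x * w)) a]; exact h2)
    obtain ⟨s, t, hst⟩ := Nat.isCoprime_iff_coprime.2 hcop
    have hpw : ∀ j : ℤ, (x * w) ^ j = x ^ j * w ^ j := fun j => hco.mul_zpow j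
    have hx1 : (x * w) ^ (t * (orderOf w : ℤ)) = x := by
      rw [hpw, mul_comm t, zpow_mul w, zpow_natCast w, pow_orderOf_eq_one, one_zpow, mul_one,
        show (orderOf w : ℤ) * t = 1 + (orderOf x : ℤ) * (-s) by linarith, zpow_add, zpow_one,
        zpow_mul, zpow_natCast, pow_orderOf_eq_one, one_zpow, mul_one]
    have hw1 : (x * w) ^ (s * (orderOf x : ℤ)) = w := by
      rw [hpw, mul_comm s, zpow_mul x, zpow_natCast x, pow_orderOf_eq_one, one_zpow, one_mul,
        show (orderOf x : ℤ) * s = 1 + (orderOf w : ℤ) * (-t) by linarith, zpow_add, zpow_one,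
        zpow_mul, zpow_natCast, pow_orderOf_eq_one, one_zpow, mul_one]
    refine ⟨?_, ?_⟩
    · conv_lhs => rw [← hx1, ← conj_zpow, h3, inv_zpow, hx1]
    · conv_lhs => rw [← hw1, ← conj_zpow, h3, inv_zpow, hw1]
  · rintro ⟨hx, hw⟩
    refine CfsgLib.Invol.orderOf_eq_two ?_ fun e1 => ?_
    · have h3 : a * (x * w) * a⁻¹ = (x * w)⁻¹ := by
        rw [show a * (x * w) * a⁻¹ = (a * x * a⁻¹) * (a * w * a⁻¹) by group, hx, hw,
          _root_.mul_inv_rev]
        exact hco.inv_inv.eq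
      calc a * (x * w) * (a * (x * w)) = (a * (x * w) * a⁻¹) * (a * a) * (x * w) := by group
        _ = 1 := by rw [h3, CfsgLib.Invol.mul_self_eq_one ha, mul_one, inv_mul_cancel]
    · have h4 : orderOf (x * w) = 2 := by
        rw [eq_inv_of_mul_eq_one_right e1, hai, ha]
      rw [hord, hk, pow_succ, pow_succ] at h4
      have := Nat.two_pow_pos k
      have := orderOf_pos w
      nlinarith

namespace Gen

variable (D : Gen S σ τ h)
include D

theorem exists_order (i : ℕ) (hi : ¬ h ∣ i) : ∃ k, orderOf (σ ^ i) = 2 ^ (k + 2) := by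
  obtain ⟨k, hk⟩ := D.rot_order i
  rcases k with _ | _ | k
  · refine absurd ?_ hi
    rw [pow_zero, orderOf_eq_one_iff, ← orderOf_dvd_iff_pow_eq_one, D.ordσ] at hk
    exact (dvd_mul_left h 2).trans hk
  · refine absurd ?_ hi
    have h1 := pow_orderOf_eq_one (σ ^ i)
    rw [hk, ← pow_mul, ← orderOf_dvd_iff_pow_eq_one, D.ordσ, pow_one, mul_comm i] at h1
    exact (Nat.mul_dvd_mul_iff_left two_pos).1 h1
  · exact ⟨k, hk⟩

/-- No element conjugates `σ` into its inverse. -/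
theorem σ_not_real (a : G) : a * σ * a⁻¹ ≠ σ⁻¹ := by
  intro ha
  have hh : 4 ≤ h := by
    obtain ⟨k, hk⟩ := D.hh
    rw [hk, pow_add]; have := Nat.two_pow_pos k; omega
  let A := MulAut Z[σ]
  let N := Subgroup.normalizer (Z[σ] : Set G)
  have hmemN : ∀ g : G, g * σ * g⁻¹ ∈ Z[σ] → g ∈ N := fun g hg => by
    rw [Subgroup.mem_normalizer_iff_map_conj_eq]
    refine Subgroup.eq_of_le_of_card_ge (Subgroup.map_le_iff_le_comap.2
      (Subgroup.zpowers_le.2 hg)) ?_
    exact (Subgroup.card_map_of_injective (MulAut.conj g).injective).ge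
  have haN : a ∈ N := hmemN a (by rw [ha]; exact Subgroup.inv_mem _ (Subgroup.mem_zpowers σ))
  have hτN : τ ∈ N := hmemN τ (by rw [D.rel]; exact Subgroup.zpow_mem _ (Subgroup.mem_zpowers σ) _)
  let φ : N →* MulAut Z[σ] := Subgroup.normalizerMonoidHom Z[σ]
  have hφ : ∀ (g : N), ((φ g ⟨σ, Subgroup.mem_zpowers σ⟩ : Z[σ]) : G) = (g : G) * σ * (g : G)⁻¹ :=
    fun g => rfl
  have hinj : ∀ g g' : N, φ g = φ g' → (g : G) * σ * (g : G)⁻¹ = g' * σ * (g' : G)⁻¹ :=
    fun g g' e1 => by rw [← hφ, ← hφ, e1]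
  have hA : Z[σ] ≤ N := Subgroup.le_normalizer
  -- the kernel contains the rotations
  have hker : Z[σ].subgroupOf N ≤ φ.ker := fun g hg => by
    rw [MonoidHom.mem_ker]
    refine MulEquiv.ext fun w => Subtype.ext ?_
    show (g : G) * (w : G) * (g : G)⁻¹ = w
    obtain ⟨i, hi⟩ := Subgroup.mem_zpowers_iff.1 (Subgroup.mem_subgroupOf.1 hg)
    obtain ⟨j, hj⟩ := Subgroup.mem_zpowers_iff.1 w.2
    rw [← hi, ← hj, ← zpow_add, ← zpow_neg, ← zpow_add]
    congr 1; ring
  have h2 : 2 * h ∣ Nat.card φ.ker := by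
    rw [← D.ordσ, ← Nat.card_zpowers, ← Nat.card_congr (Subgroup.subgroupOfEquivOfLe hA).toEquiv]
    exact Subgroup.card_dvd_of_le hker
  -- four automorphisms
  set x : N := ⟨a, haN⟩
  set y : N := ⟨τ, hτN⟩
  have hval : ∀ (g : N) (e : ℤ), (g : G) * σ * (g : G)⁻¹ = σ ^ e →
      ∀ w : Z[σ], φ g w = w ^ e := fun g e he w => by
    obtain ⟨j, hj⟩ := Subgroup.mem_zpowers_iff.1 w.2
    refine Subtype.ext ?_
    show (g : G) * (w : G) * (g : G)⁻¹ = ((w ^ e : Z[σ]) : G)
    rw [Subgroup.coe_zpow, ← hj, ← conj_zpow, he, ← zpow_mul, ← zpow_mul, mul_comm]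
  have hxv := hval x (-1) (by rw [zpow_neg_one]; exact ha)
  have hyv := hval y ((h : ℤ) - 1) D.rel
  have hxx : φ x * φ x = 1 := MulEquiv.ext fun w => by
    rw [MulAut.mul_apply, hxv, hxv, zpow_neg_one, zpow_neg_one, inv_inv, MulAut.one_apply]
  have hσ' : ∀ e : ℤ, (⟨σ, Subgroup.mem_zpowers σ⟩ : Z[σ]) ^ e = ⟨σ, Subgroup.mem_zpowers σ⟩ →
      2 * (h : ℤ) ∣ e - 1 := fun e he => by
    have h1 : σ ^ e = σ := congrArg Subtype.val he
    rw [show (2 * (h : ℤ)) = ((2 * h : ℕ) : ℤ) by push_cast; ring, ← D.ordσ,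
      orderOf_dvd_iff_zpow_eq_one, zpow_sub_one, h1, mul_inv_cancel]
  have hnd : ∀ d : ℤ, 0 < d → d < 2 * (h : ℤ) → ¬ 2 * (h : ℤ) ∣ d := fun d h1 h2 h3 => by
    have := Int.le_of_dvd h1 h3
    omega
  have hyy : φ y * φ y = 1 := MulEquiv.ext fun w => by
    show φ y (φ y w) = w
    rw [hyv, hyv, ← zpow_mul]
    obtain ⟨j, hj⟩ := Subgroup.mem_zpowers_iff.1 w.2
    obtain ⟨k, hk⟩ := D.hh
    refine Subtype.ext ?_
    rw [Subgroup.coe_zpow, ← hj, ← zpow_mul, eq_comm, ← mul_inv_eq_one, ← zpow_neg, ← zpow_add,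
      ← orderOf_dvd_iff_zpow_eq_one, D.ordσ]
    refine ⟨-(j * ((2 : ℤ) ^ (k + 1) - 1)), ?_⟩
    rw [hk]; push_cast; ring
  have hxy : φ x * φ y = φ y * φ x := MulEquiv.ext fun w => by
    show φ x (φ y w) = φ y (φ x w)
    rw [hxv, hyv, hxv, hyv, ← zpow_mul, ← zpow_mul, mul_comm]
  have hx1 : φ x ≠ 1 := fun e1 => by
    have h1 := hσ' (-1) (by rw [← hxv, e1, MulAut.one_apply])
    exact hnd 2 two_pos (by omega) (by rw [show (-1 : ℤ) - 1 = -2 by norm_num, dvd_neg] at h1; exact h1)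
  have hy1 : φ y ≠ 1 := fun e1 => by
    have h1 := hσ' ((h : ℤ) - 1) (by rw [← hyv, e1, MulAut.one_apply])
    exact hnd ((h : ℤ) - 2) (by omega) (by omega) (by rwa [show (h : ℤ) - 1 - 1 = (h : ℤ) - 2 by ring] at h1)
  have hne : φ x ≠ φ y := fun e1 => by
    have h1 := hσ' (((h : ℤ) - 1) * -1) (by
      rw [mul_comm, zpow_mul, ← hxv, ← hyv, ← e1]
      show φ x (φ x _) = _
      rw [← MulAut.mul_apply, hxx, MulAut.one_apply])
    rw [show ((h : ℤ) - 1) * -1 - 1 = -(h : ℤ) by ring, dvd_neg] at h1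
    exact hnd h (by omega) (by omega) h1
  -- hence the order of the normalizer is divisible by 8h
  have h4 : 4 ∣ Nat.card φ.range := by
    set P := Z[φ x]
    set Q := Z[φ y]
    let ψ : P × Q →* φ.range := ((P.subtype.noncommCoprod Q.subtype fun p q => by
        obtain ⟨i, hi⟩ := Subgroup.mem_zpowers_iff.1 p.2
        obtain ⟨j, hj⟩ := Subgroup.mem_zpowers_iff.1 q.2
        show Commute (p : MulAut Z[σ]) (q : MulAut Z[σ])
        rw [← hi, ← hj]
        exact (show Commute (φ x) (φ y) from hxy).zpow_zpow i j).codRestrict φ.range fun pq =>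
      mul_mem ((Subgroup.zpowers_le.2 ⟨x, rfl⟩ : P ≤ φ.range) pq.1.2)
        ((Subgroup.zpowers_le.2 ⟨y, rfl⟩ : Q ≤ φ.range) pq.2.2))
    have hP : ∀ {g : MulAut Z[σ]}, g * g = 1 → ∀ {w}, w ∈ Z[g] → w = 1 ∨ w = g := by
      intro g hg w hw
      obtain ⟨i, rfl⟩ := Subgroup.mem_zpowers_iff.1 hw
      obtain ⟨j, rfl | rfl⟩ := Int.even_or_odd' i
      · left; rw [zpow_mul, zpow_two, hg, one_zpow]
      · right; rw [zpow_add_one, zpow_mul, zpow_two, hg, one_zpow, one_mul]
    have hψ : Function.Injective ψ := by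
      rw [injective_iff_map_eq_one]
      rintro ⟨⟨p, hp⟩, ⟨q, hq⟩⟩ e1
      have e2 : p * q = 1 := congrArg Subtype.val e1
      rcases hP hxx hp with rfl | rfl <;> rcases hP hyy hq with rfl | rfl
      · rfl
      · exact absurd (by simpa using e2) hy1
      · exact absurd (by simpa using e2) hx1
      · exact absurd ((eq_inv_of_mul_eq_one_left e2).trans (inv_eq_of_mul_eq_one_right hyy)) hne
    have h1 : Nat.card (P × Q) = 4 := by
      rw [Nat.card_prod, Nat.card_zpowers, Nat.card_zpowers,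
        orderOf_eq_prime (by rw [sq]; exact hxx) hx1, orderOf_eq_prime (by rw [sq]; exact hyy) hy1]
    rw [← h1]
    exact Subgroup.card_dvd_of_injective ψ hψ
  have h8 : 8 * h ∣ Nat.card G := by
    refine dvd_trans ?_ (Subgroup.card_subgroup_dvd_card N)
    rw [← φ.ker.card_mul_index, Subgroup.index_ker]
    rw [show 8 * h = (2 * h) * 4 by ring]
    exact mul_dvd_mul h2 h4
  obtain ⟨c, hc⟩ := h8
  refine S.not_dvd_index ⟨c, ?_⟩
  have h1 := (S : Subgroup G).card_mul_index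
  rw [D.card, hc] at h1
  refine mul_left_cancel₀ (show 4 * h ≠ 0 by omega) (h1.trans ?_)
  ring

/-- Odd rotations are no products of two involutions on their sections. -/
theorem coreSol_odd {i : ℕ} (hi : Odd i) : coreSol (σ ^ i) = ∅ := by
  obtain ⟨k, hk⟩ := D.hh
  have h2h : Even (2 * h) := even_two_mul h
  obtain ⟨l, hl⟩ := D.exists_order i fun hd =>
    Nat.not_even_iff_odd.2 hi (even_iff_two_dvd.2 ((hk ▸ dvd_pow_self 2 (by omega) : 2 ∣ h).trans hd))
  refine eq_empty_of_forall_notMem fun ⟨a, v⟩ hav => ?_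
  obtain ⟨-, hx, -⟩ := (mem_coreSol hl).1 hav
  have hcop : IsCoprime (i : ℤ) ((2 * h : ℕ) : ℤ) := by
    rw [Nat.isCoprime_iff_coprime, hk, ← pow_succ']
    exact (Nat.coprime_two_right.2 hi).pow_right _
  obtain ⟨s, t, hst⟩ := hcop
  have hσ : (σ ^ i) ^ s = σ := by
    rw [← zpow_natCast, ← zpow_mul, mul_comm, show s * (i : ℤ) = 1 + ((2 * h : ℕ) : ℤ) * (-t) by linarith,
      zpow_add, zpow_one, zpow_mul, zpow_natCast, ← D.ordσ, pow_orderOf_eq_one, one_zpow, mul_one]
  refine D.σ_not_real a ?_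
  conv_lhs => rw [← hσ, ← conj_zpow, hx, inv_zpow, hσ]

theorem h_facts : 4 ∣ h ∧ 4 ≤ h ∧ h = 2 * (h / 2) ∧ 0 < h / 2 ∧ h / 2 < 2 * h ∧ Even (h / 2) := by
  obtain ⟨k, hk⟩ := D.hh
  have h1 : h = 4 * 2 ^ k := by rw [hk]; ring
  have := Nat.two_pow_pos k
  exact ⟨⟨_, h1⟩, by omega, by omega, by omega, by omega, ⟨2 ^ k, by omega⟩⟩

theorem orderOf_four : orderOf (σ ^ (h / 2)) = 2 ^ 2 := by
  obtain ⟨-, h4, he, h0, -, -⟩ := D.h_facts
  rw [orderOf_pow_of_dvd h0.ne' (by rw [D.ordσ]; exact dvd_mul_of_dvd_right (Dvd.intro_left 2 he.symm) _),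
    D.ordσ]
  exact Nat.div_eq_of_eq_mul_left h0 (by omega)

/-- **The count on the section of the element of order four.** -/
theorem card_coreSol_four (hM : IsPModular 2 M) :
    h * ((coreSol (σ ^ (h / 2))).card *
      Nat.card (Subgroup.centralizer ({σ ^ (h / 2)} : Set G) ⊓
        Subgroup.centralizer ({τ} : Set G) : Subgroup G) ^ 2) =
      Nat.card (Subgroup.centralizer ({σ ^ (h / 2)} : Set G)) ^ 2 := by
  have S' := D.sdData hM
  obtain ⟨-, h4, he, h0, hlt, -⟩ := D.h_facts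
  have hih : h / 2 ≠ h := by omega
  have hf4 := D.orderOf_four
  have hidx := D.index_core_rot hM hlt h0.ne' hih
  set f := σ ^ (h / 2) with hf
  set C := Subgroup.centralizer ({f} : Set G) with hC
  set K := (core 2 f).map C.subtype with hK
  have hKn : ∀ c ∈ C, ∀ v ∈ K, c * v * c⁻¹ ∈ K := by
    rintro c hc _ ⟨v, hv, rfl⟩
    haveI := CfsgLib.Solvable.pPrimeCore_normal (G := C) 2
    exact ⟨⟨c, hc⟩ * v * ⟨c, hc⟩⁻¹, Subgroup.Normal.conj_mem inferInstance _ hv _, rfl⟩
  have hKcard : Nat.card K = Nat.card (core 2 f) :=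
    Subgroup.card_map_of_injective C.subtype_injective
  have hKodd : Odd (Nat.card K) := by
    rw [hKcard, ← Nat.coprime_two_right]
    exact CfsgLib.Solvable.coprime_card_pPrimeCore 2
  have hτf : τ * f * τ⁻¹ = f⁻¹ := S'.τ_w
  have hτn : ∀ c ∈ C, τ * c * τ⁻¹ ∈ C := fun c hc => by
    rw [hC, Subgroup.mem_centralizer_singleton_iff] at hc ⊢
    have h1 : f = τ⁻¹ * f⁻¹ * τ := by rw [← hτf]; group
    have h2 : c * (τ⁻¹ * f⁻¹ * τ) = (τ⁻¹ * f⁻¹ * τ) * c := by rw [← h1]; exact hc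
    have h3 : τ * c * τ⁻¹ * f⁻¹ = f⁻¹ * (τ * c * τ⁻¹) := by
      calc τ * c * τ⁻¹ * f⁻¹ = τ * (c * (τ⁻¹ * f⁻¹ * τ)) * τ⁻¹ := by group
        _ = _ := by rw [h2]; group
    exact (Commute.inv_right_iff.1 h3).eq
  have hKτ : ∀ v ∈ K, τ * v * τ⁻¹ ∈ K := by
    rintro _ ⟨v, hv, rfl⟩
    let e : C ≃* C :=
      { toFun := fun c => ⟨τ * (c : G) * τ⁻¹, hτn c c.2⟩
        invFun := fun c => ⟨τ⁻¹ * (c : G) * τ, by
          rw [CfsgLib.Invol.inv_eq_self D.ordτ]
          have := hτn c c.2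
          rwa [CfsgLib.Invol.inv_eq_self D.ordτ] at this⟩
        left_inv := fun c => Subtype.ext (by simp [mul_assoc])
        right_inv := fun c => Subtype.ext (by simp [mul_assoc])
        map_mul' := fun a b => Subtype.ext (by push_cast; group) }
    refine ⟨e v, ?_, rfl⟩
    exact CfsgLib.Solvable.le_pPrimeCore 2
      ((CfsgLib.Solvable.pPrimeCore_normal (G := C) 2).map e.toMonoidHom e.surjective)
      (by rw [Subgroup.card_map_of_injective e.injective]; exact
        CfsgLib.Solvable.coprime_card_pPrimeCore 2)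
      ⟨v, hv, rfl⟩
  set T := (univ : Finset G).filter fun a => orderOf a = 2 ∧ a * f * a⁻¹ = f⁻¹ with hT
  -- transitivity
  have htrans : ∀ a ∈ T, ∃ c ∈ C, c * τ * c⁻¹ = a := by
    intro a ha
    obtain ⟨-, ha2, haf⟩ := mem_filter.1 ha
    let N : Subgroup G :=
      { carrier := {g | g * f * g⁻¹ = f ∨ g * f * g⁻¹ = f⁻¹}
        one_mem' := Or.inl (by group)
        mul_mem' := fun {g g'} hg hg' => by
          show g * g' * f * (g * g')⁻¹ = f ∨ g * g' * f * (g * g')⁻¹ = f⁻¹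
          rw [show g * g' * f * (g * g')⁻¹ = g * (g' * f * g'⁻¹) * g⁻¹ by group]
          rcases hg' with e | e <;> rw [e]
          · exact hg
          · rcases hg with e' | e' <;> rw [← conj_inv, e']
            · exact Or.inr rfl
            · exact Or.inl (inv_inv f)
        inv_mem' := fun {g} hg => by
          show g⁻¹ * f * g⁻¹⁻¹ = f ∨ g⁻¹ * f * g⁻¹⁻¹ = f⁻¹
          rcases hg with e | e
          · left; conv_lhs => rw [← e]
            group
          · right
            have e' : g * f⁻¹ * g⁻¹ = f := by rw [← conj_inv, e, inv_inv]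
            conv_lhs => rw [← e']
            group }
    have hSN : (S : Subgroup G) ≤ N := fun g hg => by
      rcases S'.conj_rot hg (Subgroup.npow_mem_zpowers σ (h / 2)) with e | e
      · exact Or.inl e
      · exact Or.inr (e.trans hτf)
    have hap : IsPGroup 2 (Z[(⟨a, Or.inr haf⟩ : N)]) :=
      IsPGroup.of_card (n := 1) (by rw [Nat.card_zpowers, ← Subgroup.orderOf_coe, ha2, pow_one])
    obtain ⟨R, hR⟩ := hap.exists_le_sylow
    obtain ⟨c, hc⟩ := MulAction.exists_smul_eq N R (S.subtype hSN)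
    have hmem : (c : G) * a * (c : G)⁻¹ ∈ (S : Subgroup G) := by
      have h1 : c * ⟨a, Or.inr haf⟩ * c⁻¹ ∈ ((c • R : Sylow 2 N) : Subgroup N) := by
        rw [Sylow.smul_def, Sylow.pointwise_smul_def]
        exact Subgroup.smul_mem_pointwise_smul _ (MulAut.conj c) _ (hR (Subgroup.mem_zpowers _))
      rw [hc] at h1
      exact h1
    have hinv : (c : G) * a * (c : G)⁻¹ * f * ((c : G) * a * (c : G)⁻¹)⁻¹ = f⁻¹ := by
      rw [show (c : G) * a * (c : G)⁻¹ * f * ((c : G) * a * (c : G)⁻¹)⁻¹ =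
        (c : G) * (a * ((c : G)⁻¹ * f * (c : G)⁻¹⁻¹) * a⁻¹) * (c : G)⁻¹ by group]
      rcases N.inv_mem c.2 with e | e
      · rw [e, haf, ← conj_inv]
        have e' : (c : G) * f * (c : G)⁻¹ = f := by
          nth_rewrite 1 [← e]; group
        rw [e']
      · rw [e, ← conj_inv, haf, inv_inv]
        have e' : (c : G) * f⁻¹ * (c : G)⁻¹ = f := by
          nth_rewrite 1 [← e]; group
        rw [← inv_inj, conj_inv, inv_inv]
        exact e'
    have hnZ : (c : G) * a * (c : G)⁻¹ ∉ Z[σ] := fun hm => by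
      rw [S'.rot_comm hm (Subgroup.npow_mem_zpowers σ (h / 2)), mul_inv_cancel_right] at hinv
      have h1 : f ^ 2 = 1 := by
        rw [sq]; exact (congrArg (f * ·) hinv).trans (mul_inv_cancel f)
      have h2 := Nat.le_of_dvd two_pos (orderOf_dvd_of_pow_eq_one h1)
      rw [hf4] at h2
      norm_num at h2
    obtain ⟨i, hi⟩ := S'.exists_refl hmem hnZ
    have hi2 : 2 ∣ i := by
      by_contra hn
      have h1 : (c : G) * a * (c : G)⁻¹ * ((c : G) * a * (c : G)⁻¹) = 1 := by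
        rw [show (c : G) * a * (c : G)⁻¹ * ((c : G) * a * (c : G)⁻¹) = (c : G) * (a * a) * (c : G)⁻¹
          by group, CfsgLib.Invol.mul_self_eq_one ha2, mul_one, mul_inv_cancel]
      rw [hi, S'.refl_sq_odd hn] at h1
      exact S'.z_ne_one h1
    obtain ⟨r, hr, hr'⟩ := S'.exists_refl_conj (i := i) (j := 0) (by simpa using hi2)
    rw [zpow_zero, one_mul, ← hi] at hr'
    have hrC : r ∈ C := by
      rw [hC, Subgroup.mem_centralizer_singleton_iff]
      exact S'.rot_comm hr (Subgroup.npow_mem_zpowers σ (h / 2))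
    set g := r * (c : G) with hg
    have hga : g * a * g⁻¹ = τ := by rw [← hr', hg]; group
    rcases c.2 with e | e
    · refine ⟨g⁻¹, C.inv_mem (C.mul_mem hrC ?_), by rw [← hga]; group⟩
      rw [hC, Subgroup.mem_centralizer_singleton_iff]
      exact mul_inv_eq_iff_eq_mul.1 e
    · refine ⟨(τ * g)⁻¹, C.inv_mem ?_, ?_⟩
      · rw [hC, Subgroup.mem_centralizer_singleton_iff, ← mul_inv_eq_iff_eq_mul, hg,
          show τ * (r * c) * f * (τ * (r * c))⁻¹ = τ * (r * (c * f * (c : G)⁻¹) * r⁻¹) * τ⁻¹ by group,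
          e, (Commute.inv_right (show Commute r f from Subgroup.mem_centralizer_singleton_iff.1 hrC)).eq,
          mul_inv_cancel_right, ← conj_inv, hτf, inv_inv]
      · rw [show (τ * g)⁻¹ * τ * (τ * g)⁻¹⁻¹ = g⁻¹ * (τ⁻¹ * τ * τ) * g by group, inv_mul_cancel,
          one_mul, ← hga]
        group
  -- orbit and stabiliser
  set A := C ⊓ Subgroup.centralizer ({τ} : Set G) with hA
  have horb : T.card * Nat.card A = Nat.card C := by
    symm
    rw [Nat.card_eq_fintype_card (α := C), ← card_univ,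
      card_eq_sum_card_fiberwise (f := fun c : C => (c : G) * τ * (c : G)⁻¹) (t := T) fun c _ => ?_]
    · rw [← smul_eq_mul, ← sum_const]
      refine sum_congr rfl fun a ha => ?_
      obtain ⟨c₀, hc₀, rfl⟩ := htrans a ha
      rw [Nat.card_eq_fintype_card, ← card_univ]
      refine (card_bij (s := (univ : Finset A))
        (fun d _ => (⟨c₀ * (d : G), C.mul_mem hc₀ d.2.1⟩ : C)) (fun d _ => ?_) (fun d _ d' _ e => ?_)
        fun c hc => ?_).symm
      · refine mem_filter.2 ⟨mem_univ _, ?_⟩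
        have h1 := Subgroup.mem_centralizer_singleton_iff.1 d.2.2
        calc c₀ * (d : G) * τ * (c₀ * (d : G))⁻¹ = c₀ * ((d : G) * τ) * (d : G)⁻¹ * c₀⁻¹ := by group
          _ = _ := by rw [h1]; group
      · exact Subtype.ext (mul_left_cancel (congrArg Subtype.val e))
      · have h1 := (mem_filter.1 hc).2
        refine ⟨⟨c₀⁻¹ * (c : G), C.mul_mem (C.inv_mem hc₀) c.2, ?_⟩, mem_univ _,
          Subtype.ext (mul_inv_cancel_left c₀ (c : G))⟩
        refine Subgroup.mem_centralizer_singleton_iff.2 ?_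
        calc c₀⁻¹ * (c : G) * τ = c₀⁻¹ * ((c : G) * τ * (c : G)⁻¹) * c := by group
          _ = τ * (c₀⁻¹ * c) := by rw [h1]; group
    · refine mem_filter.2 ⟨mem_univ _, by rw [CfsgLib.Invol.orderOf_conj_eq, D.ordτ], ?_⟩
      have h1 := Subgroup.mem_centralizer_singleton_iff.1 c.2
      have h2 : (c : G)⁻¹ * f * (c : G)⁻¹⁻¹ = f := by rw [inv_inv, mul_assoc, ← h1, inv_mul_cancel_left]
      calc (c : G) * τ * (c : G)⁻¹ * f * ((c : G) * τ * (c : G)⁻¹)⁻¹
          = (c : G) * (τ * ((c : G)⁻¹ * f * (c : G)⁻¹⁻¹) * τ⁻¹) * (c : G)⁻¹ := by group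
        _ = f⁻¹ := by
          rw [h2, hτf, (Commute.inv_right (show Commute (c : G) f from h1)).eq, mul_inv_cancel_right]
  -- the inverted elements
  set I := fun a : G => Nat.card {v : G // v ∈ K ∧ a * v * a⁻¹ = v⁻¹}
  have hsol : (coreSol f).card = T.card * I τ := by
    rw [card_eq_sum_card_fiberwise (f := fun av : G × core 2 f => av.1) (t := T) fun av hav => ?_,
      ← smul_eq_mul, ← sum_const]
    · refine sum_congr rfl fun a ha => ?_
      obtain ⟨-, ha2, haf⟩ := mem_filter.1 ha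
      obtain ⟨c, hc, hca⟩ := htrans a ha
      have e1 : I a = I τ := Nat.card_congr
        { toFun := fun v => ⟨c⁻¹ * v.1 * c, by
            have := hKn c⁻¹ (C.inv_mem hc) v.1 v.2.1; rwa [inv_inv] at this, by
            have h1 : c * τ * c⁻¹ * v.1 * (c * τ * c⁻¹)⁻¹ = v.1⁻¹ := by rw [hca]; exact v.2.2
            calc τ * (c⁻¹ * v.1 * c) * τ⁻¹ = c⁻¹ * (c * τ * c⁻¹ * v.1 * (c * τ * c⁻¹)⁻¹) * c := by group
              _ = _ := by rw [h1]; group⟩
          invFun := fun v => ⟨c * v.1 * c⁻¹, hKn c hc v.1 v.2.1, by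
            rw [← hca]
            calc c * τ * c⁻¹ * (c * v.1 * c⁻¹) * (c * τ * c⁻¹)⁻¹ = c * (τ * v.1 * τ⁻¹) * c⁻¹ := by group
              _ = _ := by rw [v.2.2]; group⟩
          left_inv := fun v => Subtype.ext (by group)
          right_inv := fun v => Subtype.ext (by group) }
      rw [← e1]
      show (_ : Finset (G × core 2 f)).card = Nat.card {v : G // v ∈ K ∧ a * v * a⁻¹ = v⁻¹}
      rw [← Nat.card_eq_finsetCard]
      refine Nat.card_eq_of_bijective
        (fun p => ⟨((p.1.2 : C) : G), ⟨_, p.1.2.2, rfl⟩, ?_⟩) ⟨fun p p' e => ?_, fun v => ?_⟩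
      · obtain ⟨h1, h2⟩ := mem_filter.1 p.2
        obtain ⟨-, -, h5⟩ := (mem_coreSol (k := 0) hf4).1 (show (p.1.1, p.1.2) ∈ coreSol f from h1)
        rwa [h2] at h5
      · refine Subtype.ext (Prod.ext ((mem_filter.1 p.2).2.trans (mem_filter.1 p'.2).2.symm) ?_)
        have e' : ((p.1.2 : C) : G) = ((p'.1.2 : C) : G) := Subtype.mk.inj e
        exact Subtype.ext (Subtype.ext e')
      · obtain ⟨v, ⟨w, hw, rfl⟩, hv⟩ := v
        exact ⟨⟨(a, ⟨w, hw⟩), mem_filter.2 ⟨(mem_coreSol (k := 0) hf4).2 ⟨ha2, haf, hv⟩, rfl⟩⟩, rfl⟩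
    · obtain ⟨a, v⟩ := av
      obtain ⟨h1, h2, -⟩ := (mem_coreSol (k := 0) hf4).1 hav
      exact mem_filter.2 ⟨mem_univ _, h1, h2⟩
  -- fixed points
  have hinv : (K ⊓ Subgroup.centralizer ({τ} : Set G)).relIndex K = I τ :=
    CfsgLib.IsoApps.relIndex_eq_card_inverted (CfsgLib.Invol.mul_self_eq_one D.ordτ) hKodd hKτ
  have hfix : I τ * Nat.card (K ⊓ Subgroup.centralizer ({τ} : Set G) : Subgroup G) = Nat.card K := by
    rw [← hinv, mul_comm, ← Subgroup.relIndex_bot_left,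
      Subgroup.relIndex_mul_relIndex ⊥ _ K bot_le inf_le_left, Subgroup.relIndex_bot_left]
  have hKC : K ≤ C := Subgroup.map_subtype_le _
  set A₀ := K ⊓ Subgroup.centralizer ({τ} : Set G) with hA₀
  have hA₀le : A₀ ≤ A := inf_le_inf_right _ hKC
  -- the index of the odd part
  have hKA : Nat.card A = 2 * Nat.card A₀ := by
    have hcore : (core 2 f).index = 2 * h := hidx
    haveI := CfsgLib.Solvable.pPrimeCore_normal (G := C) 2
    let ι : A →* C := Subgroup.inclusion inf_le_left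
    let ψ : A →* C ⧸ core 2 f := (QuotientGroup.mk' (core 2 f)).comp ι
    have hker : Nat.card ψ.ker = Nat.card A₀ := Nat.card_congr
      { toFun := fun g => ⟨(g.1 : G), ⟨ι g.1, (QuotientGroup.eq_one_iff _).1 g.2, rfl⟩, g.1.2.2⟩
        invFun := fun g => ⟨⟨g.1, hA₀le g.2⟩, (QuotientGroup.eq_one_iff _).2 (by
          obtain ⟨v, hv, hv'⟩ := g.2.1
          have : (⟨g.1, hKC g.2.1⟩ : C) = v := Subtype.ext hv'.symm
          show (⟨g.1, hKC g.2.1⟩ : C) ∈ core 2 f
          rw [this]; exact hv)⟩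
        left_inv := fun g => rfl
        right_inv := fun g => rfl }
    have hzA : σ ^ h ∈ A := by
      refine ⟨Subgroup.mem_centralizer_singleton_iff.2
        (S'.rot_comm (Subgroup.npow_mem_zpowers σ _) (Subgroup.npow_mem_zpowers σ _)),
        Subgroup.mem_centralizer_singleton_iff.2 (S'.z_comm D.τ_mem).symm⟩
    -- the image consists of the classes of `1` and `σ ^ h`
    have hσC : ∀ j : ℕ, σ ^ j ∈ C := fun j => Subgroup.mem_centralizer_singleton_iff.2
      (S'.rot_comm (Subgroup.npow_mem_zpowers σ _) (Subgroup.npow_mem_zpowers σ _))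
    let π := QuotientGroup.mk' (core 2 f)
    have hπinj : ∀ j < 2 * h, π ⟨σ ^ j, hσC j⟩ = 1 → j = 0 := fun j hj e => by
      by_contra hj0
      obtain ⟨k, hk⟩ := D.rot_order j
      have h1 := not_dvd_orderOf Nat.prime_two ((QuotientGroup.eq_one_iff _).1 e)
      rw [← Subgroup.orderOf_coe] at h1
      rcases k with _ | k
      · exact S'.pow_ne_one (Nat.one_le_iff_ne_zero.2 hj0) hj
          (orderOf_eq_one_iff.1 (hk.trans (pow_zero 2)))
      · exact h1 (by show 2 ∣ orderOf (σ ^ j); rw [hk]; exact dvd_pow_self 2 (Nat.succ_ne_zero k))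
    have hbij : Function.Bijective (fun j : Fin (2 * h) => π ⟨σ ^ (j : ℕ), hσC j⟩) := by
      refine (Nat.bijective_iff_injective_and_card _).2 ⟨fun a b e => ?_, ?_⟩
      · by_contra hne
        wlog hab : (b : ℕ) < a generalizing a b
        · exact this b a e.symm (Ne.symm hne) (lt_of_le_of_ne (not_lt.1 hab) fun h' => hne (Fin.ext h'))
        have h1 := hπinj ((a : ℕ) - b) (by omega) ?_
        · omega
        have h2 : (⟨σ ^ (a : ℕ), hσC a⟩ : C) = ⟨σ ^ ((a : ℕ) - b), hσC _⟩ * ⟨σ ^ (b : ℕ), hσC b⟩ :=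
          Subtype.ext (by show σ ^ (a : ℕ) = σ ^ ((a : ℕ) - b) * σ ^ (b : ℕ)
                          rw [← pow_add, Nat.sub_add_cancel hab.le])
        simp only [h2, map_mul] at e
        exact mul_eq_right.1 e
      · rw [Nat.card_eq_fintype_card, Fintype.card_fin, ← Subgroup.index_eq_card, hcore]
    have hπτ : ∀ (d : C), π d = 1 → π ⟨τ * (d : G) * τ⁻¹, hτn d d.2⟩ = 1 := fun d hd => by
      obtain ⟨v, hv, hv'⟩ := hKτ (d : G) ⟨d, (QuotientGroup.eq_one_iff _).1 hd, rfl⟩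
      refine (QuotientGroup.eq_one_iff _).2 ?_
      have he : v = (⟨τ * (d : G) * τ⁻¹, hτn d d.2⟩ : C) := Subtype.ext hv'
      exact he ▸ hv
    have hrange : Nat.card ψ.range = 2 := by
      have hr : (ψ.range : Set (C ⧸ core 2 f)) = {1, ψ ⟨σ ^ h, hzA⟩} := by
        refine Set.Subset.antisymm ?_ (Set.insert_subset (one_mem _) (Set.singleton_subset_iff.2 ⟨_, rfl⟩))
        rintro _ ⟨b, rfl⟩
        obtain ⟨⟨j, hj⟩, hjb⟩ := hbij.2 (ψ b)
        have h1 : π (⟨σ ^ j, hσC j⟩⁻¹ * ι b) = 1 := by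
          rw [map_mul, map_inv, inv_mul_eq_one]; exact hjb
        have h2 := hπτ _ h1
        have h3 : (⟨τ * ((⟨σ ^ j, hσC j⟩⁻¹ * ι b : C) : G) * τ⁻¹, hτn _ (SetLike.coe_mem _)⟩ : C) =
            ⟨σ ^ sw h j, hσC _⟩⁻¹ * ι b := Subtype.ext (by
          show τ * ((σ ^ j)⁻¹ * (b : G)) * τ⁻¹ = (σ ^ sw h j)⁻¹ * (b : G)
          rw [← S'.τ_sw j, show τ * ((σ ^ j)⁻¹ * (b : G)) * τ⁻¹ =
            (τ * σ ^ j * τ⁻¹)⁻¹ * (τ * (b : G) * τ⁻¹) by group,
            mul_inv_eq_iff_eq_mul.2 (Subgroup.mem_centralizer_singleton_iff.1 b.2.2).symm])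
        rw [h3, map_mul, map_inv, inv_mul_eq_one] at h2
        have h4 : sw h j = j :=
          congrArg Fin.val (hbij.1 (a₁ := ⟨sw h j, sw_lt S'.h_pos j⟩) (a₂ := ⟨j, hj⟩) (h2.trans hjb.symm))
        rcases eq_or_ne j 0 with rfl | hj0
        · left; rw [← hjb]; show π ⟨σ ^ 0, hσC 0⟩ = 1
          exact (congrArg π (Subtype.ext (pow_zero σ))).trans (map_one π)
        · rcases eq_or_ne j h with rfl | hjh
          · exact Or.inr hjb.symm
          · exact absurd h4 (sw_ne S'.four_dvd S'.h_pos hj hj0 hjh)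
      rw [← SetLike.coe_sort_coe, Nat.card_coe_set_eq, hr, Set.ncard_pair]
      intro e
      exact S'.h_pos.ne' (hπinj h (by omega) e.symm)
    rw [← ψ.ker.card_mul_index, Subgroup.index_ker, hrange, hker, mul_comm]
  have hcard : Nat.card C = 2 * h * Nat.card K := by
    rw [hKcard, ← (core 2 f).card_mul_index, hidx, mul_comm]
  -- combine
  have e : h * ((coreSol f).card * Nat.card A ^ 2) =
      2 * h * (I τ * Nat.card A₀) * (T.card * Nat.card A) := by
    rw [hsol, hKA]; ring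
  rw [e, hfix, horb, ← hcard, sq]

end Gen

end CfsgLib.AlmostZ
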