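import Cfsg.Prelude.Def_CaseTheorems

/-!
# Cyclic odd Sylow subgroups with a semidihedral Sylow 2-subgroup: the interfaces
-/

set_option autoImplicit false

namespace CfsgLib.AlmostZ

universe u

/-- All Sylow subgroups of odd order are cyclic. -/
def OddCyclic (G : Type u) [Group G] : Prop :=
  ∀ p : ℕ, p.Prime → p ≠ 2 → ∀ P : Sylow p G, IsCyclic P

/-- Generators of a semidihedral Sylow 2-subgroup of order `4 * h`. -/
structure Gen {G : Type u} [Group G] (S : Sylow 2 G) (σ τ : G) (h : ℕ) : Prop where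
  hh : ∃ k : ℕ, h = 2 ^ (k + 2)
  ordσ : orderOf σ = 2 * h
  ordτ : orderOf τ = 2
  rel : τ * σ * τ⁻¹ = σ ^ ((h : ℤ) - 1)
  σ_mem : σ ∈ (S : Subgroup G)
  τ_mem : τ ∈ (S : Subgroup G)
  cases : ∀ g ∈ (S : Subgroup G), ∃ i : ℤ, g = σ ^ i ∨ g = σ ^ i * τ
  card : Nat.card (S : Subgroup G) = 4 * h
  τ_not : τ ∉ Subgroup.zpowers σ

/-- The centralizer of an element. -/
abbrev cen {G : Type u} [Group G] (x : G) : Subgroup G := Subgroup.centralizer ({x} : Set G)

/-- A subgroup of index `p + 1` of the centralizer of the central involution, with a normal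
2-complement, whose orbits on its cosets are two. -/
structure Borel {H : Type u} [Group H] (B : Subgroup H) (p : ℕ) : Prop where
  index : B.index = p + 1
  double : ∀ g g' : H, g ∉ B → g' ∉ B → ∃ a ∈ B, ∃ b ∈ B, g' = a * g * b
  complement : ∃ K : Subgroup H, K ≤ B ∧ Odd (Nat.card K) ∧ (∀ a ∈ B, ∀ x ∈ K, a * x * a⁻¹ ∈ K) ∧
    ∃ j : ℕ, Nat.card B = 2 ^ j * Nat.card K

/-- The local facts about a simple group with semidihedral Sylow 2-subgroup and cyclic odd Sylow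
subgroups: `C(σ ^ h)` is built on `SL₂(p)`. -/
structure LocalFacts {G : Type u} [Group G] (σ τ : G) (h p o : ℕ) : Prop where
  prime : p.Prime
  ne_two : p ≠ 2
  odd_o : Odd o
  card_cen : Nat.card (cen (σ ^ h)) = 2 * p * (p ^ 2 - 1) * o
  /-- `h` is the 2-part of `p + 1` or of `p - 1`, whichever is divisible by four -/
  h_eq : (p % 4 = 3 → ∃ r, Odd r ∧ p + 1 = h * r) ∧ (p % 4 = 1 → ∃ r, Odd r ∧ p - 1 = h * r)
  borel : ∃ B : Subgroup (cen (σ ^ h)), Borel B p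
  val_p : 5 ≤ p → padicValNat p (Nat.card G) = 1 ∧ ¬ p ∣ Nat.card (cen (σ ^ (h / 2)))
  val_three : p = 3 →
    padicValNat 3 (Nat.card G) = padicValNat 3 (Nat.card (cen (σ ^ h))) ∧
    padicValNat 3 (Nat.card (cen (σ ^ (h / 2)))) + 1 = padicValNat 3 (Nat.card (cen (σ ^ h)))
  val_torus : 5 ≤ p → ∀ s : ℕ, s.Prime → s ≠ 2 →
    ((p % 4 = 3 ∧ s ∣ p + 1) ∨ (p % 4 = 1 ∧ s ∣ p - 1)) →
    padicValNat s (Nat.card G) = padicValNat s (Nat.card (cen (σ ^ h))) ∧
    padicValNat s (Nat.card (cen (σ ^ (h / 2)))) = padicValNat s (Nat.card (cen (σ ^ h))) ∧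
    ¬ s ∣ Nat.card (cen (σ ^ (h / 2)) ⊓ cen τ : Subgroup G)

end CfsgLib.AlmostZ
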