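import Cfsg.Agent.AlmostZ.Five
import Mathlib.RingTheory.ZMod.UnitsCyclic

/-!
# No group of order `85680` has these local data
-/

set_option autoImplicit false
set_option linter.style.haveILetI false
set_option linter.unusedSectionVars false
set_option maxHeartbeats 400000

namespace CfsgLib.AlmostZ

open Subgroup

universe u

section general

variable {G : Type u} [Group G] [Finite G]

theorem fac_eq {n p k : ℕ} (hp : p.Prime) (hn : n ≠ 0) (h1 : p ^ k ∣ n) (h2 : ¬ p ^ (k + 1) ∣ n) :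
    n.factorization p = k := by
  rw [hp.pow_dvd_iff_le_factorization hn] at h1 h2
  omega

/-- The conjugates of a Sylow subgroup. -/
theorem sylow_count {p : ℕ} [Fact p.Prime] (P : Sylow p G) :
    ∃ n : ℕ, n % p = 1 ∧ n * (Nat.card (centralizer ((P : Subgroup G) : Set G)) *
      Nat.card (P : Subgroup G).normalizerMonoidHom.range) = Nat.card G := by
  refine ⟨Nat.card (Sylow p G), ?_, ?_⟩
  · have h1 := card_sylow_modEq_one p G
    rw [Nat.ModEq, Nat.one_mod_eq_one.2 (Fact.out : p.Prime).ne_one] at h1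
    exact h1
  · rw [Sylow.card_eq_index_normalizer P, ← card_normalizer_eq]
    exact (normalizer ((P : Subgroup G) : Set G)).index_mul_card

/-- A trivial image of the normalizer. -/
theorem normalizer_le_centralizer_of_range {P : Subgroup G}
    (h : Nat.card P.normalizerMonoidHom.range = 1) :
    normalizer (P : Set G) ≤ centralizer (P : Set G) := fun n hn => by
  have h1 : P.normalizerMonoidHom ⟨n, hn⟩ = 1 :=
    mem_bot.1 (eq_bot_of_card_eq _ h ▸ MonoidHom.mem_range.2 ⟨⟨n, hn⟩, rfl⟩)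
  rw [← MonoidHom.mem_ker, normalizerMonoidHom_ker, mem_subgroupOf] at h1
  exact h1

end general

namespace Gen

variable {G : Type u} [Group G] [Finite G] [Group.IsPerfect G] {S : Sylow 2 G} {σ τ : G} {h : ℕ}
variable (D : Gen S σ τ h)
include D

/-- What an involution centralizes has order dividing that of `C(z)`. -/
theorem dvd_cen {w : G} (hw : orderOf w = 2) {K : Subgroup G} (hK : K ≤ cen w) :
    Nat.card K ∣ Nat.card (cen (σ ^ h)) := by
  obtain ⟨c, hc⟩ := isConj_iff.1 (D.isConj_invol hw D.orderOf_z)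
  rw [Nat.card_congr (K.equivMapOfInjective (MulAut.conj c).toMonoidHom (MulAut.conj c).injective).toEquiv]
  refine card_dvd_of_le ?_
  rintro _ ⟨g, hg, rfl⟩
  refine mem_centralizer_singleton_iff.2 ?_
  have e := mem_centralizer_singleton_iff.1 (hK hg)
  show c * g * c⁻¹ * σ ^ h = σ ^ h * (c * g * c⁻¹)
  rw [← hc]
  calc c * g * c⁻¹ * (c * w * c⁻¹) = c * (g * w) * c⁻¹ := by group
    _ = c * (w * g) * c⁻¹ := by rw [e]
    _ = _ := by group

theorem odd_centralizer {K : Subgroup G} (hK : ¬ Nat.card K ∣ Nat.card (cen (σ ^ h))) :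
    Odd (Nat.card (centralizer (K : Set G))) := by
  haveI : Fact (Nat.Prime 2) := ⟨Nat.prime_two⟩
  refine Nat.not_even_iff_odd.1 fun he => hK ?_
  obtain ⟨⟨w, hw⟩, hwo⟩ := exists_prime_orderOf_dvd_card' 2 (even_iff_two_dvd.1 he)
  rw [Subgroup.orderOf_mk] at hwo
  exact D.dvd_cen hwo fun g hg => mem_centralizer_singleton_iff.2 (mem_centralizer_iff.1 hw g hg)

/-- No element of order seventeen commutes with a subgroup of order nine. -/
theorem no_seventeen (hN : Nat.card G = 85680) (hH : Nat.card (cen (σ ^ h)) = 240)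
    {x : G} (hx : orderOf x = 17) {P : Subgroup G} (hP : Nat.card P = 9) (hPx : P ≤ cen x) : False := by
  haveI : Fact (Nat.Prime 17) := ⟨by norm_num⟩
  haveI : Fact (Nat.Prime 2) := ⟨Nat.prime_two⟩
  obtain ⟨Q, hQ⟩ : ∃ Q : Sylow 17 G, (Q : Subgroup G) = zpowers x := by
    refine ⟨Sylow.ofCard (zpowers x) ?_, Sylow.coe_ofCard ..⟩
    rw [Nat.card_zpowers, hx, hN, fac_eq (k := 1) (by norm_num) (by norm_num) (by norm_num) (by norm_num),
      pow_one]
  have hQc : Nat.card (Q : Subgroup G) = 17 := by rw [hQ, Nat.card_zpowers, hx]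
  haveI : IsCyclic (Q : Subgroup G) := isCyclic_of_prime_card hQc
  set C := centralizer ((Q : Subgroup G) : Set G) with hC
  have hPC : P ≤ C := fun t ht => mem_centralizer_iff.2 fun y hy => by
    have hy' : y ∈ zpowers x := hQ ▸ hy
    obtain ⟨i, rfl⟩ := mem_zpowers_iff.1 hy'
    exact ((show Commute t x from mem_centralizer_singleton_iff.1 (hPx ht)).zpow_right i).eq.symm
  have hQC : (Q : Subgroup G) ≤ C := fun a ha => mem_centralizer_iff.2 fun b hb =>
    congrArg Subtype.val (mul_comm' (⟨b, hb⟩ : (Q : Subgroup G)) ⟨a, ha⟩)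
  have hodd : Odd (Nat.card C) := D.odd_centralizer (by rw [hQc, hH]; norm_num)
  obtain ⟨c, hc⟩ : 153 ∣ Nat.card C :=
    (show Nat.Coprime 9 17 by norm_num).mul_dvd_of_dvd_of_dvd (hP ▸ card_dvd_of_le hPC)
      (hQc ▸ card_dvd_of_le hQC)
  obtain ⟨n, hn, hne⟩ := sylow_count Q
  set e := Nat.card (Q : Subgroup G).normalizerMonoidHom.range with he
  rw [← hC, hc, hN] at hne
  have hne' : n * (c * e) = 560 := by
    refine Nat.eq_of_mul_eq_mul_left (show 0 < 153 by norm_num) ?_
    rw [show 153 * 560 = 85680 by norm_num, ← hne]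
    ring
  have he16 : e ∣ 16 := by
    have h1 := card_range_dvd_totient (Q : Subgroup G)
    rw [hQc, Nat.totient_prime (by norm_num)] at h1
    exact h1
  have hn' : n = 1 ∨ n = 35 := by
    have h1 : ∀ n ∈ Nat.divisors 560, n % 17 = 1 → n = 1 ∨ n = 35 := by decide +kernel
    exact h1 n (Nat.mem_divisors.2 ⟨⟨_, hne'.symm⟩, by norm_num⟩) hn
  have hcodd : Odd c := (hc ▸ hodd).of_dvd_nat (dvd_mul_left c 153)
  have hnodd : Odd n := by rcases hn' with rfl | rfl <;> decide
  have he' : e = 16 := Nat.dvd_antisymm he16 <| by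
    refine Nat.Coprime.dvd_of_dvd_mul_left (m := n * c) ?_ ?_
    · exact (Nat.coprime_two_left.2 (hnodd.mul hcodd)).pow_left 4
    · rw [mul_assoc, hne']; norm_num
  -- the automorphisms form a cyclic group of order sixteen
  haveI : IsCyclic (MulAut (Q : Subgroup G)) := by
    haveI : IsCyclic (ZMod (Nat.card (Q : Subgroup G)))ˣ :=
      ZMod.isCyclic_units_prime (by rw [hQc]; norm_num)
    exact isCyclic_of_surjective (IsCyclic.mulAutMulEquiv (Q : Subgroup G)).symm.toMonoidHom
      (MulEquiv.surjective _)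
  obtain ⟨a, ha⟩ := IsCyclic.exists_ofOrder_eq_natCard (α := MulAut (Q : Subgroup G))
  have hAut : Nat.card (MulAut (Q : Subgroup G)) = 16 := by
    rw [IsCyclic.card_mulAut, hQc, Nat.totient_prime (by norm_num)]
  have htop : (Q : Subgroup G).normalizerMonoidHom.range = ⊤ :=
    eq_top_of_card_eq _ (by rw [← he, he', hAut])
  obtain ⟨g, hg⟩ := MonoidHom.mem_range.1 (htop ▸ mem_top a)
  have h16 : 16 ∣ orderOf (g : G) := by
    rw [Subgroup.orderOf_coe, ← hAut, ← ha, ← hg]
    exact orderOf_map_dvd _ g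
  set g' := (g : G) ^ (orderOf (g : G) / 16) with hg'
  have hg'o : orderOf g' = 16 := orderOf_pow_orderOf_div (orderOf_pos (g : G)).ne' h16
  obtain ⟨T, hT⟩ : ∃ T : Sylow 2 G, (T : Subgroup G) = zpowers g' := by
    refine ⟨Sylow.ofCard (zpowers g') ?_, Sylow.coe_ofCard ..⟩
    rw [Nat.card_zpowers, hg'o, hN, fac_eq (k := 4) Nat.prime_two (by norm_num) (by norm_num) (by norm_num)]
    norm_num
  haveI : IsCyclic (T : Subgroup G) := by rw [hT]; infer_instance
  exact D.not_isCyclic (isCyclic_of_surjective (T.equiv S).toMonoidHom (MulEquiv.surjective _))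

end Gen

namespace Map

variable {G : Type u} [Group G] [Finite G] [Group.IsPerfect G] {S : Sylow 2 G} {σ τ : G} {h : ℕ}
variable {F : Type} [Field F] [Finite F] {D : Gen S σ τ h} {ρ : cen (σ ^ h) →* PGLTwo.PG F}
variable (M : Map D ρ)
include M

/-- No element of order five commutes with a subgroup of order nine. -/
theorem no_five (hN : Nat.card G = 85680) (h5 : Nat.card F = 5)
    (ho : Nat.card (Cfsg.oddCore (cen (σ ^ h))) = 1) (hH : Nat.card (cen (σ ^ h)) = 240)
    {x : G} (hx : orderOf x = 5) {P : Subgroup G} (hP : Nat.card P = 9) (hPx : P ≤ cen x) : False := by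
  haveI : Fact (Nat.Prime 5) := ⟨Nat.prime_five⟩
  haveI : Fact (Nat.Prime 2) := ⟨Nat.prime_two⟩
  haveI : Fact (Nat.card F).Prime := ⟨M.prime⟩
  -- the normal subgroup of order five of the Borel subgroup
  obtain ⟨B, hB⟩ := M.borel
  obtain ⟨K, hKB, hKodd, hKn, j, hj⟩ := hB.complement
  have hB40 : Nat.card B = 40 := by
    have h1 := B.card_mul_index
    rw [hB.index, h5, hH] at h1
    omega
  have hK5 : Nat.card K = 5 := by
    rw [hB40] at hj
    have h1 : (3 : ℕ) = j := two_pow_mul_odd (x := 5) (by decide) hKodd (by norm_num; exact hj)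
    subst h1
    omega
  set Y : Subgroup G := K.map (cen (σ ^ h)).subtype with hY
  have hYc : Nat.card Y = 5 := by rw [hY, card_map_of_injective (cen (σ ^ h)).subtype_injective, hK5]
  haveI : IsCyclic Y := isCyclic_of_prime_card hYc
  set C := centralizer (Y : Set G) with hC
  -- inside `(cen (σ ^ h))`
  obtain ⟨⟨y, hy⟩, hyo⟩ := exists_prime_orderOf_dvd_card' (G := K) 5 (hK5 ▸ dvd_rfl)
  rw [Subgroup.orderOf_mk] at hyo
  have hρy : orderOf (ρ y) = Nat.card F := by
    rw [h5]
    refine orderOf_eq_prime (by rw [← map_pow, ← hyo, pow_orderOf_eq_one, map_one]) fun h1 => ?_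
    have h2 := Subgroup.orderOf_dvd_natCard ρ.ker (MonoidHom.mem_ker.2 h1)
    rw [hyo, M.kcard, ho] at h2
    norm_num at h2
  have h10 : Nat.card (C ⊓ (cen (σ ^ h)) : Subgroup G) ∣ 10 := by
    have hle : C.subgroupOf (cen (σ ^ h)) ≤ (centralizer ({ρ y} : Set (PGLTwo.PG F))).comap ρ := fun t ht => by
      rw [mem_comap, mem_centralizer_singleton_iff, ← map_mul, ← map_mul]
      congr 1
      exact Subtype.ext (mem_centralizer_iff.1 (mem_subgroupOf.1 ht) (y : G) ⟨y, hy, rfl⟩).symm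
    have h1 := card_dvd_of_le hle
    rw [card_comap_of_surjective ρ M.surj, M.kcard, ho, PGLTwo.card_centralizer_unip hρy, h5,
      ← inf_subgroupOf_right, Nat.card_congr (subgroupOfEquivOfLe (inf_le_right : C ⊓ (cen (σ ^ h)) ≤ (cen (σ ^ h)))).toEquiv] at h1
    simpa using h1
  have hzC : σ ^ h ∈ C := mem_centralizer_iff.2 fun a ha => by
    obtain ⟨b, -, rfl⟩ := ha
    exact mem_centralizer_singleton_iff.1 b.2
  have h4 : ¬ 4 ∣ Nat.card C := fun hd => by
    obtain ⟨U, hU, hzU⟩ := Sylow.exists_subgroup_card_pow_succ (p := 2) (n := 1) (G := C)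
      (by simpa using hd) (H := zpowers (⟨σ ^ h, hzC⟩ : C))
      (by rw [Nat.card_zpowers, Subgroup.orderOf_mk, D.orderOf_z, pow_one])
    haveI := IsPGroup.isMulCommutative_of_card_eq_prime_sq (p := 2) (G := U) hU
    have hUle : U.map C.subtype ≤ C ⊓ (cen (σ ^ h)) := by
      rintro _ ⟨u, hu, rfl⟩
      refine ⟨u.2, mem_centralizer_singleton_iff.2 ?_⟩
      have h1 := congrArg (fun w : U => ((w : C) : G))
        (mul_comm' (⟨u, hu⟩ : U) ⟨⟨σ ^ h, hzC⟩, hzU (mem_zpowers _)⟩)
      exact h1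
    have h2 := (card_dvd_of_le hUle).trans h10
    rw [card_map_of_injective C.subtype_injective, hU] at h2
    norm_num at h2
  -- the automorphisms of the group of order five
  obtain ⟨Q, hQ⟩ : ∃ Q : Sylow 5 G, (Q : Subgroup G) = Y := by
    refine ⟨Sylow.ofCard Y ?_, Sylow.coe_ofCard ..⟩
    rw [hYc, hN, fac_eq (k := 1) Nat.prime_five (by norm_num) (by norm_num) (by norm_num), pow_one]
  obtain ⟨n, hn, hne⟩ := sylow_count Q
  rw [hQ, ← hC, hN] at hne
  set e := Nat.card Y.normalizerMonoidHom.range with he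
  have he4 : e ∣ 2 ^ 2 := by
    have h1 := card_range_dvd_totient Y
    rw [hYc, Nat.totient_prime Nat.prime_five] at h1
    exact h1
  have h8 : 8 ∣ Nat.card C * e := by
    have hle : B.map (cen (σ ^ h)).subtype ≤ normalizer (Y : Set G) := by
      rintro _ ⟨a, ha, rfl⟩
      rw [mem_normalizer_iff]
      intro w
      constructor
      · rintro ⟨b, hb, rfl⟩
        exact ⟨a * b * a⁻¹, hKn a ha b hb, rfl⟩
      · rintro ⟨b, hb, hb'⟩
        refine ⟨a⁻¹ * b * a, ?_, ?_⟩
        · have h1 := hKn a⁻¹ (inv_mem ha) b hb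
          rwa [inv_inv] at h1
        · show (a : G)⁻¹ * (cen (σ ^ h)).subtype b * a = w
          rw [hb']
          show (a : G)⁻¹ * ((a : G) * w * (a : G)⁻¹) * a = w
          group
    have h1 := card_dvd_of_le hle
    rw [card_map_of_injective (cen (σ ^ h)).subtype_injective, hB40, card_normalizer_eq] at h1
    exact (show 8 ∣ 40 by norm_num).trans h1
  have he' : e = 4 := by
    obtain ⟨i, hi, hi'⟩ := (Nat.dvd_prime_pow Nat.prime_two).1 he4
    interval_cases i
    · rw [hi', pow_zero, mul_one] at h8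
      exact absurd ((show 4 ∣ 8 by norm_num).trans h8) h4
    · rw [hi', pow_one] at h8
      exact absurd (Nat.dvd_of_mul_dvd_mul_right two_pos (show 4 * 2 ∣ Nat.card C * 2 by simpa using h8)) h4
    · rw [hi']; norm_num
  -- a subgroup of order nine
  obtain ⟨Q', hQ'⟩ : ∃ Q' : Sylow 5 G, (Q' : Subgroup G) = zpowers x := by
    refine ⟨Sylow.ofCard (zpowers x) ?_, Sylow.coe_ofCard ..⟩
    rw [Nat.card_zpowers, hx, hN, fac_eq (k := 1) Nat.prime_five (by norm_num) (by norm_num) (by norm_num),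
      pow_one]
  obtain ⟨g, hg⟩ := MulAction.exists_smul_eq G Q' Q
  have hgY : ∀ w ∈ Y, ∃ i : ℤ, g * x ^ i * g⁻¹ = w := fun w hw => by
    rw [← hQ, ← hg, Sylow.smul_def, Sylow.pointwise_smul_def, hQ'] at hw
    obtain ⟨v, hv, e'⟩ := hw
    obtain ⟨i, rfl⟩ := mem_zpowers_iff.1 hv
    exact ⟨i, e'⟩
  have h9 : 9 ∣ Nat.card C := by
    rw [← hP, Nat.card_congr (P.equivMapOfInjective (MulAut.conj g).toMonoidHom (MulAut.conj g).injective).toEquiv]
    refine card_dvd_of_le ?_
    rintro _ ⟨t, ht, rfl⟩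
    refine mem_centralizer_iff.2 fun w hw => ?_
    obtain ⟨i, rfl⟩ := hgY w hw
    have h1 := ((show Commute t x from mem_centralizer_singleton_iff.1 (hPx ht)).zpow_right i).eq
    show g * x ^ i * g⁻¹ * (g * t * g⁻¹) = g * t * g⁻¹ * (g * x ^ i * g⁻¹)
    calc g * x ^ i * g⁻¹ * (g * t * g⁻¹) = g * (x ^ i * t) * g⁻¹ := by group
      _ = g * (t * x ^ i) * g⁻¹ := by rw [h1]
      _ = _ := by group
  have h10' : 10 ∣ Nat.card C :=
    (show Nat.Coprime 2 5 by norm_num).mul_dvd_of_dvd_of_dvd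
      (D.orderOf_z ▸ Subgroup.orderOf_dvd_natCard C hzC)
      (hYc ▸ card_dvd_of_le fun a ha => mem_centralizer_iff.2 fun b hb =>
        congrArg Subtype.val (mul_comm' (⟨b, hb⟩ : Y) ⟨a, ha⟩))
  obtain ⟨c, hc⟩ : 90 ∣ Nat.card C :=
    (show Nat.Coprime 9 10 by norm_num).mul_dvd_of_dvd_of_dvd h9 h10'
  rw [hc, he'] at hne
  have hne' : n * c = 238 := by linarith
  have hn1 : ∀ n ∈ Nat.divisors 238, n % 5 = 1 → n = 1 := by decide +kernel
  obtain rfl := hn1 n (Nat.mem_divisors.2 ⟨⟨_, hne'.symm⟩, by norm_num⟩) hn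
  rw [hc] at h4
  omega

/-- **The last case is impossible.** -/
theorem false_of_order (hodd : OddCyclic G) (hN : Nat.card G = 85680) (h5 : Nat.card F = 5)
    (ho : Nat.card (Cfsg.oddCore (cen (σ ^ h))) = 1) : False := by
  haveI : Fact (Nat.Prime 3) := ⟨Nat.prime_three⟩
  have hH : Nat.card (cen (σ ^ h)) = 240 := by rw [M.card_five hodd h5, ho]
  obtain ⟨P⟩ : Nonempty (Sylow 3 G) := inferInstance
  have hPc : Nat.card (P : Subgroup G) = 9 := by
    rw [P.card_eq_multiplicity, hN, fac_eq (k := 2) Nat.prime_three (by norm_num) (by norm_num) (by norm_num)]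
    norm_num
  haveI : IsCyclic (P : Subgroup G) := hodd 3 Nat.prime_three (by norm_num) P
  set C := centralizer ((P : Subgroup G) : Set G) with hC
  have hCodd : Odd (Nat.card C) := D.odd_centralizer (by rw [hPc, hH]; norm_num)
  have hPC : (P : Subgroup G) ≤ C := fun a ha => mem_centralizer_iff.2 fun b hb =>
    congrArg Subtype.val (mul_comm' (⟨b, hb⟩ : (P : Subgroup G)) ⟨a, ha⟩)
  obtain ⟨c, hc⟩ : 9 ∣ Nat.card C := hPc ▸ card_dvd_of_le hPC
  obtain ⟨n, hn, hne⟩ := sylow_count P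
  set e := Nat.card (P : Subgroup G).normalizerMonoidHom.range with he
  rw [← hC, hc, hN] at hne
  have he6 : e ∣ 6 := by
    have h1 := card_range_dvd_totient (P : Subgroup G)
    rw [hPc, show Nat.totient 9 = 6 by decide] at h1
    exact h1
  have hne' : n * (c * e) = 9520 := by
    refine Nat.eq_of_mul_eq_mul_left (show 0 < 9 by norm_num) ?_
    rw [show 9 * 9520 = 85680 by norm_num, ← hne]
    ring
  have he12 : e = 1 ∨ e = 2 := by
    have h1 : e ∣ 9520 := ⟨n * c, by rw [← hne']; ring⟩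
    have h2 := Nat.dvd_gcd he6 h1
    rw [show Nat.gcd 6 9520 = 2 by norm_num] at h2
    exact (Nat.dvd_prime Nat.prime_two).1 h2
  rcases he12 with he1 | he2
  · exact burnside_false P (by rw [hN]; norm_num) (normalizer_le_centralizer_of_range he1)
  rw [he2] at hne'
  have hcodd : Odd c := (hc ▸ hCodd).of_dvd_nat (dvd_mul_left c 9)
  have hnc : n * c = 4760 := by linarith
  have hc595 : c ∣ 595 :=
    (Nat.Coprime.pow_right 3 (Nat.coprime_two_right.2 hcodd)).dvd_of_dvd_mul_left
      (show c ∣ 2 ^ 3 * 595 from ⟨n, by rw [mul_comm c n, hnc]⟩)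
  have helt : ∀ r : ℕ, r.Prime → r ∣ c → ∃ x : G, orderOf x = r ∧ (P : Subgroup G) ≤ cen x := by
    intro r hr hrc
    haveI := Fact.mk hr
    obtain ⟨⟨x, hx⟩, hxo⟩ := exists_prime_orderOf_dvd_card' (G := C) r (hc ▸ hrc.mul_left 9)
    rw [Subgroup.orderOf_mk] at hxo
    exact ⟨x, hxo, fun t ht => mem_centralizer_singleton_iff.2 (mem_centralizer_iff.1 hx t ht)⟩
  by_cases h5c : 5 ∣ c
  · obtain ⟨x, hx, hPx⟩ := helt 5 Nat.prime_five h5c
    exact M.no_five hN h5 ho hH hx hPc hPx
  by_cases h17 : 17 ∣ c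
  · obtain ⟨x, hx, hPx⟩ := helt 17 (by norm_num) h17
    exact D.no_seventeen hN hH hx hPc hPx
  have hc7 : c ∣ 7 := by
    refine ((Nat.Prime.coprime_iff_not_dvd (by norm_num)).2 h17).symm.dvd_of_dvd_mul_left
      (((Nat.Prime.coprime_iff_not_dvd Nat.prime_five).2 h5c).symm.dvd_of_dvd_mul_left ?_)
    simpa using hc595
  rcases (Nat.dvd_prime (by norm_num)).1 hc7 with rfl | rfl <;> omega

end Map

end CfsgLib.AlmostZ
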