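import Cfsg.Agent.AlmostZ.Arith
import Cfsg.Agent.AlmostZ.Kill
import Cfsg.Agent.GWApps.AlmostCyclic
import Cfsg.Agent.Blocks.Congr

/-!
# No semidihedral Sylow 2-subgroup with cyclic odd Sylow subgroups
-/

set_option autoImplicit false
set_option linter.style.haveILetI false
set_option linter.unusedSectionVars false

namespace CfsgLib.AlmostZ

open Subgroup Cfsg CfsgLib.Block

universe u

namespace Map

variable {G : Type u} [Group G] [Finite G] [Group.IsPerfect G] {S : Sylow 2 G} {σ τ : G} {h : ℕ}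
variable {F : Type} [Field F] [Finite F] {D : Gen S σ τ h} {ρ : cen (σ ^ h) →* PGLTwo.PG F}
variable (M : Map D ρ) (hodd : OddCyclic G)
include M hodd

/-- The Sylow parts of the primes of the core. -/
theorem core_val [Fintype G] (h5 : Nat.card F = 5) {xa xb : ℤ}
    (T : TableData σ τ h (-5) xa xb (-35)) {r : ℕ} (hr : r.Prime)
    (hro : r ∣ Nat.card (Cfsg.oddCore (cen (σ ^ h)))) :
    (Nat.card (cen (σ ^ (h / 2)) ⊓ cen τ : Subgroup G)).factorization r =
      (Nat.card G).factorization r := by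
  haveI := Fact.mk hr
  obtain ⟨hr2, hr3, hr5, hr240⟩ := M.core_prime hodd h5 hr hro
  set o := Nat.card (Cfsg.oddCore (cen (σ ^ h))) with ho
  have hone : ∀ a b : G, orderOf a = 2 → orderOf b = 2 → IsConj a b := fun _ _ => D.isConj_invol
  have hHo : padicValNat r (Nat.card (cen (σ ^ h))) = padicValNat r o := by
    rw [M.card_five hodd h5, padicValNat.mul (by norm_num) Nat.card_pos.ne',
      padicValNat.eq_zero_of_not_dvd hr240, zero_add]
  have h1 := GWApps.SDCyclic.sylow_bound hone (GWApps.SDCyclic.rank_le_two S D.isQuasiDihedral)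
    hr2 (hodd r hr hr2) D.orderOf_z
    ((hro.mul_left 240).trans (dvd_of_eq (M.card_five hodd h5).symm))
  rw [if_neg hr3, add_zero, Nat.factorization_def _ hr, Nat.factorization_def _ hr] at h1
  change padicValNat r (Nat.card G) ≤ padicValNat r (Nat.card (cen (σ ^ h))) at h1
  have h2 : padicValNat r (Nat.card (cen (σ ^ h))) ≤ padicValNat r (Nat.card G) :=
    (padicValNat_dvd_iff_le Nat.card_pos.ne').1
      (pow_padicValNat_dvd.trans (card_subgroup_dvd_card _))
  have h3 : padicValNat r (Nat.card (cen (σ ^ (h / 2)) ⊓ cen τ : Subgroup G)) ≤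
      padicValNat r (Nat.card (cen (σ ^ (h / 2)))) :=
    (padicValNat_dvd_iff_le Nat.card_pos.ne').1 (pow_padicValNat_dvd.trans (card_dvd_of_le inf_le_left))
  have h4 : padicValNat r (Nat.card (cen (σ ^ (h / 2)))) ≤ padicValNat r (Nat.card (cen (σ ^ h))) :=
    (padicValNat_dvd_iff_le Nat.card_pos.ne').1 (pow_padicValNat_dvd.trans (card_dvd_of_le M.cen_f_le))
  have h6 : padicValNat r 1190 ≤ 1 := by
    by_contra hlt
    have h7 : r ^ 2 ∣ 1190 := (padicValNat_dvd_iff_le (by norm_num)).2 (by omega)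
    have h8 := Nat.le_of_dvd (by norm_num) h7
    have h9 : r ≤ 34 := by nlinarith
    interval_cases r <;> first | omega | (revert h7; decide)
  have hv := eqn_val (s := r) Nat.card_pos.ne' (Int.natAbs_ne_zero.2 T.C_add_ne) Nat.card_pos.ne'
    Nat.card_pos.ne' Nat.card_pos.ne' (Int.natAbs_ne_zero.2 (mul_ne_zero T.C_ne T.ne)) T.eqn_nat
  rw [show ((-35 : ℤ) + -5).natAbs = 40 by rfl, show ((-35 : ℤ) * (-35 + 1)).natAbs = 1190 by rfl,
    padicValNat.eq_zero_of_not_dvd (fun hd => hr240 (hd.trans (by norm_num : 40 ∣ 240)))] at hv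
  rw [Nat.factorization_def _ hr, Nat.factorization_def _ hr]
  omega

/-- The order of the group. -/
theorem card_eq_85680 [Fintype G] (h5 : Nat.card F = 5)
    (ho : Nat.card (Cfsg.oddCore (cen (σ ^ h))) = 1) {xa xb : ℤ}
    (T : TableData σ τ h (-5) xa xb (-35)) : Nat.card G = 85680 := by
  haveI : Fact (Nat.Prime 3) := ⟨Nat.prime_three⟩
  have hone : ∀ a b : G, orderOf a = 2 → orderOf b = 2 → IsConj a b := fun _ _ => D.isConj_invol
  have hH : Nat.card (cen (σ ^ h)) = 240 := by rw [M.card_five hodd h5, ho]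
  set cc := Nat.card (cen (σ ^ (h / 2)) ⊓ cen τ : Subgroup G) with hccdef
  set Cf := Nat.card (cen (σ ^ (h / 2))) with hCfdef
  have hcf : cc ∣ Cf := card_dvd_of_le inf_le_left
  have hfH : Cf ∣ 240 := hH ▸ card_dvd_of_le M.cen_f_le
  have he : Nat.card G * cc ^ 2 = 42840 * Cf := by
    have e := T.eqn_nat
    rw [show ((-35 : ℤ) + -5).natAbs = 40 by rfl, show ((-35 : ℤ) * (-35 + 1)).natAbs = 1190 by rfl,
      hH] at e
    linarith
  -- three divides neither of the small centralizers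
  have h3cc : ¬ 3 ∣ cc := by
    intro hd
    obtain ⟨⟨y, hy⟩, hyo⟩ := exists_prime_orderOf_dvd_card' 3 hd
    rw [Subgroup.orderOf_mk] at hyo
    obtain ⟨hyf, hyt⟩ := hy
    obtain ⟨hs, hs2, hs1⟩ := M.f_image
    obtain ⟨ht2, ht1, hts, htc⟩ := M.τ_image
    set Y : cen (σ ^ h) := ⟨y, M.cen_f_le hyf⟩ with hY
    have h4 : ρ Y ^ 4 = 1 := PGLTwo.pow_four_eq_one M.two hs hs2 hs1 ht2 ht1 hts htc
      (by rw [← map_mul, ← map_mul]; congr 1; exact Subtype.ext (mem_centralizer_singleton_iff.1 hyf))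
      (by rw [← map_mul, ← map_mul]; congr 1; exact Subtype.ext (mem_centralizer_singleton_iff.1 hyt))
    have hYo : orderOf Y = 3 := by rw [hY, Subgroup.orderOf_mk]; exact hyo
    have h1 : ρ Y = 1 := by
      refine orderOf_eq_one_iff.1 (Nat.eq_one_of_dvd_coprimes (show Nat.Coprime 3 4 by norm_num) ?_
        (orderOf_dvd_of_pow_eq_one h4))
      rw [← hYo]; exact orderOf_map_dvd ρ Y
    have h2 := Subgroup.orderOf_dvd_natCard ρ.ker (MonoidHom.mem_ker.2 h1)
    rw [hYo, M.kcard, ho] at h2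
    norm_num at h2
  have h3f : ¬ 3 ∣ Cf := by
    intro hd
    have hpC : 3 ∣ Nat.card (cen (σ ^ h)) := by rw [hH]; norm_num
    have h1 := GWApps.SDCyclic.sylow_bound hone (GWApps.SDCyclic.rank_le_two S D.isQuasiDihedral)
      (by norm_num) (hodd 3 Nat.prime_three (by norm_num)) D.orderOf_z hpC
    change (Nat.card G).factorization 3 ≤ (Nat.card (cen (σ ^ h))).factorization 3 + _ at h1
    rw [if_pos rfl, hH, fac_eq (n := 240) (k := 1) Nat.prime_three (by norm_num) (by norm_num) (by norm_num)] at h1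
    have h2 : 3 ^ 3 ∣ Nat.card G * cc ^ 2 := by
      rw [he]; exact mul_dvd_mul (show 9 ∣ 42840 by norm_num) hd
    have h3 : 3 ^ 3 ∣ Nat.card G :=
      (((Nat.Prime.coprime_iff_not_dvd Nat.prime_three).2 h3cc).pow 3 2).dvd_of_dvd_mul_right h2
    rw [Nat.prime_three.pow_dvd_iff_le_factorization Nat.card_pos.ne'] at h3
    omega
  have h5f : ¬ 5 ∣ Cf := h5 ▸ (M.val_p hodd hone (by omega)).2
  have hCf16 : Cf ∣ 2 ^ 4 := by
    refine ((Nat.Prime.coprime_iff_not_dvd Nat.prime_five).2 h5f).symm.dvd_of_dvd_mul_left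
      (((Nat.Prime.coprime_iff_not_dvd Nat.prime_three).2 h3f).symm.dvd_of_dvd_mul_left ?_)
    simpa using hfH
  obtain ⟨i, -, hi⟩ := (Nat.dvd_prime_pow Nat.prime_two).1 (hcf.trans hCf16)
  obtain ⟨j, -, hj⟩ := (Nat.dvd_prime_pow Nat.prime_two).1 hCf16
  have hS : Nat.card (S : Subgroup G) = 16 := by rw [D.card, M.h_four hodd h5]
  have hm := (S : Subgroup G).card_mul_index
  haveI : Fact (Nat.Prime 2) := ⟨Nat.prime_two⟩
  have hmo : Odd (S : Subgroup G).index :=
    Nat.not_even_iff_odd.1 fun hev => S.not_dvd_index (even_iff_two_dvd.1 hev)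
  rw [hS] at hm
  rw [← hm, hi, hj] at he
  have he2 : 2 ^ (4 + 2 * i) * (S : Subgroup G).index = 2 ^ (3 + j) * 5355 := by
    rw [pow_add, pow_add, mul_comm 2 i, pow_mul]
    linarith
  have e := two_pow_mul_odd hmo (by decide) he2
  rw [e] at he2
  rw [← hm, Nat.eq_of_mul_eq_mul_left (by positivity) he2]

end Map

/-- **No perfect group has a semidihedral Sylow 2-subgroup and cyclic odd Sylow subgroups.** -/
theorem sd_exclusion (hGW : CfsgLib.GWApps.Statement.{u}) : CfsgLib.GWApps.SDExclusion.{u} := by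
  intro X _ _ _ S hS hcyc
  haveI : Fact (Nat.Prime 2) := ⟨Nat.prime_two⟩
  haveI := Fintype.ofFinite X
  obtain ⟨σ, τ, h, D⟩ := exists_gen hS
  have hodd : OddCyclic X := hcyc
  obtain ⟨F, iF, iFin, ρ, hp, hp2, h2, hsurj, hcore, hz, hk⟩ := exists_map hGW hodd D
  have M : Map D ρ := ⟨hp, hp2, h2, hsurj, hcore, hz, hk⟩
  have hone : ∀ a b : X, orderOf a = 2 → orderOf b = 2 → IsConj a b := fun _ _ => D.isConj_invol
  have L : LocalFacts σ τ h (Nat.card F) (Nat.card (Cfsg.oddCore (cen (σ ^ h)))) :=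
    { prime := hp
      ne_two := hp2
      odd_o := M.odd_o
      card_cen := M.card_eq
      h_eq := M.h_eq
      borel := M.borel
      val_p := M.val_p hodd hone
      val_three := M.val_three hodd hone
      val_torus := fun h5 s hs hs2 hc => M.val_torus hodd hone h5 hs hs2 hc }
  obtain ⟨P, hP⟩ := exists_isPModular (p := 2) Nat.prime_two
  haveI : P.IsMaximal := hP.2.1
  haveI : CharP (Residue P) 2 := charP_residue hP
  obtain ⟨q, xa, xb, C, rfl, T⟩ := D.exists_table hP hp hp2 M.h_eq M.borel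
  obtain ⟨h5, -, -, -, rfl⟩ := table_five L D.hh T
  rw [h5, if_neg (by norm_num)] at T
  have T' : TableData σ τ h (-5) xa xb (-35) := by exact_mod_cast T
  have ho := M.core_trivial hodd hGW h5 fun r hr hro => M.core_val hodd h5 T' hr hro
  exact M.false_of_order hodd (M.card_eq_85680 hodd h5 ho T') h5 ho

end CfsgLib.AlmostZ
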