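import Cfsg.Agent.AlmostZ.Local
import Cfsg.Agent.AlmostZ.Basic
import Cfsg.Agent.SL2C.Basic

/-!
# The last parameters: `p = 5` and a group of order `85680`
-/

set_option autoImplicit false
set_option linter.style.haveILetI false
set_option linter.unusedSectionVars false
set_option maxHeartbeats 400000

namespace CfsgLib.AlmostZ

open Subgroup
open scoped commutatorElement

universe u

section general

variable {G : Type u} [Group G] [Finite G]

/-- Burnside's transfer theorem in a perfect group. -/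
theorem burnside_false [Group.IsPerfect G] {r : ℕ} [Fact r.Prime] (R : Sylow r G)
    (hr : r ∣ Nat.card G) [IsMulCommutative (R : Subgroup G)]
    (hNC : normalizer ((R : Subgroup G) : Set G) ≤ centralizer ((R : Subgroup G) : Set G)) : False := by
  set K := (MonoidHom.transferSylow R hNC).ker with hK
  have h1 : commutator G ≤ K := by
    rw [_root_.commutator_def, Subgroup.commutator_le]
    intro a _ b _
    rw [hK, MonoidHom.mem_ker, map_commutatorElement, commutatorElement_eq_one_iff_mul_comm]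
    exact mul_comm' _ _
  rw [Group.IsPerfect.commutator_eq_top, top_le_iff] at h1
  have h2 := MonoidHom.not_dvd_card_ker_transferSylow R hNC
  rw [← hK, h1, card_top] at h2
  exact h2 hr

/-- The order of a normalizer. -/
theorem card_normalizer_eq (P : Subgroup G) :
    Nat.card (normalizer (P : Set G)) =
      Nat.card (centralizer (P : Set G)) * Nat.card P.normalizerMonoidHom.range := by
  have hle : centralizer (P : Set G) ≤ normalizer (P : Set G) := centralizer_le_normalizer _
  rw [← P.normalizerMonoidHom.ker.card_mul_index, index_ker, normalizerMonoidHom_ker,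
    Nat.card_congr (subgroupOfEquivOfLe hle).toEquiv]

theorem card_range_dvd_totient (P : Subgroup G) [IsCyclic P] :
    Nat.card P.normalizerMonoidHom.range ∣ Nat.totient (Nat.card P) :=
  IsCyclic.card_mulAut P ▸ card_subgroup_dvd_card _

end general

namespace Gen

variable {G : Type u} [Group G] [Finite G] {S : Sylow 2 G} {σ τ : G} {h : ℕ}
variable (D : Gen S σ τ h)
include D

/-- The central involution of the Sylow subgroup. -/
theorem central_invol {w : G} (hw : w ∈ (S : Subgroup G)) (hwσ : w * σ = σ * w)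
    (ho : orderOf w = 2) : w = σ ^ h := by
  obtain ⟨k, hk, -⟩ := D.exists_k
  obtain ⟨i, rfl | rfl⟩ := D.cases w hw
  · have h1 : σ ^ (i + i) = σ ^ (0 : ℤ) := by
      rw [zpow_add, zpow_zero, ← pow_two, ← ho]; exact pow_orderOf_eq_one _
    rw [D.zpow_eq_iff, sub_zero] at h1
    obtain ⟨c, hc⟩ := h1
    obtain ⟨d, rfl | rfl⟩ := Int.even_or_odd' c
    · exfalso
      have h2 : σ ^ i = 1 := by
        rw [← zpow_zero σ, D.zpow_eq_iff]; exact ⟨d, by linarith⟩
      rw [h2, orderOf_one] at ho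
      omega
    · rw [D.pow_eq, D.zpow_eq_iff]; exact ⟨d, by linarith⟩
  · exfalso
    have h1 : τ * σ * τ⁻¹ = σ := by
      have : σ ^ i * (τ * σ) = σ ^ i * (σ * τ) := by
        rw [← mul_assoc, hwσ, ← mul_assoc, ← mul_assoc, (Commute.refl σ).zpow_right i |>.eq]
      rw [mul_left_cancel this, mul_inv_cancel_right]
    have h2 : σ ^ ((h : ℤ) - 1) = σ ^ (1 : ℤ) := by rw [zpow_one, ← D.rel, h1]
    rw [D.zpow_eq_iff] at h2
    obtain ⟨c, hc⟩ := h2
    have := Nat.two_pow_pos k
    have hlt : (h : ℤ) - 1 - 1 < 2 * h := by omega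
    have hgt : 0 < (h : ℤ) - 1 - 1 := by omega
    have hc0 : 0 < c := by nlinarith
    nlinarith

/-- A Sylow subgroup is not cyclic. -/
theorem not_isCyclic : ¬ IsCyclic (S : Subgroup G) := fun hc => by
  haveI := hc
  have h1 := congrArg Subtype.val (mul_comm' (⟨τ, D.τ_mem⟩ : (S : Subgroup G)) ⟨σ, D.σ_mem⟩)
  simp only [Subgroup.coe_mul] at h1
  have h2 : σ * σ ^ (h : ℤ) = σ * σ ^ (h : ℤ) := rfl
  have hz : σ ^ h = σ * σ := by
    have h3 : σ ^ ((h : ℤ) - 1) = σ := by rw [← D.rel, h1, mul_inv_cancel_right]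
    rw [zpow_sub_one, mul_inv_eq_iff_eq_mul, zpow_natCast] at h3
    exact h3
  obtain ⟨k, hk, -⟩ := D.exists_k
  rw [← pow_two, D.pow_eq, D.pow_eq, D.zpow_eq_iff] at hz
  obtain ⟨c, hc⟩ := hz
  have := Nat.two_pow_pos k
  push_cast at hc
  have hlt : (h : ℤ) - 2 < 2 * h := by omega
  have hgt : 0 < (h : ℤ) - 2 := by omega
  have hc0 : 0 < c := by nlinarith
  nlinarith

end Gen

namespace Map

variable {G : Type u} [Group G] [Finite G] [Group.IsPerfect G] {S : Sylow 2 G} {σ τ : G} {h : ℕ}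
variable {F : Type} [Field F] [Finite F] {D : Gen S σ τ h} {ρ : cen (σ ^ h) →* PGLTwo.PG F}
variable (M : Map D ρ) (hodd : OddCyclic G)
include M hodd

theorem card_five (h5 : Nat.card F = 5) :
    Nat.card (cen (σ ^ h)) = 240 * Nat.card (Cfsg.oddCore (cen (σ ^ h))) := by
  rw [M.card_eq, h5]; norm_num

theorem h_four (h5 : Nat.card F = 5) : h = 4 := by
  obtain ⟨r, hr, e⟩ := M.h_eq.2 (by rw [h5])
  obtain ⟨k, hk, -⟩ := D.exists_k
  rw [h5, hk] at e
  have := Nat.two_pow_pos k
  obtain ⟨a, ha⟩ := hr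
  rw [hk]
  nlinarith

/-- A prime dividing the order of the core. -/
theorem core_prime (h5 : Nat.card F = 5) {r : ℕ} (hr : r.Prime)
    (hro : r ∣ Nat.card (Cfsg.oddCore (cen (σ ^ h)))) : r ≠ 2 ∧ r ≠ 3 ∧ r ≠ 5 ∧ ¬ r ∣ 240 := by
  have h0 : ¬ r ∣ Nat.card F * (Nat.card F ^ 2 - 1) := fun hd =>
    M.coprime_core hodd (by omega) hr hd hro
  rw [h5] at h0
  norm_num at h0
  refine ⟨fun e => h0 (e ▸ by norm_num), fun e => h0 (e ▸ by norm_num), fun e => h0 (e ▸ by norm_num),
    fun hd => ?_⟩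
  rw [show (240 : ℕ) = 2 * 120 by norm_num] at hd
  rcases hr.dvd_mul.1 hd with e | e
  · exact h0 (e.trans (by norm_num))
  · exact h0 e

variable (hGW : CfsgLib.GWApps.Statement.{u})
include hGW

/-- A homomorphism of `C(z) / O` into an abelian group killing `τ` is trivial. -/
theorem hom_trivial (h5 : Nat.card F = 5)
    {A : Type u} [Group A] (ψ : (cen (σ ^ h) ⧸ Cfsg.oddCore (cen (σ ^ h))) →* A)
    (hab : ∀ a b, ψ a * ψ b = ψ b * ψ a)
    (hτ : ψ (QuotientGroup.mk' _ ⟨τ, D.le_cen D.τ_mem⟩) = 1) : ψ = 1 := by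
  haveI : Fact (Nat.Prime 2) := ⟨Nat.prime_two⟩
  set π := QuotientGroup.mk' (Cfsg.oddCore (cen (σ ^ h))) with hπ
  have hπs : Function.Surjective π := QuotientGroup.mk'_surjective _
  obtain ⟨F', iF, iFF, hFodd, ⟨e⟩⟩ := GWApps.qd_centralizer_mod_core hGW S (Or.inl D.isQuasiDihedral)
    no_index_two (σ ^ h) D.orderOf_z
  set N : Subgroup (cen (σ ^ h) ⧸ Cfsg.oddCore (cen (σ ^ h))) := commutator (cen (σ ^ h) ⧸ Cfsg.oddCore (cen (σ ^ h))) with hN
  have hcardQ : Nat.card (cen (σ ^ h) ⧸ Cfsg.oddCore (cen (σ ^ h))) = 240 := by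
    have h1 := (Cfsg.oddCore (cen (σ ^ h))).card_eq_card_quotient_mul_card_subgroup
    rw [M.card_five hodd h5] at h1
    exact (Nat.eq_of_mul_eq_mul_right Nat.card_pos h1).symm
  have hNc : Nat.card N = Fintype.card F' * (Fintype.card F' ^ 2 - 1) := by
    rw [Nat.card_congr e.toEquiv]; exact CfsgLib.SL2C.card_SL2_mul
  -- five divides the order of `N`
  have hfive : 5 ∣ Nat.card N := by
    obtain ⟨P, hP1, hP2⟩ := PGLTwo.exists_perfect (F := F) (by omega)
    have hPc : P ≤ (commutator (cen (σ ^ h))).map ρ := by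
      rw [_root_.commutator_def, Subgroup.map_commutator, ← MonoidHom.range_eq_map,
        MonoidHom.range_eq_top.2 M.surj, ← hP1]
      exact Subgroup.commutator_mono le_top le_top
    have h1 : 5 ∣ Nat.card (commutator (cen (σ ^ h))) :=
      ((hP2 5 (by norm_num) (by norm_num) (by rw [h5]; norm_num)).trans (card_dvd_of_le hPc)).trans
        (card_map_dvd _ _)
    have h2 : commutator (cen (σ ^ h)) ≤ N.comap π := by
      rw [← map_le_iff_le_comap, _root_.commutator_def, Subgroup.map_commutator]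
      exact Subgroup.commutator_mono le_top le_top
    have h3 := h1.trans (card_dvd_of_le h2)
    rw [card_comap_of_surjective π hπs, hπ, QuotientGroup.ker_mk'] at h3
    refine ((Nat.Prime.dvd_mul (by norm_num)).1 h3).resolve_left fun hd => ?_
    exact (M.core_prime hodd h5 (by norm_num) hd).2.2.1 rfl
  have hNcard : Nat.card N = 120 := by
    have hdvd : Nat.card N ∣ 240 := hcardQ ▸ card_subgroup_dvd_card _
    have hle := Nat.le_of_dvd (by norm_num) hdvd
    rw [hNc] at hfive hle ⊢
    have h2 := Fintype.one_lt_card (α := F')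
    have hq6 : Fintype.card F' ≤ 6 := by
      by_contra hq
      push Not at hq
      have h7 : 7 ^ 2 - 1 ≤ Fintype.card F' ^ 2 - 1 :=
        Nat.sub_le_sub_right (Nat.pow_le_pow_left hq 2) 1
      have := Nat.mul_le_mul hq.le h7
      omega
    obtain ⟨a, ha⟩ := hFodd
    generalize Fintype.card F' = q at *
    interval_cases q <;> first | rfl | omega | (exfalso; revert hfive; decide)
  have hNi : N.index = 2 := by
    have := N.card_mul_index
    rw [hNcard, hcardQ] at this
    omega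
  -- `τ` lies outside
  have hinj : ∀ x : (cen (σ ^ h)), (x : G) ∈ (S : Subgroup G) → π x = 1 → (x : G) = 1 := fun x hx h1 => by
    obtain ⟨j, hj⟩ := IsPGroup.iff_orderOf.1 S.2 ⟨x, hx⟩
    rw [Subgroup.orderOf_mk] at hj
    have h3 := DGroup.odd_orderOf (DGroup.odd_oddCore (cen (σ ^ h))) ((QuotientGroup.eq_one_iff x).1 h1)
    rw [← Subgroup.orderOf_coe, hj] at h3
    rcases j.eq_zero_or_pos with rfl | hj0
    · exact orderOf_eq_one_iff.1 (hj.trans (pow_zero 2))
    · exact absurd (Nat.even_pow.2 ⟨even_two, by omega⟩) (Nat.not_even_iff_odd.2 h3)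
  set z' : (cen (σ ^ h)) := ⟨σ ^ h, D.le_cen (pow_mem D.σ_mem h)⟩ with hz'
  set τ' : (cen (σ ^ h)) := ⟨τ, D.le_cen D.τ_mem⟩ with hτ'
  have hzN : π z' ∈ N := by
    have h1 := mem_map_of_mem π (D.f_mem_commutator (D.le_cen D.σ_mem) (D.le_cen D.τ_mem))
    rw [_root_.commutator_def, Subgroup.map_commutator] at h1
    have h2 : π ⟨σ ^ (h / 2), D.le_cen D.f_mem⟩ ∈ N := Subgroup.commutator_mono le_top le_top h1
    have e' : z' = ⟨σ ^ (h / 2), D.le_cen D.f_mem⟩ * ⟨σ ^ (h / 2), D.le_cen D.f_mem⟩ :=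
      Subtype.ext D.f_sq.symm
    rw [e', map_mul]
    exact mul_mem h2 h2
  have hτN : π τ' ∉ N := by
    intro hm
    have h2F : (2 : F') ≠ 0 := fun e2 => by
      have h1 : addOrderOf (1 : F') = 2 :=
        addOrderOf_eq_prime (by rw [two_nsmul, ← e2]; norm_num) one_ne_zero
      have h3 := addOrderOf_dvd_card (x := (1 : F'))
      rw [h1] at h3
      exact Nat.not_even_iff_odd.2 hFodd (even_iff_two_dvd.2 h3)
    have key : ∀ x : (cen (σ ^ h)), ∀ hx : π x ∈ N, (x : G) ∈ (S : Subgroup G) → orderOf (x : G) = 2 →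
        e ⟨π x, hx⟩ = -1 := by
      intro x hx hxS hxo
      have hxx : x * x = 1 := Subtype.ext (by
        show (x : G) * (x : G) = 1
        rw [← pow_two, ← hxo, pow_orderOf_eq_one])
      refine (sl_two_invol h2F ?_).resolve_left fun e1 => ?_
      · rw [← map_mul, ← map_one e]
        congr 1
        exact Subtype.ext (by show π x * π x = 1; rw [← map_mul, hxx, map_one])
      · rw [map_eq_one_iff e e.injective] at e1
        rw [hinj x hxS (congrArg Subtype.val e1), orderOf_one] at hxo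
        omega
    have h1 := (key τ' hm D.τ_mem D.ordτ).trans (key z' hzN (pow_mem D.σ_mem h) D.orderOf_z).symm
    have h2 : π τ' = π z' := congrArg Subtype.val (e.injective h1)
    have h3 := hinj (τ'⁻¹ * z') (mul_mem (inv_mem D.τ_mem) (pow_mem D.σ_mem h))
      (by rw [map_mul, map_inv, h2, inv_mul_cancel])
    have h4 : τ⁻¹ * σ ^ h = 1 := h3
    exact D.τ_not (inv_mul_eq_one.1 h4 ▸ pow_mem (mem_zpowers σ) h)
  -- the kernel is everything
  have hker : N ≤ ψ.ker := by
    rw [hN, _root_.commutator_def, Subgroup.commutator_le]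
    intro a _ b _
    rw [MonoidHom.mem_ker, map_commutatorElement, commutatorElement_eq_one_iff_mul_comm]
    exact hab a b
  refine MonoidHom.ext fun a => ?_
  rw [MonoidHom.one_apply]
  by_cases ha : a ∈ N
  · exact hker ha
  · have h1 := (mul_mem_iff_of_index_two hNi (a := a) (b := π τ')).2 (iff_of_false ha hτN)
    have h2 : ψ (a * π τ') = 1 := hker h1
    rwa [map_mul, hτ, mul_one] at h2

/-- **The core is trivial.** -/
theorem core_trivial (h5 : Nat.card F = 5)
    (hval : ∀ r : ℕ, r.Prime → r ∣ Nat.card (Cfsg.oddCore (cen (σ ^ h))) →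
      (Nat.card (cen (σ ^ (h / 2)) ⊓ cen τ : Subgroup G)).factorization r =
        (Nat.card G).factorization r) :
    Nat.card (Cfsg.oddCore (cen (σ ^ h))) = 1 := by
  classical
  haveI : Fact (Nat.Prime 2) := ⟨Nat.prime_two⟩
  by_contra hne
  set H := cen (σ ^ h) with hH
  set O := Cfsg.oddCore H with hO
  set r := (Nat.card O).minFac with hr0
  have hr : r.Prime := Nat.minFac_prime hne
  have hro : r ∣ Nat.card O := Nat.minFac_dvd _
  haveI := Fact.mk hr
  obtain ⟨hr2, -, -, hr240⟩ := M.core_prime hodd h5 hr hro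
  have hHc : Nat.card H = 240 * Nat.card O := M.card_five hodd h5
  -- a Sylow subgroup in the centralizer of `f` and `τ`
  obtain ⟨R0⟩ : Nonempty (Sylow r (cen (σ ^ (h / 2)) ⊓ cen τ : Subgroup G)) := inferInstance
  set R : Sylow r G := Sylow.ofCard ((R0 : Subgroup _).map (cen (σ ^ (h / 2)) ⊓ cen τ).subtype)
    (by rw [card_map_of_injective (subtype_injective _), R0.card_eq_multiplicity, hval r hr hro])
    with hR
  have hRA : (R : Subgroup G) ≤ cen (σ ^ (h / 2)) ⊓ cen τ := by
    rw [hR, Sylow.coe_ofCard]; exact map_subtype_le _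
  have hRH : (R : Subgroup G) ≤ H := hRA.trans (inf_le_left.trans M.cen_f_le)
  haveI : IsCyclic (R : Subgroup G) := hodd r hr hr2 R
  set C := centralizer ((R : Subgroup G) : Set G) with hC
  set N := normalizer ((R : Subgroup G) : Set G) with hN
  set φ := (R : Subgroup G).normalizerMonoidHom with hφ
  have hker : ∀ n : N, φ n = 1 ↔ (n : G) ∈ C := fun n => by
    rw [← MonoidHom.mem_ker, hφ, normalizerMonoidHom_ker, mem_subgroupOf]
  have hφab : ∀ a b : N, φ a * φ b = φ b * φ a := fun a b =>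
    (IsCyclic.mulAutMulEquiv (R : Subgroup G)).injective (by rw [map_mul, map_mul, mul_comm])
  -- the automorphisms have order dividing `r - 1`
  have hrange : Nat.card φ.range ∣ r - 1 := by
    have h1 := card_range_dvd_totient (R : Subgroup G)
    rw [R.card_eq_multiplicity, Nat.totient_prime_pow hr
      (Nat.Prime.factorization_pos_of_dvd hr Nat.card_pos.ne'
        (hro.trans ((card_subgroup_dvd_card O).trans (card_subgroup_dvd_card H))))] at h1
    refine (Nat.Coprime.pow_right _ ?_).dvd_of_dvd_mul_left h1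
    refine (hr.coprime_iff_not_dvd.2 fun hd => ?_).symm
    have h2 : r ∣ Nat.card φ.range → False := fun hd' => by
      have hRC : (R : Subgroup G) ≤ C := fun x hx => mem_centralizer_iff.2 fun y hy =>
        congrArg Subtype.val (mul_comm' (⟨y, hy⟩ : (R : Subgroup G)) ⟨x, hx⟩)
      obtain ⟨c, hc⟩ := card_dvd_of_le hRC
      have h3 := card_subgroup_dvd_card N
      rw [hN, card_normalizer_eq, ← hC, hc, R.card_eq_multiplicity] at h3
      obtain ⟨d, hd''⟩ := hd'
      rw [← hφ, hd''] at h3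
      have h4 : r ^ ((Nat.card G).factorization r + 1) ∣ Nat.card G :=
        dvd_trans ⟨c * d, by ring⟩ h3
      have := (hr.pow_dvd_iff_le_factorization Nat.card_pos.ne').1 h4
      omega
    exact h2 hd
  -- the part of the normalizer inside `H`
  have hRO : ∀ x : H, (x : G) ∈ (R : Subgroup G) → x ∈ O := by
    intro x hx
    obtain ⟨j, hj⟩ := IsPGroup.iff_orderOf.1 R.2 ⟨x, hx⟩
    rw [Subgroup.orderOf_mk, Subgroup.orderOf_coe] at hj
    refine (QuotientGroup.eq_one_iff x).1 (orderOf_eq_one_iff.1 ?_)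
    refine Nat.eq_one_of_dvd_coprimes (a := r ^ j) (b := 240)
      ((hr.coprime_iff_not_dvd.2 hr240).pow_left j) ?_ ?_
    · rw [← hj]; exact orderOf_map_dvd (QuotientGroup.mk' O) x
    · have h1 := O.card_eq_card_quotient_mul_card_subgroup
      rw [hHc] at h1
      rw [show (240 : ℕ) = Nat.card (H ⧸ O) from Nat.eq_of_mul_eq_mul_right Nat.card_pos h1]
      exact orderOf_dvd_natCard _
  set RH : Subgroup H := (R : Subgroup G).subgroupOf H with hRH'
  set RO : Sylow r O := Sylow.ofCard (RH.subgroupOf O) (by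
    rw [Nat.card_congr (subgroupOfEquivOfLe (fun x hx => hRO x hx)).toEquiv,
      Nat.card_congr (subgroupOfEquivOfLe hRH).toEquiv, R.card_eq_multiplicity]
    congr 1
    refine le_antisymm ?_ (((Nat.factorization_le_iff_dvd Nat.card_pos.ne' Nat.card_pos.ne').2
      ((card_subgroup_dvd_card O).trans (card_subgroup_dvd_card H))) r)
    rw [← hr.pow_dvd_iff_le_factorization Nat.card_pos.ne', ← R.card_eq_multiplicity,
      ← Nat.card_congr (subgroupOfEquivOfLe hRH).toEquiv]
    exact card_dvd_of_le (fun x hx => hRO x hx)) with hRO'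
  have hfr : normalizer ((RH : Subgroup H) : Set H) ⊔ O = ⊤ := by
    have h1 := Sylow.normalizer_sup_eq_top RO
    rwa [hRO', Sylow.coe_ofCard, subgroupOf_map_subtype,
      inf_eq_left.2 (show RH ≤ O from fun x hx => hRO x hx)] at h1
  set NH := normalizer ((RH : Subgroup H) : Set H) with hNH
  have hincl : ∀ x : NH, ((x : H) : G) ∈ N := by
    intro x
    rw [hN, mem_normalizer_iff]
    intro y
    constructor
    · intro hy
      exact (mem_normalizer_iff.1 x.2 ⟨y, hRH hy⟩).1 hy
    · intro hy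
      have h0 : y ∈ H := by
        have h1 := H.mul_mem (H.mul_mem (H.inv_mem (x : H).2) (hRH hy)) (x : H).2
        convert h1 using 1; group
      exact (mem_normalizer_iff.1 x.2 ⟨y, h0⟩).2 hy
  let ι : NH →* N := MonoidHom.mk' (fun x => ⟨((x : H) : G), hincl x⟩) fun a b => rfl
  let πN : NH →* H ⧸ O := (QuotientGroup.mk' O).comp NH.subtype
  have hπN : Function.Surjective πN := by
    rw [← MonoidHom.range_eq_top, MonoidHom.range_comp, range_subtype]
    have h1 := congrArg (Subgroup.map (QuotientGroup.mk' O)) hfr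
    rwa [Subgroup.map_sup, (map_eq_bot_iff O).2 (QuotientGroup.ker_mk' O).ge, sup_bot_eq,
      ← MonoidHom.range_eq_map, MonoidHom.range_eq_top.2 (QuotientGroup.mk'_surjective O)] at h1
  have hkill : πN.ker ≤ (φ.comp ι).ker := by
    intro x hx
    have hxO : (x : H) ∈ O := (QuotientGroup.eq_one_iff (x : H)).1 hx
    rw [MonoidHom.mem_ker, ← orderOf_eq_one_iff]
    by_contra hne1
    obtain ⟨q, hq, hqd⟩ := Nat.exists_prime_and_dvd hne1
    have h0 : orderOf ((φ.comp ι) x) ∣ Nat.card φ.range :=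
      Subgroup.orderOf_dvd_natCard φ.range ⟨ι x, rfl⟩
    have h1 : q ∣ r - 1 := hqd.trans (h0.trans hrange)
    have h2 : q ∣ Nat.card O := by
      refine hqd.trans ((orderOf_map_dvd (φ.comp ι) x).trans ?_)
      rw [← Subgroup.orderOf_coe]
      exact Subgroup.orderOf_dvd_natCard O hxO
    have h3 := Nat.minFac_le_of_dvd hq.two_le h2
    have h4 := Nat.le_of_dvd (by have := hr.two_le; omega) h1
    rw [← hr0] at h3
    have := hr.two_le
    omega
  let ψ : (H ⧸ O) →* MulAut (R : Subgroup G) := πN.liftOfSurjective hπN ⟨φ.comp ι, hkill⟩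
  have hψ : ∀ x : NH, ψ (πN x) = φ (ι x) := fun x =>
    MonoidHom.liftOfRightInverse_comp_apply _ _ _ ⟨φ.comp ι, hkill⟩ x
  have hψ1 : ψ = 1 := by
    refine M.hom_trivial hodd hGW h5 ψ (fun a b => ?_) ?_
    · obtain ⟨x, rfl⟩ := hπN a
      obtain ⟨y, rfl⟩ := hπN b
      rw [hψ, hψ]; exact hφab _ _
    · have hτC : τ ∈ C := mem_centralizer_iff.2 fun y hy =>
        mem_centralizer_singleton_iff.1 (hRA hy).2
      have hτN : (⟨τ, D.le_cen D.τ_mem⟩ : H) ∈ NH := by
        rw [hNH, mem_normalizer_iff]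
        intro y
        have h2 : τ ∈ N := centralizer_le_normalizer _ hτC
        exact mem_normalizer_iff.1 h2 (y : G)
      rw [show QuotientGroup.mk' O ⟨τ, D.le_cen D.τ_mem⟩ = πN ⟨_, hτN⟩ from rfl, hψ, hker]
      exact hτC
  have hNHC : ∀ x : NH, ((x : H) : G) ∈ C := fun x => by
    have h1 := hψ x
    rw [hψ1, MonoidHom.one_apply] at h1
    exact (hker (ι x)).1 h1.symm
  -- a Sylow 2-subgroup centralizing `R`
  set CH : Subgroup G := C ⊓ H with hCH
  have h240 : 240 ∣ Nat.card CH := by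
    have h1 : 240 ∣ Nat.card NH := by
      have h2 := πN.ker.card_mul_index
      rw [index_ker, MonoidHom.range_eq_top.2 hπN, card_top] at h2
      refine Dvd.intro_left _ (Eq.trans (congrArg _ ?_) h2)
      have h3 := O.card_eq_card_quotient_mul_card_subgroup
      rw [hHc] at h3
      exact Nat.eq_of_mul_eq_mul_right Nat.card_pos h3
    refine h1.trans ?_
    rw [← card_map_of_injective (K := NH) H.subtype_injective]
    refine card_dvd_of_le ?_
    rintro _ ⟨x, hx, rfl⟩
    exact ⟨hNHC ⟨x, hx⟩, x.2⟩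
  have hS4 : (Nat.card G).factorization 2 = 4 := by
    have h1 := S.card_eq_multiplicity
    rw [D.card, M.h_four hodd h5, show 4 * 4 = 2 ^ 4 by norm_num] at h1
    exact (Nat.pow_right_injective le_rfl h1).symm
  obtain ⟨T0⟩ : Nonempty (Sylow 2 CH) := inferInstance
  set T : Sylow 2 G := Sylow.ofCard ((T0 : Subgroup CH).map CH.subtype) (by
    rw [card_map_of_injective (subtype_injective _), T0.card_eq_multiplicity]
    congr 1
    refine le_antisymm
      (((Nat.factorization_le_iff_dvd Nat.card_pos.ne' Nat.card_pos.ne').2 (card_subgroup_dvd_card CH)) 2) ?_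
    rw [hS4, ← Nat.prime_two.pow_dvd_iff_le_factorization Nat.card_pos.ne']
    exact dvd_trans (by norm_num) h240) with hT
  have hTCH : (T : Subgroup G) ≤ CH := by rw [hT, Sylow.coe_ofCard]; exact map_subtype_le _
  have hTH : (T : Subgroup G) ≤ H := hTCH.trans inf_le_right
  obtain ⟨d, hd⟩ := MulAction.exists_smul_eq H (T.subtype hTH) (S.subtype D.le_cen)
  have hdT : ∀ t : G, t ∈ (T : Subgroup G) ↔ (d : G) * t * (d : G)⁻¹ ∈ (S : Subgroup G) := by
    intro t
    constructor
    · intro ht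
      have h1 : d * ⟨t, hTH ht⟩ * d⁻¹ ∈ ((S.subtype D.le_cen : Sylow 2 H) : Subgroup H) := by
        rw [← hd, Sylow.smul_def, Sylow.pointwise_smul_def]
        exact smul_mem_pointwise_smul _ (MulAut.conj d) _ (mem_subgroupOf.2 ht)
      exact mem_subgroupOf.1 h1
    · intro ht
      have h0 : t ∈ H := by
        have h1 := H.mul_mem (H.mul_mem (H.inv_mem d.2) (D.le_cen ht)) d.2
        convert h1 using 1; group
      have h1 : d * ⟨t, h0⟩ * d⁻¹ ∈ ((S.subtype D.le_cen : Sylow 2 H) : Subgroup H) := mem_subgroupOf.2 ht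
      rw [← hd, Sylow.smul_def, Sylow.pointwise_smul_def] at h1
      exact mem_subgroupOf.1 ((smul_mem_pointwise_smul_iff (a := MulAut.conj d)
        (x := (⟨t, h0⟩ : H))).1 h1)
  -- Frattini
  refine burnside_false R (hro.trans ((card_subgroup_dvd_card O).trans (card_subgroup_dvd_card H))) ?_
  intro n hn
  haveI : (C.subgroupOf N).Normal := by
    rw [← normalizerMonoidHom_ker]; exact MonoidHom.normal_ker _
  have hTC : (T : Subgroup G) ≤ C := hTCH.trans inf_le_left
  have hconjC : ∀ c ∈ C, ∀ m ∈ N, m * c * m⁻¹ ∈ C := fun c hc m hm =>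
    mem_subgroupOf.1 (Subgroup.Normal.conj_mem inferInstance (⟨c, centralizer_le_normalizer _ hc⟩ : N)
      (mem_subgroupOf.2 hc) ⟨m, hm⟩)
  have hnT : ((MulAut.conj n • T : Sylow 2 G) : Subgroup G) ≤ C := by
    rw [Sylow.pointwise_smul_def]
    rintro _ ⟨t, ht, rfl⟩
    exact hconjC t (hTC ht) n hn
  obtain ⟨c, hc⟩ := MulAction.exists_smul_eq C ((MulAut.conj n • T : Sylow 2 G).subtype hnT) (T.subtype hTC)
  have hm : ∀ t : G, t ∈ (T : Subgroup G) →
      ((c : G) * n) * t * ((c : G) * n)⁻¹ ∈ (T : Subgroup G) := by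
    intro t ht
    have hnt : n * t * n⁻¹ ∈ ((MulAut.conj n • T : Sylow 2 G) : Subgroup G) := by
      rw [Sylow.pointwise_smul_def]; exact smul_mem_pointwise_smul _ (MulAut.conj n) _ ht
    have h1 : c * ⟨n * t * n⁻¹, hnT hnt⟩ * c⁻¹ ∈ ((T.subtype hTC : Sylow 2 C) : Subgroup C) := by
      rw [← hc, Sylow.smul_def, Sylow.pointwise_smul_def]
      exact smul_mem_pointwise_smul _ (MulAut.conj c) _ (mem_subgroupOf.2 hnt)
    have h2 := mem_subgroupOf.1 h1
    rw [show ((c : G) * n) * t * ((c : G) * n)⁻¹ = (c : G) * (n * t * n⁻¹) * (c : G)⁻¹ by group]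
    exact h2
  set g := (d : G) * ((c : G) * n) * (d : G)⁻¹ with hg
  have hgS : ∀ s ∈ (S : Subgroup G), g * s * g⁻¹ ∈ (S : Subgroup G) := by
    intro s hs
    have h1 : (d : G)⁻¹ * s * d ∈ (T : Subgroup G) := by
      rw [hdT, show (d : G) * ((d : G)⁻¹ * s * d) * (d : G)⁻¹ = s by group]; exact hs
    have h2 := (hdT _).1 (hm _ h1)
    rw [hg]
    convert h2 using 1
    group
  have hgz : g * σ ^ h * g⁻¹ = σ ^ h := by
    have hwS := hgS _ (pow_mem D.σ_mem h)
    refine D.central_invol hwS ?_ (by rw [← D.orderOf_z]; exact MulEquiv.orderOf_eq (MulAut.conj g) _)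
    -- `g⁻¹ σ g` lies in the Sylow subgroup
    have hsurj : ∃ s ∈ (S : Subgroup G), g * s * g⁻¹ = σ := by
      let f : ↥(S : Subgroup G) → ↥(S : Subgroup G) := fun s => ⟨g * (s : G) * g⁻¹, hgS s.1 s.2⟩
      have hf : Function.Injective f := fun a b e' =>
        Subtype.ext (mul_left_cancel (mul_right_cancel (congrArg Subtype.val e')))
      obtain ⟨s, hs⟩ := (Finite.injective_iff_surjective.1 hf) ⟨σ, D.σ_mem⟩
      exact ⟨s, s.2, congrArg Subtype.val hs⟩
    obtain ⟨s, hs, hs'⟩ := hsurj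
    calc g * σ ^ h * g⁻¹ * σ = g * σ ^ h * g⁻¹ * (g * s * g⁻¹) := by rw [hs']
      _ = g * (σ ^ h * s) * g⁻¹ := by group
      _ = g * (s * σ ^ h) * g⁻¹ := by rw [D.z_comm hs]
      _ = g * s * g⁻¹ * (g * σ ^ h * g⁻¹) := by group
      _ = σ * (g * σ ^ h * g⁻¹) := by rw [hs']
  have hgH : g ∈ H := mem_centralizer_singleton_iff.2 (mul_inv_eq_iff_eq_mul.1 hgz)
  have hcnH : (c : G) * n ∈ H := by
    have h1 := H.mul_mem (H.mul_mem (H.inv_mem d.2) hgH) d.2
    rw [hg] at h1
    convert h1 using 1; group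
  have hcnN : (c : G) * n ∈ N := N.mul_mem (centralizer_le_normalizer _ c.2) hn
  have hNHm : (⟨(c : G) * n, hcnH⟩ : H) ∈ NH := by
    rw [hNH, mem_normalizer_iff]
    intro y
    exact mem_normalizer_iff.1 hcnN (y : G)
  have h1 := C.mul_mem (C.inv_mem c.2) (hNHC ⟨_, hNHm⟩)
  change (c : G)⁻¹ * ((c : G) * n) ∈ C at h1
  rwa [inv_mul_cancel_left] at h1

end Map

end CfsgLib.AlmostZ
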