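import Cfsg.Agent.AlmostZ.Defs
import Cfsg.Agent.AlmostZ.CentMap
import Cfsg.Agent.GWApps.SDCyclicLocal

/-!
# The local facts about a simple group with semidihedral Sylow 2-subgroup and cyclic odd Sylow
subgroups

Everything is read off the map of the centralizer of the central involution onto `PGL₂(p)`.
-/

set_option autoImplicit false
set_option linter.style.haveILetI false
set_option linter.unusedSectionVars false

namespace CfsgLib.AlmostZ

open Subgroup
open scoped commutatorElement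

universe u

theorem card_comap_of_surjective {A : Type*} {B : Type*} [Group A] [Group B] [Finite A] (f : A →* B)
    (hf : Function.Surjective f) (K : Subgroup B) :
    Nat.card (K.comap f) = Nat.card f.ker * Nat.card K := by
  haveI : Finite B := Finite.of_surjective f hf
  have h1 := (K.comap f).card_mul_index
  have h2 := K.card_mul_index
  have h3 := f.ker.card_mul_index
  rw [index_comap_of_surjective _ hf] at h1
  rw [index_ker, MonoidHom.range_eq_top.2 hf, card_top, ← h2, ← mul_assoc, ← h1] at h3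
  exact (Nat.eq_of_mul_eq_mul_right (Nat.pos_of_ne_zero K.index_ne_zero_of_finite) h3).symm

theorem two_pow_mul_odd {a b x y : ℕ} (hx : Odd x) (hy : Odd y) (e : 2 ^ a * x = 2 ^ b * y) : a = b := by
  have h : ∀ n z, Odd z → (2 ^ n * z).factorization 2 = n := fun n z hz => by
    have hz0 : z ≠ 0 := by rintro rfl; simp at hz
    rw [Nat.factorization_mul (pow_ne_zero n two_ne_zero) hz0, Finsupp.add_apply,
      Nat.Prime.factorization_pow Nat.prime_two, Finsupp.single_eq_same,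
      Nat.factorization_eq_zero_of_not_dvd (fun hd => Nat.not_even_iff_odd.2 hz (even_iff_two_dvd.2 hd)),
      add_zero]
  rw [← h a x hx, ← h b y hy, e]

theorem factorization_mul_of_not_dvd {r a b : ℕ} (hr : r.Prime) (ha : a ≠ 0) (hb : ¬ r ∣ b) :
    (a * b).factorization r = a.factorization r := by
  have hb0 : b ≠ 0 := by rintro rfl; exact hb (dvd_zero r)
  rw [Nat.factorization_mul ha hb0, Finsupp.add_apply, Nat.factorization_eq_zero_of_not_dvd hb, add_zero]

theorem pow_two_eq_one_or_of_odd {A : Type*} [Group A] {y : A} {n : ℕ} (hn : Odd n) (h : y ^ n = 1) {B : Subgroup A}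
    (h2 : y * y ∈ B) : y ∈ B := by
  obtain ⟨m, rfl⟩ := hn
  rw [pow_succ, pow_mul, pow_two] at h
  exact inv_mem_iff.1 (by rw [← mul_eq_one_iff_eq_inv.1 h]; exact pow_mem h2 m)

variable {G : Type u} [Group G] [Finite G] {S : Sylow 2 G} {σ τ : G} {h : ℕ}
variable {F : Type} [Field F] [Finite F]

/-- What `exists_map` provides. -/
structure Map (D : Gen S σ τ h) (ρ : cen (σ ^ h) →* PGLTwo.PG F) : Prop where
  prime : (Nat.card F).Prime
  ne_two : Nat.card F ≠ 2
  two : (2 : F) ≠ 0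
  surj : Function.Surjective ρ
  core : Cfsg.oddCore (cen (σ ^ h)) ≤ ρ.ker
  zmem : (⟨σ ^ h, D.le_cen (pow_mem D.σ_mem h)⟩ : cen (σ ^ h)) ∈ ρ.ker
  kcard : Nat.card ρ.ker = 2 * Nat.card (Cfsg.oddCore (cen (σ ^ h)))

namespace Map

variable {D : Gen S σ τ h} {ρ : cen (σ ^ h) →* PGLTwo.PG F} (M : Map D ρ)
include M

theorem odd_o : Odd (Nat.card (Cfsg.oddCore (cen (σ ^ h)))) := DGroup.odd_oddCore _

theorem odd_p : Odd (Nat.card F) := M.prime.odd_of_ne_two M.ne_two

theorem three_le : 3 ≤ Nat.card F := by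
  have := M.prime.two_le
  have := M.ne_two
  omega

theorem card_eq : Nat.card (cen (σ ^ h)) =
    2 * Nat.card F * (Nat.card F ^ 2 - 1) * Nat.card (Cfsg.oddCore (cen (σ ^ h))) := by
  have h1 := ρ.ker.card_mul_index
  rw [index_ker, MonoidHom.range_eq_top.2 M.surj, card_top, PGLTwo.card_PG, M.kcard] at h1
  rw [← h1]
  ring

theorem sq_sub_one : Nat.card F ^ 2 - 1 = (Nat.card F + 1) * (Nat.card F - 1) := by
  rw [← Nat.sq_sub_sq, one_pow]

theorem h_eq : (Nat.card F % 4 = 3 → ∃ r, Odd r ∧ Nat.card F + 1 = h * r) ∧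
    (Nat.card F % 4 = 1 → ∃ r, Odd r ∧ Nat.card F - 1 = h * r) := by
  haveI : Fact (Nat.Prime 2) := ⟨Nat.prime_two⟩
  obtain ⟨k, hk, -⟩ := D.exists_k
  have hk' : h = 2 ^ (k + 2) := by rw [hk]; ring
  set p := Nat.card F with hp
  set o := Nat.card (Cfsg.oddCore (cen (σ ^ h))) with ho
  have hp3 := M.three_le
  set SH : Sylow 2 (cen (σ ^ h)) := S.subtype D.le_cen with hSH
  have h1 := (SH : Subgroup (cen (σ ^ h))).card_mul_index
  have hc : Nat.card (SH : Subgroup (cen (σ ^ h))) = 4 * h := by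
    rw [← D.card]
    exact Nat.card_congr (subgroupOfEquivOfLe D.le_cen).toEquiv
  have hio : Odd (SH : Subgroup (cen (σ ^ h))).index :=
    Nat.not_even_iff_odd.1 fun he => SH.not_dvd_index (even_iff_two_dvd.1 he)
  rw [hc, M.card_eq, M.sq_sub_one, ← hp, ← ho] at h1
  set i := (SH : Subgroup (cen (σ ^ h))).index
  have key : ∀ a b : ℕ, b % 4 = 2 → a ≠ 0 → (p + 1) * (p - 1) = a * b → ∃ r, Odd r ∧ a = h * r := by
    intro a b hb ha hab
    obtain ⟨j, r, hr, hjr⟩ := Nat.exists_eq_pow_mul_and_not_dvd ha 2 (by norm_num)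
    have hro : Odd r := Nat.not_even_iff_odd.1 fun he => hr (even_iff_two_dvd.1 he)
    refine ⟨r, hro, ?_⟩
    obtain ⟨m, hm⟩ : ∃ m, b = 2 * m := ⟨b / 2, by omega⟩
    have hmo : Odd m := Nat.odd_iff.2 (by omega)
    have e : 2 ^ (k + 2) * i = 2 ^ j * (p * r * m * o) := by
      rw [hab, hm, hjr] at h1
      rw [← hk']
      refine Nat.eq_of_mul_eq_mul_left (show 0 < 4 by norm_num) ?_
      rw [← mul_assoc, h1]
      ring
    rw [hjr, hk', two_pow_mul_odd hio (((M.odd_p.mul hro).mul hmo).mul M.odd_o) e]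
  refine ⟨fun h4 => key (p + 1) (p - 1) (by omega) (by omega) rfl,
    fun h4 => key (p - 1) (p + 1) (by omega) (by omega) (mul_comm _ _)⟩

theorem borel : ∃ B : Subgroup (cen (σ ^ h)), Borel B (Nat.card F) := by
  classical
  obtain ⟨B, hidx, hdouble, hM⟩ := PGLTwo.exists_borel (F := F)
  refine ⟨B.comap ρ, ⟨by rw [index_comap_of_surjective _ M.surj, hidx], fun g g' hg hg' => ?_, ?_⟩⟩
  · obtain ⟨a, ha, b, hb, e⟩ := hdouble (ρ g) (ρ g') hg hg'
    obtain ⟨a', rfl⟩ := M.surj a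
    refine ⟨a', ha, (a' * g)⁻¹ * g', ?_, by group⟩
    rw [mem_comap, map_mul, map_inv, map_mul, e]
    simpa [mul_assoc] using hb
  · set p := Nat.card F with hp
    have hp3 := M.three_le
    obtain ⟨i, m, hm, him⟩ := Nat.exists_eq_pow_mul_and_not_dvd (show p - 1 ≠ 0 by omega) 2 (by norm_num)
    have hmo : Odd m := Nat.not_even_iff_odd.1 fun he => hm (even_iff_two_dvd.1 he)
    obtain ⟨N, hNB, hNn, hNc⟩ := hM m ⟨2 ^ i, by rw [him, mul_comm]⟩
    set o := Nat.card (Cfsg.oddCore (cen (σ ^ h))) with ho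
    have hNH : Nat.card (N.comap ρ) = 2 * (o * p * m) := by
      rw [card_comap_of_surjective ρ M.surj, M.kcard, hNc, ← ho]
      ring
    have hodd : Odd (o * p * m) := (M.odd_o.mul M.odd_p).mul hmo
    obtain ⟨Y, -, hY⟩ := SixThousand.exists_index_two hNH (Nat.odd_iff.1 hodd)
    have hYc : Nat.card Y = o * p * m := by
      have := Y.card_mul_index
      rw [hY, hNH] at this
      omega
    have hYodd : ∀ x : (N.comap ρ), Odd (orderOf x) → x ∈ Y := fun x hx =>
      pow_two_eq_one_or_of_odd hx (pow_orderOf_eq_one x) (mul_self_mem_of_index_two hY x)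
    refine ⟨Y.map (N.comap ρ).subtype, (map_subtype_le _).trans (comap_mono hNB), ?_, ?_, i + 1, ?_⟩
    · rwa [card_map_of_injective (N.comap ρ).subtype_injective, hYc]
    · rintro a ha _ ⟨x, hx, rfl⟩
      have hax : a * (x : cen (σ ^ h)) * a⁻¹ ∈ N.comap ρ := by
        rw [mem_comap, map_mul, map_mul, map_inv]
        exact hNn _ ha _ x.2
      refine ⟨⟨_, hax⟩, hYodd _ ?_, rfl⟩
      rw [← Subgroup.orderOf_coe]
      show Odd (orderOf (a * (x : cen (σ ^ h)) * a⁻¹))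
      rw [← MulAut.conj_apply, MulEquiv.orderOf_eq, Subgroup.orderOf_coe]
      exact (hYc ▸ hodd).of_dvd_nat (Subgroup.orderOf_dvd_natCard _ hx)
    · rw [card_map_of_injective (N.comap ρ).subtype_injective, hYc, card_comap_of_surjective ρ M.surj,
        M.kcard, ← ho]
      have h1 := B.card_mul_index
      rw [hidx, PGLTwo.card_PG, M.sq_sub_one, ← hp] at h1
      have hB : Nat.card B = p * (p - 1) := by
        refine Nat.eq_of_mul_eq_mul_right (show 0 < p + 1 by omega) ?_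
        rw [h1]; ring
      rw [hB, him]
      ring

/-! ### The images of `σ ^ (h / 2)` and `τ` -/

theorem eq_one_or_z {x : G} (hx : x ∈ (S : Subgroup G)) (h1 : ρ ⟨x, D.le_cen hx⟩ = 1) :
    x = 1 ∨ x = σ ^ h := by
  classical
  haveI : Fact (Nat.Prime 2) := ⟨Nat.prime_two⟩
  set SH : Subgroup (cen (σ ^ h)) := (S : Subgroup G).subgroupOf (cen (σ ^ h))
  set K := ρ.ker ⊓ SH with hK
  let φ : K →* (S : Subgroup G) := MonoidHom.mk' (fun a => ⟨((a : cen (σ ^ h)) : G), a.2.2⟩) fun _ _ => rfl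
  have hφ : Function.Injective φ := fun a b e =>
    Subtype.ext (Subtype.ext (congrArg (fun w : (S : Subgroup G) => (w : G)) e))
  obtain ⟨j, hj⟩ := IsPGroup.iff_card.1 (S.2.of_injective φ hφ)
  have hdvd : Nat.card K ∣ 2 * Nat.card (Cfsg.oddCore (cen (σ ^ h))) :=
    M.kcard ▸ card_dvd_of_le inf_le_left
  have hj1 : j ≤ 1 := by
    by_contra hlt
    have h4 : 2 * 2 ∣ 2 * Nat.card (Cfsg.oddCore (cen (σ ^ h))) :=
      ((pow_dvd_pow 2 (show 2 ≤ j by omega)).trans (hj ▸ hdvd))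
    exact Nat.not_even_iff_odd.2 M.odd_o
      (even_iff_two_dvd.2 ((Nat.mul_dvd_mul_iff_left two_pos).1 h4))
  by_contra hne
  push Not at hne
  have hzK : (⟨σ ^ h, D.le_cen (pow_mem D.σ_mem h)⟩ : cen (σ ^ h)) ∈ K := ⟨M.zmem, pow_mem D.σ_mem h⟩
  have hxK : (⟨x, D.le_cen hx⟩ : cen (σ ^ h)) ∈ K := ⟨h1, hx⟩
  have h3 : ({1, ⟨_, hzK⟩, ⟨_, hxK⟩} : Set K).ncard = 3 := by
    refine Set.ncard_eq_three.2 ⟨_, _, _, fun e => ?_, fun e => hne.1 ?_, fun e => hne.2 ?_, rfl⟩
    · have he : (1 : G) = σ ^ h := congrArg (fun a : K => ((a : cen (σ ^ h)) : G)) e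
      have := D.orderOf_z
      rw [← he, orderOf_one] at this
      omega
    · exact (congrArg (fun a : K => ((a : cen (σ ^ h)) : G)) e).symm
    · exact (congrArg (fun a : K => ((a : cen (σ ^ h)) : G)) e).symm
  have h4 := Set.ncard_le_card ({1, ⟨_, hzK⟩, ⟨_, hxK⟩} : Set K)
  have : 2 ^ j ≤ 2 := by
    calc 2 ^ j ≤ 2 ^ 1 := Nat.pow_le_pow_right two_pos hj1
      _ = 2 := rfl
  omega

theorem f_image :
    ρ ⟨_, D.le_cen D.f_mem⟩ ∈ commutator (PGLTwo.PG F) ∧
      ρ ⟨_, D.le_cen D.f_mem⟩ * ρ ⟨_, D.le_cen D.f_mem⟩ = 1 ∧ ρ ⟨_, D.le_cen D.f_mem⟩ ≠ 1 := by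
  refine ⟨?_, ?_, fun h1 => ?_⟩
  · have h1 := mem_map_of_mem ρ (D.f_mem_commutator (D.le_cen D.σ_mem) (D.le_cen D.τ_mem))
    rw [_root_.commutator_def, Subgroup.map_commutator] at h1
    exact Subgroup.commutator_mono le_top le_top h1
  · rw [← map_mul]
    have : (⟨σ ^ (h / 2), D.le_cen D.f_mem⟩ : cen (σ ^ h)) * ⟨σ ^ (h / 2), D.le_cen D.f_mem⟩ =
        ⟨σ ^ h, D.le_cen (pow_mem D.σ_mem h)⟩ := Subtype.ext D.f_sq
    rw [this]
    exact M.zmem
  · rcases M.eq_one_or_z D.f_mem h1 with e | e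
    · have := D.orderOf_f; rw [e, orderOf_one] at this; omega
    · have := D.orderOf_f; rw [e, D.orderOf_z] at this; omega

theorem τ_image :
    ρ ⟨τ, D.le_cen D.τ_mem⟩ * ρ ⟨τ, D.le_cen D.τ_mem⟩ = 1 ∧ ρ ⟨τ, D.le_cen D.τ_mem⟩ ≠ 1 ∧
      ρ ⟨τ, D.le_cen D.τ_mem⟩ ≠ ρ ⟨_, D.le_cen D.f_mem⟩ ∧
      ρ ⟨τ, D.le_cen D.τ_mem⟩ * ρ ⟨_, D.le_cen D.f_mem⟩ =
        ρ ⟨_, D.le_cen D.f_mem⟩ * ρ ⟨τ, D.le_cen D.τ_mem⟩ := by
  refine ⟨?_, fun h1 => ?_, fun h1 => ?_, ?_⟩
  · rw [← map_mul, ← map_one ρ]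
    congr 1
    exact Subtype.ext (show τ * τ = 1 by rw [← pow_two, ← D.ordτ]; exact pow_orderOf_eq_one τ)
  · rcases M.eq_one_or_z D.τ_mem h1 with e | e
    · have := D.ordτ; rw [e, orderOf_one] at this; omega
    · exact D.τ_not (e ▸ pow_mem (mem_zpowers σ) h)
  · have h2 : ρ ⟨τ * (σ ^ (h / 2))⁻¹, D.le_cen (mul_mem D.τ_mem (inv_mem D.f_mem))⟩ = 1 := by
      show ρ (⟨τ, D.le_cen D.τ_mem⟩ * ⟨_, D.le_cen D.f_mem⟩⁻¹) = 1
      rw [map_mul, map_inv, h1, mul_inv_cancel]
    refine D.τ_not ?_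
    rcases M.eq_one_or_z (mul_mem D.τ_mem (inv_mem D.f_mem)) h2 with e | e
    · rw [mul_inv_eq_one.1 e]; exact pow_mem (mem_zpowers σ) _
    · rw [mul_inv_eq_iff_eq_mul.1 e]
      exact mul_mem (pow_mem (mem_zpowers σ) _) (pow_mem (mem_zpowers σ) _)
  · have hinv : (⟨τ, D.le_cen D.τ_mem⟩ : cen (σ ^ h)) * ⟨_, D.le_cen D.f_mem⟩ =
        (⟨_, D.le_cen D.f_mem⟩ : cen (σ ^ h))⁻¹ * ⟨τ, D.le_cen D.τ_mem⟩ :=
      Subtype.ext (show τ * σ ^ (h / 2) = (σ ^ (h / 2))⁻¹ * τ from mul_inv_eq_iff_eq_mul.1 D.conj_f)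
    rw [← map_mul, hinv, map_mul, map_inv, inv_eq_of_mul_eq_one_right M.f_image.2.1]

theorem cen_f_le : cen (σ ^ (h / 2)) ≤ cen (σ ^ h) := fun x hx => by
  have h1 : Commute x (σ ^ (h / 2)) := mem_centralizer_singleton_iff.1 hx
  refine mem_centralizer_singleton_iff.2 ?_
  rw [← D.f_sq]
  exact (h1.mul_right h1).eq

/-- Elements of order `p` do not commute with the involution of `PSL₂`. -/
theorem not_comm_order_p {y : PGLTwo.PG F} (hy : orderOf y = Nat.card F)
    (hc : y * ρ ⟨_, D.le_cen D.f_mem⟩ = ρ ⟨_, D.le_cen D.f_mem⟩ * y) : False := by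
  haveI : Fact (Nat.card F).Prime := ⟨M.prime⟩
  haveI : Fact (Nat.Prime 2) := ⟨Nat.prime_two⟩
  obtain ⟨-, h2, h1⟩ := M.f_image
  have hs : orderOf (ρ ⟨_, D.le_cen D.f_mem⟩) = 2 := orderOf_eq_prime (by rw [pow_two]; exact h2) h1
  have hd := Subgroup.orderOf_dvd_natCard (Subgroup.centralizer ({y} : Set (PGLTwo.PG F)))
    (mem_centralizer_singleton_iff.2 hc.symm)
  rw [hs, PGLTwo.card_centralizer_unip hy] at hd
  exact Nat.not_even_iff_odd.2 M.odd_p (even_iff_two_dvd.2 hd)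

theorem f_mem_E : (⟨σ ^ (h / 2), D.le_cen D.f_mem⟩ : cen (σ ^ h)) ∈
    (zpowers (ρ ⟨_, D.le_cen D.f_mem⟩)).comap ρ := mem_zpowers _

theorem card_E : Nat.card ((zpowers (ρ ⟨_, D.le_cen D.f_mem⟩)).comap ρ) =
    4 * Nat.card (Cfsg.oddCore (cen (σ ^ h))) := by
  haveI : Fact (Nat.Prime 2) := ⟨Nat.prime_two⟩
  obtain ⟨-, h2, h1⟩ := M.f_image
  rw [card_comap_of_surjective ρ M.surj, M.kcard, Nat.card_zpowers,
    orderOf_eq_prime (p := 2) (by rw [pow_two]; exact h2) h1]
  ring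

/-- Odd `r`-subgroups of the centralizer of the involution of `PSL₂` lift to `C(σ ^ (h / 2))`. -/
theorem exists_lift {r v : ℕ} (hr : r.Prime) (hr2 : r ≠ 2)
    (hro : ¬ r ∣ Nat.card (Cfsg.oddCore (cen (σ ^ h)))) (T : Subgroup (PGLTwo.PG F))
    (hT : ∀ y ∈ T, y * ρ ⟨_, D.le_cen D.f_mem⟩ = ρ ⟨_, D.le_cen D.f_mem⟩ * y) (hv : r ^ v ∣ Nat.card T) :
    ∃ R : Subgroup G, R ≤ cen (σ ^ (h / 2)) ∧ Nat.card R = r ^ v := by
  classical
  haveI := Fact.mk hr
  haveI : Fact (Nat.Prime 2) := ⟨Nat.prime_two⟩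
  obtain ⟨-, hs2, hs1⟩ := M.f_image
  set f' : cen (σ ^ h) := ⟨σ ^ (h / 2), D.le_cen D.f_mem⟩ with hf'
  set s := ρ f' with hs
  set E : Subgroup (cen (σ ^ h)) := (zpowers s).comap ρ with hE
  set T' := T ⊔ zpowers s with hT'
  set Y : Subgroup (cen (σ ^ h)) := T'.comap ρ with hY
  have hEY : E ≤ Y := comap_mono le_sup_right
  have hcent : ∀ y ∈ T', y * s = s * y := fun y hy => by
    have hle : T' ≤ Subgroup.centralizer ({s} : Set (PGLTwo.PG F)) :=
      sup_le (fun t ht => mem_centralizer_singleton_iff.2 (hT t ht))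
        (zpowers_le.2 (mem_centralizer_singleton_iff.2 rfl))
    exact mem_centralizer_singleton_iff.1 (hle hy)
  haveI : (E.subgroupOf Y).Normal := ⟨fun e he y => by
    rw [mem_subgroupOf] at he ⊢
    obtain ⟨i, hi⟩ := mem_zpowers_iff.1 he
    show ρ ((y : cen (σ ^ h)) * e * (y : cen (σ ^ h))⁻¹) ∈ zpowers s
    rw [map_mul, map_mul, map_inv, ← hi,
      show ρ (y : cen (σ ^ h)) * s ^ i = s ^ i * ρ (y : cen (σ ^ h)) from
        ((show Commute (ρ (y : cen (σ ^ h))) s from hcent _ y.2).zpow_right i).eq, mul_inv_cancel_right]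
    exact zpow_mem (mem_zpowers s) i⟩
  let fY : Y := ⟨f', hEY M.f_mem_E⟩
  let fE : E.subgroupOf Y := ⟨fY, M.f_mem_E⟩
  have hfo : orderOf fE = 4 := by
    rw [← Subgroup.orderOf_coe, ← Subgroup.orderOf_coe, ← Subgroup.orderOf_coe]
    exact D.orderOf_f
  have hEc : Nat.card (E.subgroupOf Y) = 4 * Nat.card (Cfsg.oddCore (cen (σ ^ h))) := by
    rw [Nat.card_congr (subgroupOfEquivOfLe hEY).toEquiv, M.card_E]
  have hfac : (4 * Nat.card (Cfsg.oddCore (cen (σ ^ h)))).factorization 2 = 2 := by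
    rw [factorization_mul_of_not_dvd Nat.prime_two (by norm_num)
      (fun hd => Nat.not_even_iff_odd.2 M.odd_o (even_iff_two_dvd.2 hd)),
      show (4 : ℕ) = 2 ^ 2 by norm_num, Nat.Prime.factorization_pow Nat.prime_two, Finsupp.single_eq_same]
  let Q : Sylow 2 (E.subgroupOf Y) := Sylow.ofCard (zpowers fE) (by
    rw [Nat.card_zpowers, hfo, hEc, hfac]; norm_num)
  set N := normalizer (((Q : Subgroup (E.subgroupOf Y)).map (E.subgroupOf Y).subtype : Subgroup Y) : Set Y)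
    with hN
  have hidx : (E.subgroupOf Y).index ∣ Nat.card N := by
    rw [← relIndex_top_right, ← Sylow.normalizer_sup_eq_top Q, relIndex_sup_right]
    exact relIndex_dvd_card _ _
  have hd : r ^ v ∣ Nat.card N := by
    refine Nat.Coprime.dvd_of_dvd_mul_left ?_ (?_ : r ^ v ∣ Nat.card (E.subgroupOf Y) * Nat.card N)
    · refine Nat.Coprime.pow_left v ((Nat.Prime.coprime_iff_not_dvd hr).2 fun hd => ?_)
      rw [hEc] at hd
      rcases hr.dvd_mul.1 hd with h4 | h4
      · exact hr2 ((Nat.prime_dvd_prime_iff_eq hr Nat.prime_two).1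
          (hr.dvd_of_dvd_pow (show r ∣ 2 ^ 2 by simpa using h4)))
      · exact hro h4
    · refine Dvd.dvd.trans ?_ (mul_dvd_mul_left _ hidx)
      rw [card_mul_index, hY, card_comap_of_surjective ρ M.surj]
      exact Dvd.dvd.mul_left (hv.trans (card_dvd_of_le le_sup_left)) _
  obtain ⟨R, hR⟩ := Sylow.exists_subgroup_card_pow_prime r hd
  have hQmap : (Q : Subgroup (E.subgroupOf Y)).map (E.subgroupOf Y).subtype = zpowers fY := by
    show (zpowers fE).map (E.subgroupOf Y).subtype = zpowers fY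
    rw [MonoidHom.map_zpowers]
    rfl
  -- elements of odd order normalizing the cyclic group of order four centralize it
  have hcomm : ∀ y : N, y ∈ R → (y : Y) * fY = fY * (y : Y) := by
    intro y hy
    have hmem : (y : Y) * fY * (y : Y)⁻¹ ∈ zpowers fY := by
      rw [← hQmap]
      exact (mem_normalizer_iff.1 y.2 fY).1 (hQmap ▸ mem_zpowers fY)
    have hodd : Odd (orderOf (y : Y)) := by
      rw [Subgroup.orderOf_coe]
      exact (hR ▸ (hr.odd_of_ne_two hr2).pow).of_dvd_nat (Subgroup.orderOf_dvd_natCard R hy)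
    have hinv : ∀ a : Y, a * fY * a⁻¹ = fY⁻¹ → a * a * fY * (a * a)⁻¹ = fY := fun a ha => by
      calc a * a * fY * (a * a)⁻¹ = a * (a * fY * a⁻¹) * a⁻¹ := by group
        _ = a * fY⁻¹ * a⁻¹ := by rw [ha]
        _ = (a * fY * a⁻¹)⁻¹ := by group
        _ = fY := by rw [ha, inv_inv]
    have ho4 : orderOf fY = 4 := by
      rw [← Subgroup.orderOf_coe, ← Subgroup.orderOf_coe]; exact D.orderOf_f
    have hy2 : (y : Y) * y ∈ Subgroup.centralizer ({fY} : Set Y) := by
      refine mem_centralizer_singleton_iff.2 ?_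
      obtain ⟨i, hi⟩ := mem_zpowers_iff.1 hmem
      have h4 : fY ^ (4 : ℤ) = 1 := by
        rw [show (4 : ℤ) = ((4 : ℕ) : ℤ) from rfl, zpow_natCast, ← ho4, pow_orderOf_eq_one]
      have hi4 : fY ^ i = fY ^ (i % 4) := by
        conv_lhs => rw [← Int.emod_add_ediv_mul i 4]
        rw [zpow_add, mul_comm _ (4 : ℤ), zpow_mul, h4, one_zpow, mul_one]
      have ho' : orderOf ((y : Y) * fY * (y : Y)⁻¹) = 4 := by
        rw [← ho4]; exact MulEquiv.orderOf_eq (MulAut.conj (y : Y)) fY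
      rw [← hi, hi4] at ho'
      have hlt := Int.emod_lt_of_pos i (show (0 : ℤ) < 4 by norm_num)
      have hge := Int.emod_nonneg i (show (4 : ℤ) ≠ 0 by norm_num)
      interval_cases hm : i % 4
      · rw [zpow_zero, orderOf_one] at ho'; omega
      · rw [zpow_one] at hi4
        have h1 := mul_inv_eq_iff_eq_mul.1 (hi.symm.trans hi4)
        exact ((show Commute (y : Y) fY from h1).mul_left h1).eq
      · exfalso
        have h22 : (fY ^ (2 : ℤ)) ^ 2 = 1 := by
          rw [← zpow_natCast (fY ^ (2 : ℤ)) 2, ← zpow_mul]; exact h4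
        have := Nat.le_of_dvd two_pos (orderOf_dvd_of_pow_eq_one h22)
        omega
      · have h3 : fY ^ (3 : ℤ) = fY⁻¹ := by
          rw [show (3 : ℤ) = 4 - 1 by norm_num, zpow_sub, h4, one_mul, zpow_one]
        exact mul_inv_eq_iff_eq_mul.1 (hinv _ (hi.symm.trans (hi4.trans h3)))
    exact mem_centralizer_singleton_iff.1 (pow_two_eq_one_or_of_odd hodd (pow_orderOf_eq_one _) hy2)
  refine ⟨((R.map N.subtype).map Y.subtype).map (cen (σ ^ h)).subtype, ?_, ?_⟩
  · rintro _ ⟨_, ⟨_, ⟨y, hy, rfl⟩, rfl⟩, rfl⟩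
    exact mem_centralizer_singleton_iff.2
      (congrArg (fun a : Y => ((a : cen (σ ^ h)) : G)) (hcomm y hy))
  · rw [card_map_of_injective (cen (σ ^ h)).subtype_injective, card_map_of_injective Y.subtype_injective,
      card_map_of_injective N.subtype_injective, hR]

/-! ### The core -/

variable (hodd : OddCyclic G)
include hodd

theorem cyclic_sub {r : ℕ} (hr : r.Prime) (hr2 : r ≠ 2) {A : Type*} [Group A] {φ : A →* G}
    (hφ : Function.Injective φ) (hA : IsPGroup r A) : IsCyclic A := by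
  haveI := Fact.mk hr
  obtain ⟨P, hP⟩ := (hA.of_equiv (MonoidHom.ofInjective hφ)).exists_le_sylow
  haveI := hodd r hr hr2 P
  exact isCyclic_of_injective (φ.codRestrict (P : Subgroup G) fun a => hP ⟨a, rfl⟩)
    fun a b e => hφ (congrArg (fun w : (P : Subgroup G) => (w : G)) e)

/-- For `p ≥ 5` the order of the core is prime to that of `PSL₂(p)`. -/
theorem coprime_core (h5 : 5 ≤ Nat.card F) {r : ℕ} (hr : r.Prime)
    (hdvd : r ∣ Nat.card F * (Nat.card F ^ 2 - 1)) :
    ¬ r ∣ Nat.card (Cfsg.oddCore (cen (σ ^ h))) := by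
  classical
  intro hro
  have hr2 : r ≠ 2 := by
    rintro rfl
    exact Nat.not_even_iff_odd.2 M.odd_o (even_iff_two_dvd.2 hro)
  haveI := Fact.mk hr
  set O := Cfsg.oddCore (cen (σ ^ h)) with hO
  obtain ⟨R⟩ : Nonempty (Sylow r O) := inferInstance
  set R' : Subgroup (cen (σ ^ h)) := (R : Subgroup O).map O.subtype with hR'
  set N := normalizer (R' : Set (cen (σ ^ h))) with hN
  have hNO : N ⊔ O = ⊤ := Sylow.normalizer_sup_eq_top R
  have hNρ : N.map ρ = ⊤ := by
    have h1 := congrArg (Subgroup.map ρ) hNO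
    rwa [Subgroup.map_sup, (map_eq_bot_iff O).2 M.core, sup_bot_eq, ← MonoidHom.range_eq_map,
      MonoidHom.range_eq_top.2 M.surj] at h1
  haveI : IsCyclic R' := cyclic_sub M hodd hr hr2 (φ := (cen (σ ^ h)).subtype.comp R'.subtype)
    ((cen (σ ^ h)).subtype_injective.comp R'.subtype_injective) (R.2.map O.subtype)
  set W := Subgroup.centralizer (R' : Set (cen (σ ^ h))) with hW
  have hNW : ⁅N, N⁆ ≤ W := by
    rw [Subgroup.commutator_le]
    intro a ha b hb
    rw [hW, mem_centralizer_iff]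
    intro x hx
    obtain ⟨⟨g, hg⟩, hgen⟩ := IsCyclic.exists_generator (α := R')
    have hmem : ∀ c ∈ R', ∃ i : ℤ, g ^ i = c := fun c hc => by
      obtain ⟨i, hi⟩ := mem_zpowers_iff.1 (hgen ⟨c, hc⟩)
      exact ⟨i, congrArg Subtype.val hi⟩
    obtain ⟨ia, hia⟩ := hmem _ ((mem_normalizer_iff.1 ha g).1 hg)
    obtain ⟨ib, hib⟩ := hmem _ ((mem_normalizer_iff.1 hb g).1 hg)
    have hcomm : a * b * g * (a * b)⁻¹ = b * a * g * (b * a)⁻¹ := by
      calc a * b * g * (a * b)⁻¹ = a * (b * g * b⁻¹) * a⁻¹ := by group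
        _ = (a * g * a⁻¹) ^ ib := by rw [← hib, conj_zpow]
        _ = (g ^ ib) ^ ia := by rw [← hia, ← zpow_mul, ← zpow_mul, mul_comm]
        _ = (b * g * b⁻¹) ^ ia := by rw [hib]
        _ = b * g ^ ia * b⁻¹ := conj_zpow
        _ = _ := by rw [hia]; group
    have hgc : ⁅a, b⁆ * g * ⁅a, b⁆⁻¹ = g := by
      have key : ∀ w : cen (σ ^ h), w ∈ N → ∀ c ∈ R', w * c * w⁻¹ ∈ R' := fun w hw c hc =>
        (mem_normalizer_iff.1 hw c).1 hc
      obtain ⟨ic, hic⟩ := hmem _ (key _ (inv_mem (mul_mem hb ha)) g hg)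
      rw [inv_inv] at hic
      calc ⁅a, b⁆ * g * ⁅a, b⁆⁻¹ = a * b * ((b * a)⁻¹ * g * (b * a)) * (a * b)⁻¹ := by
            rw [commutatorElement_def]; group
        _ = (a * b * g * (a * b)⁻¹) ^ ic := by rw [← hic, conj_zpow]
        _ = (b * a * g * (b * a)⁻¹) ^ ic := by rw [hcomm]
        _ = b * a * g ^ ic * (b * a)⁻¹ := conj_zpow
        _ = g := by rw [hic]; group
    obtain ⟨i, rfl⟩ := hmem x hx
    exact ((show Commute ⁅a, b⁆ g from mul_inv_eq_iff_eq_mul.1 hgc).zpow_right i).eq.symm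
  obtain ⟨P, hP⟩ := PGLTwo.exists_perfect (F := F) (by omega)
  have hPN : P ≤ W.map ρ := by
    refine le_trans ?_ (map_mono hNW)
    rw [Subgroup.map_commutator, hNρ, ← hP.1]
    exact Subgroup.commutator_mono le_top le_top
  -- an element of order `r` of `R'` in the center of `W`
  have hR1 : r ∣ Nat.card R' := by
    rw [hR', card_map_of_injective O.subtype_injective, R.card_eq_multiplicity]
    exact dvd_pow_self r (Nat.Prime.factorization_pos_of_dvd hr Nat.card_pos.ne' hro).ne'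
  obtain ⟨⟨x, hxR⟩, hxo⟩ := exists_prime_orderOf_dvd_card' r hR1
  rw [Subgroup.orderOf_mk] at hxo
  have hxW : x ∈ W := mem_centralizer_iff.2 fun c hc =>
    congrArg Subtype.val (mul_comm' (⟨c, hc⟩ : R') ⟨x, hxR⟩)
  obtain ⟨Q, hQ⟩ := (IsPGroup.of_card (n := 1) (G := zpowers (⟨x, hxW⟩ : W))
    (by rw [Nat.card_zpowers, Subgroup.orderOf_mk, hxo, pow_one])).exists_le_sylow
  haveI : IsCyclic (Q : Subgroup W) := cyclic_sub M hodd hr hr2
    (φ := ((cen (σ ^ h)).subtype.comp W.subtype).comp (Q : Subgroup W).subtype)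
    (((cen (σ ^ h)).subtype_injective.comp W.subtype_injective).comp (Q : Subgroup W).subtype_injective) Q.2
  have hNC : normalizer ((Q : Subgroup W) : Set W) ≤ Subgroup.centralizer ((Q : Subgroup W) : Set W) :=
    fun g hg => GWApps.SDCyclic.normalizer_fix_le Q (hQ (mem_zpowers _))
      (by rw [Subgroup.orderOf_mk]; exact hxo) hg
      (mul_inv_eq_iff_eq_mul.2 (Subtype.ext (mem_centralizer_iff.1 g.2 x hxR).symm))
  set K := (MonoidHom.transferSylow Q hNC).ker with hK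
  have hKr : ¬ r ∣ Nat.card K := MonoidHom.not_dvd_card_ker_transferSylow Q hNC
  have hcomm : commutator W ≤ K := by
    rw [_root_.commutator_def, Subgroup.commutator_le]
    intro a _ b _
    rw [hK, MonoidHom.mem_ker, map_commutatorElement, commutatorElement_eq_one_iff_mul_comm]
    exact mul_comm' _ _
  have hle : P ≤ K.map (ρ.comp W.subtype) := by
    refine le_trans ?_ (map_mono hcomm)
    rw [_root_.commutator_def, Subgroup.map_commutator, ← MonoidHom.range_eq_map, MonoidHom.range_comp,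
      range_subtype]
    exact hP.1.ge.trans (Subgroup.commutator_mono hPN hPN)
  exact hKr ((hP.2 r hr hr2 hdvd).trans ((card_dvd_of_le hle).trans (card_map_dvd _ _)))

theorem not_dvd_cen_f (h5 : ¬ Nat.card F ∣ Nat.card (Cfsg.oddCore (cen (σ ^ h)))) :
    ¬ Nat.card F ∣ Nat.card (cen (σ ^ (h / 2))) := by
  intro hd
  haveI := Fact.mk M.prime
  obtain ⟨⟨x, hx⟩, hxo⟩ := exists_prime_orderOf_dvd_card' (Nat.card F) hd
  rw [Subgroup.orderOf_mk] at hxo
  have hxo' : orderOf (⟨x, M.cen_f_le hx⟩ : cen (σ ^ h)) = Nat.card F := by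
    rw [Subgroup.orderOf_mk]; exact hxo
  refine M.not_comm_order_p (y := ρ ⟨x, M.cen_f_le hx⟩) ?_ ?_
  · refine orderOf_eq_prime ?_ fun h1 => ?_
    · rw [← map_pow, ← hxo', pow_orderOf_eq_one, map_one]
    · have h2 := Subgroup.orderOf_dvd_natCard ρ.ker (MonoidHom.mem_ker.2 h1)
      rw [hxo', M.kcard] at h2
      rcases M.prime.dvd_mul.1 h2 with h3 | h3
      · exact M.ne_two ((Nat.prime_dvd_prime_iff_eq M.prime Nat.prime_two).1 h3)
      · exact h5 h3
  · rw [← map_mul, ← map_mul]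
    congr 1
    exact Subtype.ext (mem_centralizer_singleton_iff.1 hx)

variable (hone : ∀ a b : G, orderOf a = 2 → orderOf b = 2 → IsConj a b)
include hone

theorem sylow_eq_of_comm_f {r : ℕ} (hr : r.Prime) (hr2 : r ≠ 2) {x : G}
    (hx : x ∈ cen (σ ^ (h / 2))) (hxo : orderOf x = r) :
    (Nat.card G).factorization r = (Nat.card (cen (σ ^ h))).factorization r := by
  haveI := Fact.mk hr
  refine GWApps.SDCyclic.sylow_eq hone hr2 (hodd r hr hr2) D.orderOf_z hxo (M.cen_f_le hx)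
    fun T hT hTx hmax u hu v hv huc hvc huo hvo => ?_
  obtain ⟨g, -, hg⟩ := hmax (σ ^ (h / 2))
    (mem_centralizer_singleton_iff.2 (mem_centralizer_singleton_iff.1 hx).symm) 2 D.orderOf_f
  have ho : orderOf (g * σ ^ (h / 2) * g⁻¹) = 4 := by
    rw [← D.orderOf_f]; exact MulEquiv.orderOf_eq (MulAut.conj g) _
  exact GWApps.SDCyclic.invol_unique_of_four S D.isQuasiDihedral hT hg ho hu hv
    (huc _ hg).symm (hvc _ hg).symm huo hvo

theorem val_p (h5 : 5 ≤ Nat.card F) :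
    padicValNat (Nat.card F) (Nat.card G) = 1 ∧ ¬ Nat.card F ∣ Nat.card (cen (σ ^ (h / 2))) := by
  haveI := Fact.mk M.prime
  have hp := M.prime
  have hno : ¬ Nat.card F ∣ Nat.card (Cfsg.oddCore (cen (σ ^ h))) :=
    M.coprime_core hodd h5 hp (dvd_mul_right _ _)
  refine ⟨?_, M.not_dvd_cen_f hodd hno⟩
  have h2p : ¬ Nat.card F ∣ 2 := fun h => M.ne_two ((Nat.prime_dvd_prime_iff_eq hp Nat.prime_two).1 h)
  have hsq : ¬ Nat.card F ∣ Nat.card F ^ 2 - 1 := fun hd => by
    have h1 : Nat.card F ∣ Nat.card F ^ 2 := dvd_pow_self _ two_ne_zero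
    have h2 := Nat.dvd_sub h1 hd
    rw [Nat.sub_sub_self (Nat.one_le_pow _ _ hp.pos)] at h2
    exact hp.not_dvd_one h2
  have hH : (Nat.card (cen (σ ^ h))).factorization (Nat.card F) = 1 := by
    rw [M.card_eq, show 2 * Nat.card F * (Nat.card F ^ 2 - 1) * Nat.card (Cfsg.oddCore (cen (σ ^ h))) =
      Nat.card F * (2 * (Nat.card F ^ 2 - 1) * Nat.card (Cfsg.oddCore (cen (σ ^ h)))) by ring,
      factorization_mul_of_not_dvd hp hp.ne_zero ?_, hp.factorization_self]
    rw [hp.dvd_mul, hp.dvd_mul]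
    tauto
  rw [← Nat.factorization_def _ hp]
  have hle := GWApps.SDCyclic.sylow_bound hone (GWApps.SDCyclic.rank_le_two S D.isQuasiDihedral)
    M.ne_two (hodd _ hp M.ne_two) D.orderOf_z
    (Nat.dvd_of_factorization_pos (hH.trans_ne one_ne_zero))
  rw [if_neg (by omega : Nat.card F ≠ 3)] at hle
  have hge := ((Nat.factorization_le_iff_dvd Nat.card_pos.ne' Nat.card_pos.ne').2
    (card_subgroup_dvd_card (cen (σ ^ h)))) (Nat.card F)
  change (Nat.card G).factorization (Nat.card F) ≤ (Nat.card (cen (σ ^ h))).factorization (Nat.card F) + 0 at hle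
  omega

theorem val_torus (h5 : 5 ≤ Nat.card F) {r : ℕ} (hr : r.Prime) (hr2 : r ≠ 2)
    (hcase : (Nat.card F % 4 = 3 ∧ r ∣ Nat.card F + 1) ∨ (Nat.card F % 4 = 1 ∧ r ∣ Nat.card F - 1)) :
    padicValNat r (Nat.card G) = padicValNat r (Nat.card (cen (σ ^ h))) ∧
      padicValNat r (Nat.card (cen (σ ^ (h / 2)))) = padicValNat r (Nat.card (cen (σ ^ h))) ∧
      ¬ r ∣ Nat.card (cen (σ ^ (h / 2)) ⊓ cen τ : Subgroup G) := by
  classical
  haveI := Fact.mk hr
  set p := Nat.card F with hp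
  obtain ⟨hs, hs2, hs1⟩ := M.f_image
  obtain ⟨T, hT, hT3, hT1⟩ := PGLTwo.exists_torus M.two hs hs2 hs1
  rw [← hp] at hT3 hT1
  have hdvd : r ∣ p * (p ^ 2 - 1) := by
    rw [M.sq_sub_one, ← hp]
    rcases hcase with ⟨-, h⟩ | ⟨-, h⟩
    · exact (h.mul_right _).mul_left _
    · exact (h.mul_left _).mul_left _
  have hro := M.coprime_core hodd h5 hr hdvd
  have h2r : ¬ r ∣ 2 := fun h => hr2 ((Nat.prime_dvd_prime_iff_eq hr Nat.prime_two).1 h)
  obtain ⟨c, hc, hcard⟩ : ∃ c, ¬ r ∣ c ∧ Nat.card (cen (σ ^ h)) = Nat.card T * c := by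
    have hother : ∀ a b : ℕ, r ∣ a → (a = b + 2 ∨ b = a + 2) → ¬ r ∣ b := fun a b ha hab hb => by
      rcases hab with rfl | rfl
      · exact h2r ((Nat.dvd_add_right hb).1 ha)
      · exact h2r ((Nat.dvd_add_right ha).1 hb)
    have hrp : ¬ r ∣ p := fun h => by
      have hrp := (Nat.prime_dvd_prime_iff_eq hr M.prime).1 h
      rcases hcase with ⟨-, h'⟩ | ⟨-, h'⟩
      · rw [hrp, ← hp] at h'
        exact M.prime.not_dvd_one ((Nat.dvd_add_right dvd_rfl).1 h')
      · have := Nat.dvd_sub h h'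
        rw [Nat.sub_sub_self M.prime.one_le] at this
        exact hr.not_dvd_one this
    rcases hcase with ⟨h4, hd⟩ | ⟨h4, hd⟩
    · refine ⟨2 * p * (p - 1) * Nat.card (Cfsg.oddCore (cen (σ ^ h))), ?_, ?_⟩
      · rw [hr.dvd_mul, hr.dvd_mul, hr.dvd_mul]
        have := hother _ (p - 1) hd (by omega)
        tauto
      · rw [M.card_eq, M.sq_sub_one, hT3 h4, ← hp]; ring
    · refine ⟨2 * p * (p + 1) * Nat.card (Cfsg.oddCore (cen (σ ^ h))), ?_, ?_⟩
      · rw [hr.dvd_mul, hr.dvd_mul, hr.dvd_mul]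
        have := hother _ (p + 1) hd (by omega)
        tauto
      · rw [M.card_eq, M.sq_sub_one, hT1 h4, ← hp]; ring
  have hTr : r ∣ Nat.card T := by
    rcases hcase with ⟨h4, hd⟩ | ⟨h4, hd⟩
    · rwa [hT3 h4]
    · rwa [hT1 h4]
  set v := (Nat.card T).factorization r with hv
  have hH : (Nat.card (cen (σ ^ h))).factorization r = v := by
    rw [hcard, factorization_mul_of_not_dvd hr Nat.card_pos.ne' hc]
  obtain ⟨R, hR, hRc⟩ := M.exists_lift hr hr2 hro T hT (Nat.ordProj_dvd _ r)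
  have hR1 : r ∣ Nat.card R := hRc ▸
    dvd_pow_self r (Nat.Prime.factorization_pos_of_dvd hr Nat.card_pos.ne' hTr).ne'
  obtain ⟨⟨x, hx⟩, hxo⟩ := exists_prime_orderOf_dvd_card' r hR1
  rw [Subgroup.orderOf_mk] at hxo
  have h1 := M.sylow_eq_of_comm_f hodd hone hr hr2 (hR hx) hxo
  have h2 : (Nat.card (cen (σ ^ (h / 2)))).factorization r = (Nat.card (cen (σ ^ h))).factorization r := by
    refine le_antisymm
      (((Nat.factorization_le_iff_dvd Nat.card_pos.ne' Nat.card_pos.ne').2 (card_dvd_of_le M.cen_f_le)) r) ?_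
    rw [hH, ← hr.pow_dvd_iff_le_factorization Nat.card_pos.ne', ← hRc]
    exact card_dvd_of_le hR
  refine ⟨by rw [← Nat.factorization_def _ hr, ← Nat.factorization_def _ hr, h1],
    by rw [← Nat.factorization_def _ hr, ← Nat.factorization_def _ hr, h2], fun hd => ?_⟩
  obtain ⟨⟨y, hy'⟩, hyo⟩ := exists_prime_orderOf_dvd_card' r hd
  rw [Subgroup.orderOf_mk] at hyo
  obtain ⟨hyf, hyt⟩ := hy'
  obtain ⟨ht2, ht1, hts, htc⟩ := M.τ_image
  set Y : cen (σ ^ h) := ⟨y, M.cen_f_le hyf⟩ with hY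
  have h4 : ρ Y ^ 4 = 1 := PGLTwo.pow_four_eq_one M.two hs hs2 hs1 ht2 ht1 hts htc
    (by rw [← map_mul, ← map_mul]; congr 1; exact Subtype.ext (mem_centralizer_singleton_iff.1 hyf))
    (by rw [← map_mul, ← map_mul]; congr 1; exact Subtype.ext (mem_centralizer_singleton_iff.1 hyt))
  have hYo : orderOf Y = r := by rw [hY, Subgroup.orderOf_mk]; exact hyo
  have h5' : ρ Y = 1 := by
    refine orderOf_eq_one_iff.1 (Nat.eq_one_of_dvd_coprimes
      (((Nat.coprime_primes hr Nat.prime_two).2 hr2).pow_right 2) ?_ (orderOf_dvd_of_pow_eq_one h4))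
    rw [← hYo]; exact orderOf_map_dvd ρ Y
  have h6 := Subgroup.orderOf_dvd_natCard ρ.ker (MonoidHom.mem_ker.2 h5')
  rw [hYo, M.kcard] at h6
  exact (hr.dvd_mul.1 h6).elim h2r hro

theorem val_three (h3 : Nat.card F = 3) :
    padicValNat 3 (Nat.card G) = padicValNat 3 (Nat.card (cen (σ ^ h))) ∧
      padicValNat 3 (Nat.card (cen (σ ^ (h / 2)))) + 1 = padicValNat 3 (Nat.card (cen (σ ^ h))) := by
  classical
  haveI : Fact (Nat.Prime 3) := ⟨Nat.prime_three⟩
  haveI : Fact (Nat.Prime 2) := ⟨Nat.prime_two⟩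
  have hr : Nat.Prime 3 := Nat.prime_three
  set O := Cfsg.oddCore (cen (σ ^ h)) with hO
  set a := (Nat.card O).factorization 3 with ha
  have hH : (Nat.card (cen (σ ^ h))).factorization 3 = a + 1 := by
    rw [M.card_eq, h3, show 2 * 3 * (3 ^ 2 - 1) * Nat.card O = 3 * Nat.card O * 16 by ring,
      factorization_mul_of_not_dvd hr (mul_ne_zero (by norm_num) Nat.card_pos.ne') (by norm_num),
      Nat.factorization_mul (by norm_num) Nat.card_pos.ne', Finsupp.add_apply, hr.factorization_self,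
      add_comm]
  -- the element of order four centralizes a Sylow subgroup of the core
  obtain ⟨R⟩ : Nonempty (Sylow 3 O) := inferInstance
  set R' : Subgroup (cen (σ ^ h)) := (R : Subgroup O).map O.subtype with hR'
  set N := normalizer (R' : Set (cen (σ ^ h))) with hN
  have hNO : N ⊔ O = ⊤ := Sylow.normalizer_sup_eq_top R
  haveI : IsCyclic R' := cyclic_sub M hodd hr (by norm_num) (φ := (cen (σ ^ h)).subtype.comp R'.subtype)
    ((cen (σ ^ h)).subtype_injective.comp R'.subtype_injective) (R.2.map O.subtype)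
  set W := Subgroup.centralizer (R' : Set (cen (σ ^ h))) with hW
  have hNW : ⁅N, N⁆ ≤ W := by
    rw [Subgroup.commutator_le]
    intro a ha b hb
    let c : N →* MulAut R' :=
      { toFun := fun n =>
          { toFun := fun x => ⟨(n : cen (σ ^ h)) * x * (n : cen (σ ^ h))⁻¹, (mem_normalizer_iff.1 n.2 x).1 x.2⟩
            invFun := fun x => ⟨((n⁻¹ : N) : cen (σ ^ h)) * x * ((n⁻¹ : N) : cen (σ ^ h))⁻¹,
              (mem_normalizer_iff.1 (n⁻¹).2 x).1 x.2⟩
            left_inv := fun x => Subtype.ext (by simp [mul_assoc])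
            right_inv := fun x => Subtype.ext (by simp [mul_assoc])
            map_mul' := fun x y => Subtype.ext (by simp [mul_assoc]) }
        map_one' := by ext x; simp
        map_mul' := fun m n => by ext x; simp [MulAut.mul_apply, mul_assoc] }
    have hker : (⁅(⟨a, ha⟩ : N), ⟨b, hb⟩⁆ : N) ∈ c.ker := by
      rw [MonoidHom.mem_ker, map_commutatorElement, commutatorElement_eq_one_iff_mul_comm]
      obtain ⟨g, hg⟩ := IsCyclic.exists_generator (α := R')
      ext x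
      obtain ⟨i, rfl⟩ := mem_zpowers_iff.1 (hg x)
      obtain ⟨ia, hia⟩ := mem_zpowers_iff.1 (hg (c ⟨a, ha⟩ g))
      obtain ⟨ib, hib⟩ := mem_zpowers_iff.1 (hg (c ⟨b, hb⟩ g))
      simp only [MulAut.mul_apply, map_zpow, ← hia, ← hib, ← zpow_mul]
      congr 2
      ring
    refine mem_centralizer_iff.2 fun x hx => ?_
    have h1 := congrArg Subtype.val (DFunLike.congr_fun (MonoidHom.mem_ker.1 hker) ⟨x, hx⟩)
    exact (mul_inv_eq_iff_eq_mul.1 h1).symm
  set π := QuotientGroup.mk' O with hπ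
  let f' : cen (σ ^ h) := ⟨σ ^ (h / 2), D.le_cen D.f_mem⟩
  obtain ⟨y, hyW, hy⟩ : ∃ y ∈ W, π y = π f' := by
    have h1 : π f' ∈ (commutator (cen (σ ^ h))).map π :=
      mem_map_of_mem π (D.f_mem_commutator (D.le_cen D.σ_mem) (D.le_cen D.τ_mem))
    have hNπ : N.map π = ⊤ := by
      have h1 := congrArg (Subgroup.map π) hNO
      rwa [Subgroup.map_sup, QuotientGroup.map_mk'_self, sup_bot_eq, ← MonoidHom.range_eq_map,
        MonoidHom.range_eq_top.2 (QuotientGroup.mk'_surjective O)] at h1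
    rw [_root_.commutator_def, Subgroup.map_commutator, ← MonoidHom.range_eq_map,
      MonoidHom.range_eq_top.2 (QuotientGroup.mk'_surjective O), ← hNπ, ← Subgroup.map_commutator] at h1
    obtain ⟨y, hy, e⟩ := h1
    exact ⟨y, hNW hy, e⟩
  set E : Subgroup (cen (σ ^ h)) := (zpowers (ρ f')).comap ρ with hE
  have hf4 : orderOf f' = 4 := by rw [Subgroup.orderOf_mk]; exact D.orderOf_f
  set o := Nat.card O with ho
  have hπρ : ∀ x x' : cen (σ ^ h), π x = π x' → ρ x = ρ x' := fun x x' e => by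
    have h1 := M.core (QuotientGroup.eq.1 e)
    rw [MonoidHom.mem_ker, map_mul, map_inv] at h1
    exact inv_mul_eq_one.1 h1
  have hyE : y ∈ E := by rw [mem_comap, hπρ y f' hy]; exact mem_zpowers _
  have hy4o : y ^ (4 * o) = 1 := by
    have h1 : y ^ 4 ∈ O := (QuotientGroup.eq_one_iff _).1 (show π (y ^ 4) = 1 by
      rw [map_pow, hy, ← map_pow, show f' ^ 4 = 1 by rw [← hf4]; exact pow_orderOf_eq_one f', map_one])
    rw [pow_mul]
    exact orderOf_dvd_iff_pow_eq_one.1 (Subgroup.orderOf_dvd_natCard O h1)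
  have hfac : (4 * o).factorization 2 = 2 := by
    rw [factorization_mul_of_not_dvd Nat.prime_two (by norm_num)
      (fun hd => Nat.not_even_iff_odd.2 M.odd_o (even_iff_two_dvd.2 hd)),
      show (4 : ℕ) = 2 ^ 2 by norm_num, Nat.Prime.factorization_pow Nat.prime_two, Finsupp.single_eq_same]
  let fE : E := ⟨f', M.f_mem_E⟩
  let Q : Sylow 2 E := Sylow.ofCard (zpowers fE) (by
    rw [Nat.card_zpowers, Subgroup.orderOf_mk, hf4, M.card_E, ← ho, hfac]; norm_num)
  let yE : E := ⟨y ^ o, pow_mem hyE o⟩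
  obtain ⟨j₂, -, hj₂⟩ : ∃ j ≤ 2, orderOf yE = 2 ^ j := (Nat.dvd_prime_pow Nat.prime_two).1
    (orderOf_dvd_of_pow_eq_one (Subtype.ext (by
      show (y ^ o) ^ (2 ^ 2) = 1
      rw [← pow_mul, mul_comm]
      exact hy4o)))
  obtain ⟨Q₂, hQ₂⟩ := (IsPGroup.of_card (n := j₂) (G := zpowers yE)
    (by rw [Nat.card_zpowers, hj₂])).exists_le_sylow
  obtain ⟨u, hu⟩ := MulAction.exists_smul_eq E Q₂ Q
  have hmem : u * yE * u⁻¹ ∈ zpowers fE := by
    have hQmap : (Q₂ : Subgroup E).map (MulAut.conj u).toMonoidHom = zpowers fE := by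
      show _ = (Q : Subgroup E)
      rw [← hu]; rfl
    rw [← hQmap]
    exact mem_map_of_mem (MulAut.conj u).toMonoidHom (hQ₂ (mem_zpowers _))
  obtain ⟨i, hi⟩ := mem_zpowers_iff.1 hmem
  have hiodd : ¬ (2 : ℤ) ∣ i := by
    rintro ⟨j, rfl⟩
    have h4 : fE ^ (4 : ℤ) = 1 := Subtype.ext (by
      rw [SubgroupClass.coe_zpow, show (4 : ℤ) = ((4 : ℕ) : ℤ) from rfl, zpow_natCast, ← hf4]
      exact pow_orderOf_eq_one f')
    have h1 : (u * yE * u⁻¹) ^ 2 = 1 := by
      rw [← hi, ← zpow_natCast (fE ^ (2 * j)) 2, ← zpow_mul, show 2 * j * ((2 : ℕ) : ℤ) = 4 * j by push_cast; ring, zpow_mul,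
        h4, one_zpow]
    rw [conj_pow, conj_eq_one_iff] at h1
    have h2 : y ^ (o * 2) = 1 := by rw [pow_mul]; exact congrArg Subtype.val h1
    have h3 : π (f' ^ (o * 2)) = 1 := by rw [map_pow, ← hy, ← map_pow, h2, map_one]
    obtain ⟨m, hm⟩ : Odd o := M.odd_o
    have h4' : f' ^ (o * 2) = f' ^ 2 := by
      rw [← pow_mod_orderOf f' (o * 2), hf4, show o * 2 % 4 = 2 by omega]
    rw [h4'] at h3
    have h5 := DGroup.odd_orderOf (M.odd_o) ((QuotientGroup.eq_one_iff _).1 h3)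
    rw [← Subgroup.orderOf_coe, show ((f' ^ 2 : cen (σ ^ h)) : G) = σ ^ h by
      rw [SubmonoidClass.coe_pow, pow_two]; exact D.f_sq, D.orderOf_z] at h5
    exact absurd h5 (by decide)
  have hfmem : fE ∈ zpowers (u * yE * u⁻¹) := by
    obtain ⟨j, hj⟩ : (2 : ℤ) ∣ i - 1 := by omega
    refine ⟨i, ?_⟩
    show (u * yE * u⁻¹) ^ i = fE
    rw [← hi, ← zpow_mul]
    conv_rhs => rw [← zpow_one fE]
    rw [zpow_eq_zpow_iff_modEq, Subgroup.orderOf_mk, hf4, Int.modEq_iff_dvd]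
    refine ⟨-(j * j + j), ?_⟩
    rw [show i = 2 * j + 1 by linarith]
    push_cast; ring
  set uH : cen (σ ^ h) := u.1 with huH
  set R₁ : Subgroup G := (R'.map (MulAut.conj uH).toMonoidHom).map (cen (σ ^ h)).subtype with hR₁
  have hR₁c : Nat.card R₁ = 3 ^ a := by
    rw [hR₁, card_map_of_injective (cen (σ ^ h)).subtype_injective,
      Nat.card_congr (R'.equivMapOfInjective (MulAut.conj uH).toMonoidHom (MulAut.conj uH).injective).symm.toEquiv,
      hR', card_map_of_injective O.subtype_injective, R.card_eq_multiplicity]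
  have hR₁f : R₁ ≤ cen (σ ^ (h / 2)) := by
    rintro _ ⟨_, ⟨x, hx, rfl⟩, rfl⟩
    obtain ⟨j, hj⟩ := mem_zpowers_iff.1 hfmem
    have hj' : (uH * y ^ o * uH⁻¹) ^ j = f' := congrArg (fun w : E => (w : cen (σ ^ h))) hj
    have hc : Commute (uH * x * uH⁻¹) (uH * y ^ o * uH⁻¹) := by
      have h1 : Commute x (y ^ o) := (mem_centralizer_iff.1 (pow_mem hyW o) x hx)
      show uH * x * uH⁻¹ * (uH * y ^ o * uH⁻¹) = uH * y ^ o * uH⁻¹ * (uH * x * uH⁻¹)
      rw [show uH * x * uH⁻¹ * (uH * y ^ o * uH⁻¹) = uH * (x * y ^ o) * uH⁻¹ by group, h1.eq]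
      group
    have hc' := hc.zpow_right j
    rw [hj'] at hc'
    exact mem_centralizer_singleton_iff.2 (congrArg (fun w : cen (σ ^ h) => (w : G)) hc'.eq)
  have hf3 : (Nat.card (cen (σ ^ (h / 2)))).factorization 3 = a := by
    refine le_antisymm ?_ ?_
    · obtain ⟨P⟩ : Nonempty (Sylow 3 (cen (σ ^ (h / 2)))) := inferInstance
      set P' : Subgroup (cen (σ ^ h)) := (P : Subgroup (cen (σ ^ (h / 2)))).map (inclusion M.cen_f_le) with hP'
      have hker : P' ≤ ρ.ker := by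
        intro x hx
        by_contra hne
        haveI : Nontrivial (P'.map ρ) := by
          rw [nontrivial_iff_ne_bot]
          exact fun e => hne (MonoidHom.mem_ker.2 (mem_bot.1 (e ▸ mem_map_of_mem ρ hx)))
        have hp3 : 3 ∣ Nat.card (P'.map ρ) := by
          obtain ⟨j, hj0, hj⟩ := ((P.2.map (inclusion M.cen_f_le)).map ρ).nontrivial_iff_card.1 inferInstance
          rw [hj]; exact dvd_pow_self 3 (by omega)
        obtain ⟨⟨w, hw⟩, hwo⟩ := exists_prime_orderOf_dvd_card' 3 hp3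
        rw [Subgroup.orderOf_mk] at hwo
        obtain ⟨_, ⟨t, -, rfl⟩, rfl⟩ := hw
        refine M.not_comm_order_p (hwo.trans h3.symm) ?_
        rw [← map_mul, ← map_mul]
        congr 1
        exact Subtype.ext (mem_centralizer_singleton_iff.1 t.2)
      have h1 := card_dvd_of_le hker
      rw [hP', card_map_of_injective (inclusion_injective _), M.kcard, P.card_eq_multiplicity,
        hr.pow_dvd_iff_le_factorization (mul_ne_zero two_ne_zero Nat.card_pos.ne'), mul_comm,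
        factorization_mul_of_not_dvd hr Nat.card_pos.ne' (by norm_num)] at h1
      exact h1
    · rw [← hr.pow_dvd_iff_le_factorization Nat.card_pos.ne', ← hR₁c]
      exact card_dvd_of_le hR₁f
  refine ⟨?_, by rw [← Nat.factorization_def _ hr, ← Nat.factorization_def _ hr, hf3, hH]⟩
  rw [← Nat.factorization_def _ hr, ← Nat.factorization_def _ hr]
  rcases Nat.eq_zero_or_pos a with ha0 | ha0
  · have hro : ¬ 3 ∣ o := fun hd => by
      have := Nat.Prime.factorization_pos_of_dvd hr Nat.card_pos.ne' hd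
      omega
    obtain ⟨⟨x, hx⟩, hxo⟩ := exists_prime_orderOf_dvd_card' (G := cen (σ ^ h)) 3
      (Nat.dvd_of_factorization_pos (by omega))
    rw [Subgroup.orderOf_mk] at hxo
    refine GWApps.SDCyclic.sylow_eq hone (by norm_num) (hodd 3 hr (by norm_num)) D.orderOf_z hxo hx
      fun T hT hTx _ w hw v hv hwc hvc hwo hvo => ?_
    -- here the centralizer of `x` has two-part two
    obtain ⟨c, hc⟩ := isConj_iff.1 (hone w (σ ^ h) hwo D.orderOf_z)
    have hcH : ∀ t ∈ T, c * t * c⁻¹ ∈ cen (σ ^ h) := fun t ht => mem_centralizer_singleton_iff.2 (by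
      rw [← hc]
      calc c * t * c⁻¹ * (c * w * c⁻¹) = c * (t * w) * c⁻¹ := by group
        _ = c * (w * t) * c⁻¹ := by rw [hwc t ht]
        _ = _ := by group)
    have hxw : x * w = w * x := (mem_centralizer_singleton_iff.1 (hTx hw)).symm
    have hxH : c * x * c⁻¹ ∈ cen (σ ^ h) := mem_centralizer_singleton_iff.2 (by
      rw [← hc]
      calc c * x * c⁻¹ * (c * w * c⁻¹) = c * (x * w) * c⁻¹ := by group
        _ = c * (w * x) * c⁻¹ := by rw [hxw]
        _ = _ := by group)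
    let ι : T →* cen (σ ^ h) :=
      MonoidHom.mk' (fun t => ⟨c * t * c⁻¹, hcH t t.2⟩) fun t t' => Subtype.ext (by simp [mul_assoc])
    have hι : Function.Injective ι := fun t t' e => Subtype.ext (by
      have h' : c * (t : G) * c⁻¹ = c * (t' : G) * c⁻¹ := congrArg Subtype.val e
      simpa using h')
    have hxo' : orderOf (⟨c * x * c⁻¹, hxH⟩ : cen (σ ^ h)) = 3 := by
      rw [Subgroup.orderOf_mk, ← hxo]; exact MulEquiv.orderOf_eq (MulAut.conj c) x
    have hx3 : orderOf (ρ ⟨c * x * c⁻¹, hxH⟩) = 3 := by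
      refine orderOf_eq_prime ?_ fun h1 => ?_
      · rw [← map_pow, ← hxo', pow_orderOf_eq_one, map_one]
      · have h2 := Subgroup.orderOf_dvd_natCard ρ.ker (MonoidHom.mem_ker.2 h1)
        rw [hxo', M.kcard] at h2
        exact (hr.dvd_mul.1 h2).elim (by norm_num) hro
    haveI : Fact (Nat.card F).Prime := ⟨M.prime⟩
    have hle : ι.range ≤ ρ.ker := by
      rintro _ ⟨t, rfl⟩
      rw [MonoidHom.mem_ker, ← orderOf_eq_one_iff]
      obtain ⟨k, hk⟩ := IsPGroup.iff_orderOf.1 hT t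
      have hcomm : ρ (ι t) * ρ ⟨c * x * c⁻¹, hxH⟩ = ρ ⟨c * x * c⁻¹, hxH⟩ * ρ (ι t) := by
        rw [← map_mul, ← map_mul]
        congr 1
        refine Subtype.ext ?_
        show c * (t : G) * c⁻¹ * (c * x * c⁻¹) = c * x * c⁻¹ * (c * t * c⁻¹)
        calc c * (t : G) * c⁻¹ * (c * x * c⁻¹) = c * ((t : G) * x) * c⁻¹ := by group
          _ = c * (x * t) * c⁻¹ := by rw [mem_centralizer_singleton_iff.1 (hTx t.2)]
          _ = _ := by group
      have h1 := Subgroup.orderOf_dvd_natCard _ (mem_centralizer_singleton_iff.2 hcomm)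
      rw [PGLTwo.card_centralizer_unip (hx3.trans h3.symm), h3] at h1
      refine Nat.eq_one_of_dvd_coprimes (((Nat.coprime_primes Nat.prime_two hr).2 (by norm_num)).pow_left k) ?_ h1
      exact (orderOf_map_dvd ρ (ι t)).trans ((orderOf_map_dvd ι t).trans (dvd_of_eq hk))
    obtain ⟨k, hk⟩ := IsPGroup.iff_card.1 hT
    have hk1 : Nat.card T ∣ 2 * o := by
      rw [Nat.card_congr (MonoidHom.ofInjective hι).toEquiv]
      exact (card_dvd_of_le hle).trans (dvd_of_eq M.kcard)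
    have hT2 : Nat.card T ≤ 2 := by
      rw [hk] at hk1 ⊢
      by_contra hlt
      have hk2 : 2 ≤ k := by
        by_contra
        exact hlt ((Nat.pow_le_pow_right two_pos (show k ≤ 1 by omega)).trans_eq (pow_one 2))
      exact Nat.not_even_iff_odd.2 M.odd_o (even_iff_two_dvd.2
        ((Nat.mul_dvd_mul_iff_left two_pos).1 (((pow_dvd_pow 2 hk2)).trans hk1)))
    by_contra hne
    have h5 : ({1, ⟨w, hw⟩, ⟨v, hv⟩} : Set T).ncard = 3 := by
      refine Set.ncard_eq_three.2 ⟨_, _, _, fun e => ?_, fun e => ?_, fun e => hne ?_, rfl⟩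
      · rw [show w = 1 from (congrArg Subtype.val e).symm, orderOf_one] at hwo; omega
      · rw [show v = 1 from (congrArg Subtype.val e).symm, orderOf_one] at hvo; omega
      · exact congrArg Subtype.val e
    have h6 := Set.ncard_le_card ({1, ⟨w, hw⟩, ⟨v, hv⟩} : Set T)
    omega
  · have h1 : 3 ∣ Nat.card R₁ := hR₁c ▸ dvd_pow_self 3 (by omega)
    obtain ⟨⟨x, hx⟩, hxo⟩ := exists_prime_orderOf_dvd_card' 3 h1
    rw [Subgroup.orderOf_mk] at hxo
    exact M.sylow_eq_of_comm_f hodd hone hr (by norm_num) (hR₁f hx) hxo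

end Map

/-- **The local facts.** -/
theorem local_facts (hGW : CfsgLib.GWApps.Statement.{u}) {G : Type u} [Group G] [Finite G]
    [Group.IsPerfect G] (hodd : OddCyclic G) {S : Sylow 2 G} {σ τ : G} {h : ℕ} (D : Gen S σ τ h) :
    ∃ p o, LocalFacts σ τ h p o := by
  obtain ⟨F, iF, iFin, ρ, hp, hp2, h2, hsurj, hcore, hz, hk⟩ := exists_map hGW hodd D
  have M : Map D ρ := ⟨hp, hp2, h2, hsurj, hcore, hz, hk⟩
  have hone : ∀ a b : G, orderOf a = 2 → orderOf b = 2 → IsConj a b := fun _ _ => D.isConj_invol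
  exact ⟨Nat.card F, Nat.card (Cfsg.oddCore (cen (σ ^ h))),
    { prime := hp
      ne_two := hp2
      odd_o := M.odd_o
      card_cen := M.card_eq
      h_eq := M.h_eq
      borel := M.borel
      val_p := M.val_p hodd hone
      val_three := M.val_three hodd hone
      val_torus := fun h5 s hs hs2 hc => M.val_torus hodd hone h5 hs hs2 hc }⟩

end CfsgLib.AlmostZ
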