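import Cfsg.Agent.AlmostZ.Defs
import Cfsg.Agent.BlocksB.SemidihedralDefect.Main
import Cfsg.Agent.BlocksB.Cyclic.PrimeOrder
import Cfsg.Agent.BlocksB.DihedralPrincipal.Facts
import Cfsg.Agent.GWApps.Tools

/-!
# The principal 2-block with a semidihedral Sylow subgroup as a block with semidihedral defect
-/

set_option autoImplicit false
set_option linter.style.haveILetI false
set_option linter.unusedSectionVars false

namespace CfsgLib.AlmostZ

open Cfsg Finset CfsgLib.Block CfsgLib.Block.Chr CfsgLib.BrauerPairs CfsgLib.BlockStar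
  CfsgLib.BlockB CfsgLib.Cyclic CfsgLib.SDDefect CfsgLib.Char
open CfsgLib.DihDefect (om)
open scoped ComplexConjugate
open scoped Classical

universe u

variable {M : Ideal AlgInt} [M.IsPrime] [Fact (Nat.Prime 2)] [CharP (Residue M) 2]
  {G : Type u} [Group G] [Fintype G] {S : Sylow 2 G} {σ τ : G} {h : ℕ}

local notation "𝕜" => Residue M
local notation "Z[" x "]" => Subgroup.zpowers x
local notation "C[" Q "]" => Subgroup.centralizer (SetLike.coe Q)

/-- The idempotent of the maximal principal pair. -/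
noncomputable abbrev pe (M : Ideal AlgInt) [M.IsPrime] (S : Sylow 2 G) :
    MonoidAlgebra (Residue M) G :=
  prin (Residue M) C[(S : Subgroup G)]

/-- The principal block as a block with semidihedral defect group. -/
theorem Gen.sdData (D : Gen S σ τ h) (hM : IsPModular 2 M) :
    SDData (M := M) (principalBlock M G) (S : Subgroup G) (pe M S) σ τ h where
  hM := hM
  hB := isPBlock_principal
  hmax := by rw [idem_principal hM]; exact isMaxPair_prin S
  hh := D.hh
  ordσ := D.ordσ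
  ordτ := D.ordτ
  rel := D.rel
  σ_mem := D.σ_mem
  τ_mem := D.τ_mem
  cases := D.cases
  card := D.card
  τ_not := D.τ_not
  defect := by
    have hmax : IsMaxPair 2 (idem M (principalBlock M G)) ((S : Subgroup G), pe M S) := by
      rw [idem_principal hM]; exact isMaxPair_prin S
    have hD : IsDefectGroup 2 M (principalBlock M G) (S : Subgroup G) :=
      isDefectGroup_of_isDef hM isPBlock_principal (hmax.isDef (isBlk_idem hM isPBlock_principal))
    rw [← D.card, card_defectGroup hM isPBlock_principal hD]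

namespace Gen

variable (D : Gen S σ τ h)
include D

/-- The subsections of the principal block are the principal ones. -/
theorem subBlk_eq (hM : IsPModular 2 M) {u : G} (hu : u ∈ (S : Subgroup G)) :
    subBlk 2 (S : Subgroup G) (pe M S) u = prin 𝕜 C[Z[u]] := by
  have S' := D.sdData hM
  have h1 := (isPairOf_iff_of_ple (isBlk_idem hM S'.hB) (subBlk_ple S'.pair hu) S'.pair).2
    S'.hmax.1
  rw [idem_principal hM] at h1
  exact (isPairOf_prin_iff.1 h1).2

theorem isBlk_sub (hM : IsPModular 2 M) {u : G} (hu : u ∈ (S : Subgroup G)) :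
    IsBlk 𝕜 C[Z[u]] (subBlk 2 (S : Subgroup G) (pe M S) u) :=
  (PLE.isPair (subBlk_ple (D.sdData hM).pair hu) (D.sdData hM).pair).2

/-- Values of the members on the sections. -/
theorem val_eq (hM : IsPModular 2 M) {χ : IrrCharacter G} (hχ : χ ∈ principalBlock M G) {u s : G}
    (hu : u ∈ (S : Subgroup G)) (hs : PElt 2 u s) :
    val χ u s (subBlk 2 (S : Subgroup G) (pe M S) u) = (χ : G → ℂ) (u * s) := by
  rw [← wsum_const_one (M := M) hM χ hs, wsum,
    sum_eq_single (subBlk 2 (S : Subgroup G) (pe M S) u)]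
  · rw [br_one, one_mul, one_mul]
  · intro f hf hfne
    rw [br_one, one_mul, one_mul,
      val_eq_zero_of_not_pair hM isPBlock_principal hχ hs (mem_blks.1 hf) fun hp' => hfne ?_]
    rw [idem_principal hM] at hp'
    rw [D.subBlk_eq hM hu, (isPairOf_prin_iff.1 hp').2]
  · intro hn'
    exact absurd (mem_blks.2 (D.isBlk_sub hM hu)) hn'

/-- Characters outside the block vanish on its subsections. -/
theorem val_eq_zero (hM : IsPModular 2 M) {χ : IrrCharacter G} (hχ : χ ∉ principalBlock M G)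
    {u s : G} (hu : u ∈ (S : Subgroup G)) (hs : PElt 2 u s) :
    val χ u s (subBlk 2 (S : Subgroup G) (pe M S) u) = 0 := by
  refine val_eq_zero_of_not_pair hM (isPBlock_blockOf χ) (mem_blockOf_self χ) hs
    (D.isBlk_sub hM hu) fun hp => hχ ?_
  have S' := D.sdData hM
  have h1 := (isPairOf_iff_of_ple (isBlk_idem hM (isPBlock_blockOf χ)) (subBlk_ple S'.pair hu)
    S'.pair).1 hp
  have h2 := S'.hmax.1
  have h3 : idem M (blockOf M (χ : G → ℂ)) = idem M (principalBlock M G) :=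
    (existsUnique_isPairOf h2.1).unique ⟨isBlk_idem hM (isPBlock_blockOf χ), h1⟩
      ⟨isBlk_idem hM S'.hB, h2⟩
  exact idem_injective (isPBlock_blockOf χ) S'.hB h3 ▸ mem_blockOf_self χ

theorem rot_sq_ne' {i : ℕ} (hi : i < 2 * h) (hi0 : i ≠ 0) (hih : i ≠ h) :
    σ ^ i * σ ^ i ≠ 1 := fun h1 => by
  rw [← pow_add] at h1
  have h2 := orderOf_dvd_of_pow_eq_one h1
  rw [D.ordσ] at h2
  obtain ⟨c, hc⟩ := h2
  rcases Nat.lt_or_ge c 2 with hc2 | hc2
  · interval_cases c <;> omega
  · have := Nat.mul_le_mul_left (2 * h) hc2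
    omega

/-- A Sylow 2-subgroup of the centralizer of a rotation. -/
theorem exists_cyclic_sylow (hM : IsPModular 2 M) {i : ℕ} (hi : i < 2 * h) (hi0 : i ≠ 0)
    (hih : i ≠ h) : ∃ R : Sylow 2 (Subgroup.centralizer ({σ ^ i} : Set G)),
      IsCyclic R ∧ Nat.card R = 2 * h := by
  have S' := D.sdData hM
  set u := σ ^ i
  have hA : Z[σ] ≤ Subgroup.centralizer ({u} : Set G) := Subgroup.zpowers_le.2
    (Subgroup.mem_centralizer_singleton_iff.2 ((Commute.refl σ).pow_right i).eq)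
  set A' := Z[σ].subgroupOf (Subgroup.centralizer ({u} : Set G))
  have hA' : Nat.card A' = 2 * h := by
    rw [Nat.card_congr (Subgroup.subgroupOfEquivOfLe hA).toEquiv, Nat.card_zpowers, D.ordσ]
  obtain ⟨k, hk⟩ := D.hh
  have hAp : IsPGroup 2 A' := IsPGroup.of_card (n := k + 3) (by rw [hA', hk]; ring)
  obtain ⟨R, hR⟩ := hAp.exists_le_sylow
  obtain ⟨R', hR'⟩ := (R.2.map (Subgroup.centralizer ({u} : Set G)).subtype).exists_le_sylow
  obtain ⟨g, hg⟩ := MulAction.exists_smul_eq G R' S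
  have hmem : ∀ r : Subgroup.centralizer ({u} : Set G), r ∈ (R : Subgroup _) →
      g * (r : G) * g⁻¹ ∈ (S : Subgroup G) := fun r hr => by
    rw [← hg, Sylow.smul_def, Sylow.pointwise_smul_def]
    exact Subgroup.smul_mem_pointwise_smul _ (MulAut.conj g) _ (hR' ⟨r, hr, rfl⟩)
  have hσS : g * σ * g⁻¹ ∈ (S : Subgroup G) :=
    hmem ⟨σ, hA (Subgroup.mem_zpowers σ)⟩ (hR (Subgroup.mem_subgroupOf.2 (Subgroup.mem_zpowers σ)))
  have hσZ : g * σ * g⁻¹ ∈ Z[σ] := by
    by_contra hn
    obtain ⟨j, hj⟩ := S'.exists_refl hσS hn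
    have h4 : (g * σ * g⁻¹) * (g * σ * g⁻¹) * ((g * σ * g⁻¹) * (g * σ * g⁻¹)) = 1 := by
      rw [hj]
      rcases em (2 ∣ j) with he | he
      · rw [S'.refl_sq_even he, one_mul]
      · rw [S'.refl_sq_odd he]; exact S'.z_sq
    have h5 : σ * σ * (σ * σ) = 1 := by
      have : g * (σ * σ * (σ * σ)) * g⁻¹ = 1 := by rw [← h4]; group
      exact conj_eq_one_iff.1 this
    have h6 : σ ^ (4 : ℕ) = 1 := by rw [← h5, pow_succ, pow_succ, pow_succ, pow_one]; simp only [mul_assoc]
    have h7 := Nat.le_of_dvd (by norm_num) (orderOf_dvd_of_pow_eq_one h6)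
    rw [D.ordσ] at h7
    have := S'.four_le
    omega
  have huZ : g * u * g⁻¹ ∈ Z[σ] := by
    rw [show g * u * g⁻¹ = (g * σ * g⁻¹) ^ i from (conj_pow).symm]
    exact Subgroup.pow_mem _ hσZ i
  have hu2 : (g * u * g⁻¹) * (g * u * g⁻¹) ≠ 1 := by
    rw [show g * u * g⁻¹ * (g * u * g⁻¹) = g * (u * u) * g⁻¹ by group]
    exact fun e1 => D.rot_sq_ne' hi hi0 hih (conj_eq_one_iff.1 e1)
  have hle : ∀ r : Subgroup.centralizer ({u} : Set G), r ∈ (R : Subgroup _) →
      g * (r : G) * g⁻¹ ∈ Z[σ] := fun r hr => by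
    have h1 : g * (r : G) * g⁻¹ ∈ ((S : Subgroup G) ⊓ C[Z[g * u * g⁻¹]] : Subgroup G) := by
      refine ⟨hmem r hr, mem_cz.2 ?_⟩
      have h2 := Subgroup.mem_centralizer_singleton_iff.1 r.2
      calc g * (r : G) * g⁻¹ * (g * u * g⁻¹) = g * ((r : G) * u) * g⁻¹ := by group
        _ = g * (u * (r : G)) * g⁻¹ := by rw [h2]
        _ = g * u * g⁻¹ * (g * (r : G) * g⁻¹) := by group
    rwa [S'.inf_centralizer_rot huZ hu2] at h1
  let φ : (R : Subgroup (Subgroup.centralizer ({u} : Set G))) →* Z[σ] := MonoidHom.mk'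
    (fun r => ⟨g * ((r : Subgroup.centralizer ({u} : Set G)) : G) * g⁻¹, hle r r.2⟩)
    fun a b => Subtype.ext (by push_cast; group)
  have hφ : Function.Injective φ := fun a b e1 => by
    have := congrArg Subtype.val e1
    exact Subtype.ext (Subtype.ext (mul_left_cancel (mul_right_cancel this)))
  refine ⟨R, isCyclic_of_injective φ hφ, le_antisymm ?_ ?_⟩
  · have := Nat.card_le_card_of_injective φ hφ
    rwa [Nat.card_zpowers, D.ordσ] at this
  · rw [← hA']; exact Subgroup.card_le_of_le hR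

theorem index_core_rot (hM : IsPModular 2 M) {i : ℕ} (hi : i < 2 * h) (hi0 : i ≠ 0)
    (hih : i ≠ h) : (CfsgLib.SectionCount.core 2 (σ ^ i)).index = 2 * h := by
  obtain ⟨R, hR, hcard⟩ := D.exists_cyclic_sylow hM hi hi0 hih
  haveI := hR
  obtain ⟨P, N, hN, hc⟩ := LocalB.HSub.hasNormalPComplement_of_cyclic (p := 2)
    (fun q hq _ => hq.two_le) R hR
  haveI := hN
  have hidx : N.index = 2 * h := hc.symm.index_eq_card.trans
    ((Nat.card_congr (Sylow.equiv P R).toEquiv).trans hcard)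
  obtain ⟨k, hk⟩ := D.hh
  have h2 : N.index = 2 ^ (k + 3) := by rw [hidx, hk]; ring
  have hcop : (Nat.card N).Coprime 2 := by
    have h1 : (P : Subgroup (Subgroup.centralizer ({σ ^ i} : Set G))).index = Nat.card N :=
      hc.index_eq_card
    rw [← h1]
    exact (Nat.prime_two.coprime_iff_not_dvd.2 P.not_dvd_index).symm
  rw [CfsgLib.DihPrincipal.core_index N hcop h2, ← h2, hidx]

theorem rot_order (i : ℕ) : ∃ k, orderOf (σ ^ i) = 2 ^ k := by
  obtain ⟨k, hk⟩ := IsPGroup.iff_orderOf.1 S.2 ⟨σ ^ i, Subgroup.pow_mem _ D.σ_mem i⟩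
  exact ⟨k, by rw [← hk, Subgroup.orderOf_mk]⟩

/-- A regular element of the centralizer of a rotation lies in its core. -/
theorem mem_core (hM : IsPModular 2 M) {i : ℕ} (hi : i < 2 * h) (hi0 : i ≠ 0) (hih : i ≠ h)
    {s : Subgroup.centralizer ({σ ^ i} : Set G)} (hs : ¬ 2 ∣ orderOf s) :
    s ∈ CfsgLib.SectionCount.core 2 (σ ^ i) := by
  haveI := CfsgLib.Solvable.pPrimeCore_normal
    (G := Subgroup.centralizer ({σ ^ i} : Set G)) 2
  obtain ⟨k, hk⟩ := D.hh
  set π := QuotientGroup.mk' (CfsgLib.SectionCount.core 2 (σ ^ i))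
  have h1 : orderOf (π s) ∣ 2 ^ (k + 3) := by
    have h2 := orderOf_dvd_natCard (π s)
    rwa [← Subgroup.index_eq_card, D.index_core_rot hM hi hi0 hih, hk,
      show 2 * 2 ^ (k + 2) = 2 ^ (k + 3) by ring] at h2
  obtain ⟨j, -, hj⟩ := (Nat.dvd_prime_pow Nat.prime_two).1 h1
  rcases j with _ | j
  · exact (QuotientGroup.eq_one_iff s).1 (orderOf_eq_one_iff.1 (hj.trans (pow_zero 2)) :)
  · exact absurd (((dvd_pow_self 2 (Nat.succ_ne_zero j)).trans hj.symm.dvd).trans
      (orderOf_map_dvd π s)) hs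

/-- Values of the members on the section of a rotation. -/
theorem apply_rot_mul (hM : IsPModular 2 M) {χ : IrrCharacter G} (hχ : χ ∈ principalBlock M G)
    {i : ℕ} (hi : i < 2 * h) (hi0 : i ≠ 0) (hih : i ≠ h) {s : G} (hs : PElt 2 (σ ^ i) s) :
    (χ : G → ℂ) (σ ^ i * s) = (χ : G → ℂ) (σ ^ i) := by
  obtain ⟨k, hk⟩ := D.rot_order i
  have hsC : s ∈ Subgroup.centralizer ({σ ^ i} : Set G) :=
    Subgroup.mem_centralizer_singleton_iff.2 hs.comm.eq.symm
  refine principal_apply_mul_core hM hk ?_ hχ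
  refine ⟨⟨s, hsC⟩, D.mem_core hM hi hi0 hih ?_, rfl⟩
  rw [Subgroup.orderOf_mk]
  exact hs.reg

end Gen

/-- The values of the members of the principal block at the rotations. -/
noncomputable def rotVal (M : Ideal AlgInt) [M.IsPrime] (σ : G) (χ : IrrCharacter G) (i : ℕ) : ℂ :=
  if χ ∈ principalBlock M G then (χ : G → ℂ) (σ ^ i) else 0

theorem rotVal_of_mem {χ : IrrCharacter G} (hχ : χ ∈ principalBlock M G) (i : ℕ) :
    rotVal M σ χ i = (χ : G → ℂ) (σ ^ i) := if_pos hχ

namespace Gen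

variable (D : Gen S σ τ h)
include D

/-- **The values of the members at the rotations serve as rotation values.** -/
theorem rotVals (hM : IsPModular 2 M) : RotVals (D.sdData hM) (rotVal M σ) := by
  have S' := D.sdData hM
  refine ⟨fun χ ψ i hi hi0 hih => ?_, fun χ i hi => ?_, fun χ j => ?_⟩
  · have hu : σ ^ i ∈ (S : Subgroup G) := Subgroup.pow_mem _ D.σ_mem i
    have hP : ∀ s ∈ univ.filter (fun s : G => s ∈ C[Z[σ ^ i]] ∧ ¬ 2 ∣ orderOf s),
        PElt 2 (σ ^ i) s := fun s hs => by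
      obtain ⟨-, h1, h2⟩ := mem_filter.1 hs
      exact ⟨mem_pSet.1 (mem_pSet_of_mem S'.pair hu), h2, (mem_cz.1 h1).symm⟩
    have hval : ∀ (φ : IrrCharacter G),
        ∀ s ∈ univ.filter (fun s : G => s ∈ C[Z[σ ^ i]] ∧ ¬ 2 ∣ orderOf s),
        val φ (σ ^ i) s (subBlk 2 (S : Subgroup G) (pe M S) (σ ^ i)) = rotVal M σ φ i :=
      fun φ s hs => by
      by_cases hφ : φ ∈ principalBlock M G
      · rw [D.val_eq hM hφ hu (hP s hs), rotVal_of_mem hφ,
          D.apply_rot_mul hM hφ hi hi0 hih (hP s hs)]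
      · rw [D.val_eq_zero hM hφ hu (hP s hs), rotVal, if_neg hφ]
    rw [contribR, sum_congr rfl fun s hs => by rw [hval χ s hs, hval ψ s hs], sum_const,
      nsmul_eq_mul]
    have hC : C[Z[σ ^ i]] = Subgroup.centralizer ({σ ^ i} : Set G) :=
      CfsgLib.BlockB.centralizer_zpowers_eq _
    have hcount : (univ.filter (fun s : G => s ∈ C[Z[σ ^ i]] ∧ ¬ 2 ∣ orderOf s)).card =
        Nat.card (CfsgLib.SectionCount.core 2 (σ ^ i)) := by
      rw [Nat.card_eq_fintype_card, ← card_univ]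
      refine (card_bij (s := (univ : Finset (CfsgLib.SectionCount.core 2 (σ ^ i))))
        (fun s _ => ((s : Subgroup.centralizer ({σ ^ i} : Set G)) : G)) (fun s _ => ?_)
        (fun _ _ _ _ e1 => Subtype.ext (Subtype.ext e1)) fun s hs => ?_).symm
      · refine mem_filter.2 ⟨mem_univ _, by rw [hC]; exact s.1.2, ?_⟩
        rw [Subgroup.orderOf_coe]
        exact CfsgLib.SectionCount.not_dvd_orderOf Nat.prime_two s.2
      · obtain ⟨-, h1, h2⟩ := mem_filter.1 hs
        rw [hC] at h1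
        exact ⟨⟨⟨s, h1⟩, D.mem_core hM hi hi0 hih (by rwa [Subgroup.orderOf_mk])⟩, mem_univ _, rfl⟩
    rw [hcount, hC, ← (CfsgLib.SectionCount.core 2 (σ ^ i)).card_mul_index,
      D.index_core_rot hM hi hi0 hih]
    push_cast
    have h0 : (Nat.card (CfsgLib.SectionCount.core 2 (σ ^ i)) : ℂ) ≠ 0 :=
      Nat.cast_ne_zero.2 Nat.card_pos.ne'
    field_simp
  · rw [rotVal, rotVal]
    split_ifs with hχ
    · rw [← S'.τ_sw i]
      exact (isClassFunction_irr χ) (σ ^ i) τ
    · rfl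
  · by_cases hχ : χ ∈ principalBlock M G
    swap
    · exact ⟨0, by simp [rotVal, hχ]⟩
    haveI := Fintype.ofFinite Z[σ]
    have hh := S'.h_pos
    have hω := CfsgLib.DihDefect.om_spec hh
    have hg := IsGeneralized.comp (CfsgLib.Char.IsIrrCharacter.isGeneralized χ.2) Z[σ].subtype
    have hω' : IsPrimitiveRoot (om h)⁻¹ (orderOf σ) := by rw [D.ordσ]; exact hω.inv
    obtain ⟨μ, hμ⟩ := CfsgLib.DihPrincipal.exists_chr hω' j
    obtain ⟨a, ha⟩ := IsGeneralized.exists_classInner_eq_int hg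
      (IsIrrCharacter.isGeneralized (linearCharEquiv μ).1.2)
    refine ⟨a, ?_⟩
    rw [← ha, CfsgLib.Char.classInner_def, ← mul_assoc, Nat.card_zpowers, D.ordσ,
      mul_inv_cancel₀ (Nat.cast_ne_zero.2 (by omega)), one_mul]
    refine sum_bij (fun i _ => (⟨σ ^ i, Subgroup.npow_mem_zpowers σ i⟩ : Z[σ]))
      (fun _ _ => mem_univ _) (fun a ha b hb e1 => ?_) (fun x _ => ?_) (fun i _ => ?_)
    · rw [mem_range] at ha hb
      exact S'.pow_inj ha hb (congrArg Subtype.val e1)
    · obtain ⟨i, hi, hi'⟩ := S'.exists_pow x.2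
      exact ⟨i, mem_range.2 hi, Subtype.ext hi'⟩
    · show _ = (χ : G → ℂ) (σ ^ i) *
        conj ((μ ⟨σ ^ i, Subgroup.npow_mem_zpowers σ i⟩ : ℂˣ) : ℂ)
      rw [rotVal_of_mem hχ, hμ, Complex.inv_eq_conj (hω.norm'_eq_one (by omega))]
      simp only [map_pow, Complex.conj_conj]
      rw [mul_comm j i]

end Gen

end CfsgLib.AlmostZ
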