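import Cfsg.Agent.AlmostZ.Centre
import Cfsg.Agent.AlmostZ.Count
import Cfsg.Agent.Char.Linear

/-!
# The table of the principal block: degrees and the class equation
-/

set_option autoImplicit false
set_option linter.style.haveILetI false
set_option linter.unusedSectionVars false
set_option linter.unusedSimpArgs false
set_option maxHeartbeats 1000000

namespace CfsgLib.AlmostZ

open Cfsg Finset CfsgLib.Block CfsgLib.Block.Chr CfsgLib.SDDefect CfsgLib.Char
  CfsgLib.BlockB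
open CfsgLib.DihDefect (om om_spec sum_om)
open scoped ComplexConjugate
open scoped Classical

universe u

/-- Four pairs of signs with vanishing sums show every pair. -/
theorem exists_type {ι : Type*} {Z : Finset ι} {x y : ι → ℤ} (hx : ∀ i ∈ Z, x i * x i = 1)
    (hy : ∀ i ∈ Z, y i * y i = 1) (h4 : Z.card = 4) (sx : ∑ i ∈ Z, x i = 0)
    (sy : ∑ i ∈ Z, y i = 0) (sxy : ∑ i ∈ Z, x i * y i = 0) {ε η : ℤ} (hε : ε * ε = 1)
    (hη : η * η = 1) : ∃ i ∈ Z, x i = ε ∧ y i = η := by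
  have h1 : ∑ i ∈ Z, (1 + ε * x i) * (1 + η * y i) = 4 := by
    have : ∀ i, (1 + ε * x i) * (1 + η * y i) = 1 + ε * x i + η * y i + ε * η * (x i * y i) :=
      fun i => by ring
    simp only [this, sum_add_distrib, ← mul_sum, sx, sy, sxy, mul_zero, add_zero, sum_const, h4]
    rfl
  obtain ⟨i, hi, hne⟩ := exists_ne_zero_of_sum_ne_zero
    (show ∑ i ∈ Z, (1 + ε * x i) * (1 + η * y i) ≠ 0 by rw [h1]; norm_num)
  obtain ⟨n1, n2⟩ := mul_ne_zero_iff.1 hne
  refine ⟨i, hi, ?_, ?_⟩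
  · rcases mul_self_eq_one_iff.1 (hx i hi) with e | e <;>
      rcases mul_self_eq_one_iff.1 hε with e' | e' <;> simp_all
  · rcases mul_self_eq_one_iff.1 (hy i hi) with e | e <;>
      rcases mul_self_eq_one_iff.1 hη with e' | e' <;> simp_all

variable {M : Ideal AlgInt} [M.IsPrime] [Fact (Nat.Prime 2)] [CharP (Residue M) 2]
  {G : Type u} [Group G] [Fintype G]

section eval

variable {B : Set (IrrCharacter G)} {P : Subgroup G} {e : MonoidAlgebra (Residue M) G}
  {σ τ : G} {h : ℕ} {S : SDData (M := M) B P e σ τ h} {av : IrrCharacter G → ℕ → ℂ}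

/-- A weighted sum of values at a rotation. -/
theorem sum_av_eval [Fintype B] (V : RotVals S av) (F : B → ℂ) {P₀ R : ℂ}
    (h0 : ∑ χ, F χ * (V.A0 χ.1 : ℂ) = P₀)
    (hA : ∀ l ∈ Ico 1 (h / 2), ∑ χ, F χ * (V.A l χ.1 : ℂ) = R)
    (hC : ∀ l ∈ Ico 1 (h / 2), ∑ χ, F χ * (V.C l χ.1 : ℂ) = 0)
    {k : ℕ} (hk : k < 2 * h) (hnd : ¬ h ∣ k) :
    ∑ χ, F χ * av χ.1 k = P₀ - R - R * (-1) ^ k := by
  obtain ⟨e1, e2, e3, e4⟩ := V.m_facts
  have hh := S.h_pos
  have hω := om_spec hh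
  set g : ℕ → ℂ := fun j => conj (om h ^ (j * k)) with hg
  set Mj : ℕ → ℂ := fun j => ∑ χ, F χ * (V.N χ.1 j : ℂ) with hMj
  have hdiff : ∀ a b, Mj a - Mj b = ∑ χ, F χ * ((V.N χ.1 a - V.N χ.1 b : ℤ) : ℂ) := fun a b => by
    rw [hMj, ← sum_sub_distrib]; exact sum_congr rfl fun χ _ => by push_cast; ring
  have hsw : ∀ j, Mj (sw h j) = Mj j := fun j => sum_congr rfl fun χ _ => by rw [V.N_sw]
  have hm0 : Mj 0 - Mj h = P₀ := by rw [hdiff]; exact h0
  have hml : ∀ l ∈ Ico 1 (h / 2), Mj (2 * l) = Mj h + R := fun l hl => by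
    rw [← sub_eq_iff_eq_add', hdiff]; exact hA l hl
  have hmr : ∀ l, l < h / 2 → Mj (rr (h / 2) l) = Mj 1 := fun l hl => by
    rcases Nat.eq_zero_or_pos l with rfl | hl0
    · rw [e4]
    · rw [← sub_eq_zero, hdiff]; exact hC l (mem_Ico.2 ⟨hl0, hl⟩)
  -- all exponents of a parity
  have hEven : ∀ l < h, l ≠ 0 → l ≠ h / 2 → Mj (2 * l) = Mj h + R := by
    intro l hl hl0 hlm
    rcases Nat.lt_or_ge l (h / 2) with hlt | hge
    · exact hml l (mem_Ico.2 ⟨by omega, hlt⟩)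
    · have h3 := sw_even (h := h) S.h_even (l := h - l) (by omega) (by omega)
      rw [show 2 * l = sw h (2 * (h - l)) by omega, hsw]
      exact hml _ (mem_Ico.2 ⟨by omega, by omega⟩)
  have hOdd : ∀ l < h, Mj (2 * l + 1) = Mj 1 := by
    have hs := sum_odd_sw (m := h / 2) e2 (F := fun j => if Mj j = Mj 1 then (0 : ℕ) else 1)
      fun j _ => by rw [← e1, hsw]
    rw [← e1, sum_eq_zero (s := range (h / 2)) fun l hl => by
      simp [hmr l (mem_range.1 hl)], sum_eq_zero_iff] at hs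
    intro l hl
    by_contra hne
    have := hs l (mem_range.2 hl)
    rw [if_neg hne] at this
    omega
  -- the sums of roots of unity
  have hneg : om h ^ h = -1 :=
    (mul_self_eq_one_iff.1 (by rw [← pow_add, ← two_mul, hω.pow_eq_one])).resolve_left
      (fun e' => by
        have := Nat.le_of_dvd hh ((hω.pow_eq_one_iff_dvd h).1 e'); omega)
  have hall : ∑ j ∈ range (2 * h), g j = 0 := by
    simp only [hg, ← map_sum]
    rw [sum_om hh k, if_neg fun hd => hnd ((dvd_mul_left h 2).trans hd), map_zero]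
  have halt : ∑ j ∈ range (2 * h), (-1) ^ j * g j = 0 := by
    have : ∀ j, (-1 : ℂ) ^ j * g j = conj (om h ^ (j * (k + h))) := fun j => by
      rw [mul_add, pow_add, map_mul, mul_comm j h, pow_mul (om h) h j, hneg, map_pow (n := j),
        map_neg, map_one]
      simp only [hg]
      ring
    simp only [this, ← map_sum]
    rw [sum_om hh (k + h), if_neg fun hd => hnd
      ((Nat.dvd_add_left dvd_rfl).1 ((dvd_mul_left h 2).trans hd)), map_zero]
  rw [sum_parity] at hall halt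
  have hpe : ∀ l : ℕ, (-1 : ℂ) ^ (2 * l) = 1 := fun l => (even_two_mul l).neg_one_pow
  have hpo : ∀ l : ℕ, (-1 : ℂ) ^ (2 * l + 1) = -1 := fun l => (odd_two_mul_add_one l).neg_one_pow
  simp only [hpe, hpo, one_mul, neg_mul, sum_neg_distrib] at halt
  have hE : ∑ l ∈ range h, g (2 * l) = 0 := by linear_combination (1 / 2 : ℂ) * hall + (1 / 2 : ℂ) * halt
  have hO : ∑ l ∈ range h, g (2 * l + 1) = 0 := by linear_combination hall - hE
  -- expansion
  have hexp : ∑ χ, F χ * av χ.1 k = ∑ j ∈ range (2 * h), Mj j * g j := by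
    refine mul_left_cancel₀ V.two_h_ne ?_
    rw [mul_sum, mul_sum, sum_congr rfl fun χ _ => by
      rw [mul_left_comm, ← V.av_inv χ.1 hk, mul_sum]]
    rw [sum_comm]
    refine sum_congr rfl fun j _ => ?_
    simp only [hMj, hg, sum_mul, mul_sum]
    exact sum_congr rfl fun χ _ => by ring
  rw [hexp, sum_parity, sum_congr rfl (fun l hl => by rw [hOdd l (mem_range.1 hl)] :
      ∀ l ∈ range h, Mj (2 * l + 1) * g (2 * l + 1) = Mj 1 * g (2 * l + 1)),
    ← mul_sum, hO, mul_zero, add_zero]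
  have hsplit : ∑ l ∈ range h, Mj (2 * l) * g (2 * l) =
      ∑ l ∈ range h, (Mj (2 * l) - (Mj h + R)) * g (2 * l) := by
    simp only [sub_mul, sum_sub_distrib, ← mul_sum, hE, mul_zero, sub_zero]
  rw [hsplit, sum_eq_add (a := 0) (b := h / 2) (by omega)
    (fun l hl hne => by rw [hEven l (mem_range.1 hl) hne.1 hne.2, sub_self, zero_mul])
    (fun hn => absurd (mem_range.2 (by omega)) hn) (fun hn => absurd (mem_range.2 (by omega)) hn),
    mul_zero, ← e1]
  simp only [hg, zero_mul, pow_zero, map_one, mul_one]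
  rw [pow_mul (om h) h k, hneg, map_pow, map_neg, map_one]
  linear_combination hm0

end eval

variable {S : Sylow 2 G} {σ τ : G} {h : ℕ}

/-- The degrees, signed, and the class equation. -/
structure TableData (σ τ : G) (h : ℕ) (q xa xb C : ℤ) : Prop where
  dvd_a : xa ∣ (Nat.card G : ℤ)
  dvd_b : xb ∣ (Nat.card G : ℤ)
  dvd_c : C ∣ (Nat.card G : ℤ)
  rel : 1 + xa + xb + C = 0
  prod : q ^ 2 * xa = xb * C
  cong : 2 * (h : ℤ) ∣ C + q
  cong' : 2 * (h : ℤ) ∣ C - q - 2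
  ne : C + 1 ≠ 0
  eqn : (Nat.card G : ℤ) * (C + q) ^ 2 *
      (Nat.card (cen (σ ^ (h / 2)) ⊓ cen τ : Subgroup G) : ℤ) ^ 2 =
    (Nat.card (cen (σ ^ h)) : ℤ) ^ 2 * (Nat.card (cen (σ ^ (h / 2))) : ℤ) * (C * (C + 1))

/-- **The table.** -/
theorem Gen.exists_table [Group.IsPerfect G] (D : Gen S σ τ h) (hM : IsPModular 2 M) {p : ℕ}
    (hp : p.Prime) (hp2 : p ≠ 2)
    (hheq : (p % 4 = 3 → ∃ r, Odd r ∧ p + 1 = h * r) ∧ (p % 4 = 1 → ∃ r, Odd r ∧ p - 1 = h * r))
    (hbor : ∃ B : Subgroup (cen (σ ^ h)), Borel B p) :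
    ∃ q xa xb C : ℤ, q = (if p % 4 = 3 then (p : ℤ) else -p) ∧ TableData σ τ h q xa xb C := by
  letI := irrFintype (G := G)
  have S' := D.sdData hM
  set V := D.rotVals hM with hV
  haveI : Fintype (principalBlock M G) := Fintype.ofFinite _
  obtain ⟨t, s, q, hq, T, hone, hzval⟩ := D.exists_zNorm hM hp hp2 hheq hbor
  obtain ⟨W, hWz, hW2, hWt, hWs, hWA0, hWA, hWC, -, -⟩ :=
    S'.exists_vectors V T fun e => absurd e (by norm_num)
  have htwo : W.two := hW2.2 rfl
  obtain ⟨h4, hout1, hout⟩ := W.zeros_props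
  obtain ⟨-, -, -, hts, htsout⟩ := W.main
  simp only [if_pos htwo] at hts
  haveI : Nonempty (principalBlock M G) := ⟨⟨oneIrr G, oneIrr_mem_principalBlock⟩⟩
  choose! U x sg hsh using fun (l : ℕ) (hl : l ∈ Ico 1 (h / 2)) => W.shape hl
  obtain ⟨hxinj, hUeq⟩ := W.shape_inj hsh
  obtain ⟨e1, e2, e3, e4⟩ := V.m_facts
  have hh4 := S'.four_le
  have hq4 : q % 4 = 3 := by
    rcases hp.eq_two_or_odd with e | e
    · exact absurd e hp2
    · rw [hq]; split_ifs <;> omega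
  -- degrees and values at the involution
  obtain ⟨d, hd, hd0⟩ : ∃ d : principalBlock M G → ℤ,
      (∀ χ, (χ.1 : G → ℂ) 1 = (d χ : ℂ)) ∧ ∀ χ, 0 < d χ ∧ d χ ∣ (Nat.card G : ℤ) :=
    ⟨fun χ => (charDegree (χ.1 : G → ℂ) : ℤ), fun χ => by rw [(irr_one χ.1).1]; push_cast; rfl,
      fun χ => ⟨Int.natCast_pos.2 (irr_one χ.1).2, Int.natCast_dvd_natCast.2 (charDegree_dvd_card χ.1)⟩⟩
  have hav0 : ∀ χ : principalBlock M G, rotVal M σ χ.1 0 = (d χ : ℂ) := fun χ => by
    rw [rotVal_of_mem χ.2, pow_zero, hd]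
  have havh : ∀ χ : principalBlock M G, rotVal M σ χ.1 h = (χ.1 : G → ℂ) (σ ^ h) := fun χ =>
    rotVal_of_mem χ.2 h
  -- the sums of the coefficients
  have hEv : ∀ χ : principalBlock M G, ∑ l ∈ range h, V.N χ.1 (2 * l) =
      W.A0 χ + 2 * ∑ l ∈ Ico 1 (h / 2), W.A l χ + (h : ℤ) * V.N χ.1 h := by
    intro χ
    have h5 := (V.sum_N_split χ.1 id).1
    simp only [id] at h5
    rw [h5, hWA0, hWA]
    simp only [id, RotVals.A0, RotVals.A, sum_sub_distrib, sum_const, Nat.card_Ico, nsmul_eq_mul,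
      sum_add_distrib]
    rw [Nat.cast_sub (show 1 ≤ h / 2 by omega), Nat.cast_one]
    have hc : (h : ℤ) = 2 * ((h / 2 : ℕ) : ℤ) := by exact_mod_cast e1
    generalize ((h / 2 : ℕ) : ℤ) = mm at *
    rw [hc]; ring
  have hOd : ∀ χ : principalBlock M G, ∑ l ∈ range h, V.N χ.1 (2 * l + 1) =
      2 * ∑ l ∈ Ico 1 (h / 2), W.C l χ + (h : ℤ) * V.N χ.1 1 := by
    intro χ
    have h5 := (V.sum_N_split χ.1 id).2
    simp only [id] at h5
    rw [h5, hWC, range_eq_Ico, sum_eq_sum_Ico_succ_bot (by omega : 0 < h / 2), e4]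
    simp only [id, RotVals.C, sum_sub_distrib, sum_const, Nat.card_Ico, nsmul_eq_mul,
      sum_add_distrib]
    rw [Nat.cast_sub (show 1 ≤ h / 2 by omega), Nat.cast_one]
    have hc : (h : ℤ) = 2 * ((h / 2 : ℕ) : ℤ) := by exact_mod_cast e1
    generalize ((h / 2 : ℕ) : ℤ) = mm at *
    rw [hc]; ring
  set E : principalBlock M G → ℤ := fun χ => ∑ l ∈ range h, V.N χ.1 (2 * l) with hEdef
  set O : principalBlock M G → ℤ := fun χ => ∑ l ∈ range h, V.N χ.1 (2 * l + 1) with hOdef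
  set z : principalBlock M G → ℤ := fun χ => E χ - O χ with hzdef
  have hdEO : ∀ χ, d χ = E χ + O χ := fun χ => by
    apply Int.cast_injective (α := ℂ)
    exact (hav0 χ).symm.trans (V.av_zero_half χ.1).1
  have hzc : ∀ χ, (χ.1 : G → ℂ) (σ ^ h) = (z χ : ℂ) := fun χ =>
    (havh χ).symm.trans (V.av_zero_half χ.1).2
  have hz2 : ∀ χ, 2 * z χ = (1 - q) * W.t χ + (1 + q) * W.s χ := fun χ => by
    rw [hWt, hWs]
    apply Int.cast_injective (α := ℂ)
    show ((2 * z χ : ℤ) : ℂ) = _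
    rw [Int.cast_mul, Int.cast_ofNat, ← hzc, hzval]
  -- orthogonality to the vectors
  have horth : ∀ F : principalBlock M G → ℤ, (∑ χ, W.t χ * F χ = 0) → (∑ χ, W.s χ * F χ = 0) →
      ∑ χ, z χ * F χ = 0 := by
    intro F ht hs
    refine mul_left_cancel₀ (two_ne_zero (α := ℤ)) ?_
    rw [mul_sum, mul_zero, sum_congr rfl fun χ _ => by
      rw [← mul_assoc, hz2, add_mul, mul_assoc, mul_assoc], sum_add_distrib, ← mul_sum, ← mul_sum,
      ht, hs, mul_zero, mul_zero, add_zero]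
  have hdorth : ∀ F : principalBlock M G → ℤ,
      (∀ χ, ∑ ψ, regMat 2 (principalBlock M G) χ ψ * (F ψ : ℂ) = 0) → ∑ χ, d χ * F χ = 0 := by
    intro F hF
    apply Int.cast_injective (α := ℂ)
    show ((∑ χ, d χ * F χ : ℤ) : ℂ) = _
    push_cast
    calc ∑ ψ, (d ψ : ℂ) * (F ψ : ℂ)
        = ∑ ψ, (∑ χ, regMat 2 (principalBlock M G) ψ χ * (d χ : ℂ)) * (F ψ : ℂ) := by
          refine sum_congr rfl fun ψ _ => ?_
          rw [← hd, ← regPart_of_not_dvd (p := 2) (f := (ψ.1 : G → ℂ)) (g := 1)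
            (by rw [orderOf_one]; norm_num), regPart_expand hM S'.hB ψ 1]
          simp only [hd]
      _ = ∑ χ, (d χ : ℂ) * ∑ ψ, regMat 2 (principalBlock M G) χ ψ * (F ψ : ℂ) := by
          simp only [sum_mul, mul_sum]
          rw [sum_comm]
          exact sum_congr rfl fun χ _ => sum_congr rfl fun ψ _ => by rw [regMat_symm ψ χ]; ring
      _ = 0 := sum_eq_zero fun χ _ => by rw [hF χ, mul_zero]
  have hreg0 : ∀ χ, ∑ ψ, regMat 2 (principalBlock M G) χ ψ * (W.A0 ψ : ℂ) = 0 := fun χ => by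
    rw [hWA0]; exact (V.regMat_vec χ).1
  have hregA : ∀ l ∈ Ico 1 (h / 2), ∀ χ, ∑ ψ, regMat 2 (principalBlock M G) χ ψ * (W.A l ψ : ℂ) = 0 :=
    fun l hl χ => by rw [hWA]; exact ((V.regMat_vec χ).2 l hl).1
  have hregC : ∀ l ∈ Ico 1 (h / 2), ∀ χ, ∑ ψ, regMat 2 (principalBlock M G) χ ψ * (W.C l ψ : ℂ) = 0 :=
    fun l hl χ => by rw [hWC]; exact ((V.regMat_vec χ).2 l hl).2
  -- the trivial character
  set o : principalBlock M G := ⟨oneIrr G, oneIrr_mem_principalBlock⟩ with ho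
  obtain ⟨hto, hso⟩ := hone o rfl
  rw [← hWt] at hto; rw [← hWs] at hso
  have hoZ : o ∈ W.zeros := W.mem_zeros.2 ((hWz o).2 oneIrr_height_zero)
  have hNo : ∀ j < 2 * h, V.N o.1 j = if j = 0 then 1 else 0 := by
    intro j hj
    apply Int.cast_injective (α := ℂ)
    refine mul_left_cancel₀ V.two_h_ne ?_
    rw [← V.N_spec, sum_congr rfl fun i _ => by
      rw [rotVal_of_mem o.2, show (o.1 : G → ℂ) (σ ^ i) = 1 from oneIrr_apply _, one_mul],
      sum_om S'.h_pos]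
    by_cases h0 : j = 0
    · rw [if_pos h0, if_pos (h0 ▸ dvd_zero _)]; push_cast; ring
    · rw [if_neg h0, if_neg fun hd => h0 (Nat.eq_zero_of_dvd_of_lt hd hj)]; simp
  have hA0o : W.A0 o = 1 := by
    rw [hWA0]
    show V.N o.1 0 - V.N o.1 h = 1
    rw [hNo 0 (by omega), hNo h (by omega), if_pos rfl, if_neg (by omega)]; norm_num
  have hUo : ∀ l ∈ Ico 1 (h / 2), o ∉ U l := by
    intro l hl hm
    obtain ⟨-, -, hxl, -, hA⟩ := hsh l hl
    have h5 := hA o
    rw [if_pos hm, hA0o, if_neg fun e : o = x l => hxl (e ▸ hoZ)] at h5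
    have hl' := mem_Ico.1 hl
    rw [hWA] at h5
    change V.N o.1 (2 * l) - V.N o.1 h = _ at h5
    rw [hNo _ (by omega), hNo h (by omega), if_neg (by omega), if_neg (by omega)] at h5
    norm_num at h5
  -- the signs
  set ξ := fun i => W.A0 i * W.t i with hξ
  set η := fun i => W.A0 i * W.s i with hη
  have hx1 : ∀ i ∈ W.zeros, ξ i * ξ i = 1 := fun i hi => by
    simp only [hξ]; linear_combination (W.A0 i * W.A0 i) * (hts i hi).1 + hout1 i hi
  have hy1 : ∀ i ∈ W.zeros, η i * η i = 1 := fun i hi => by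
    simp only [hη]; linear_combination (W.A0 i * W.A0 i) * (hts i hi).2 + hout1 i hi
  have hrestr : ∀ F : principalBlock M G → ℤ, ∑ i ∈ W.zeros, F i * W.A0 i = ∑ i, F i * W.A0 i :=
    fun F => sum_subset (subset_univ _) fun i _ hi => by rw [hout i hi, mul_zero]
  have sx : ∑ i ∈ W.zeros, ξ i = 0 := by
    rw [← W.t_orth.1, ← hrestr]; exact sum_congr rfl fun i _ => mul_comm _ _
  have sy : ∑ i ∈ W.zeros, η i = 0 := by
    rw [← W.s_orth.1, ← hrestr]; exact sum_congr rfl fun i _ => mul_comm _ _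
  have sxy : ∑ i ∈ W.zeros, ξ i * η i = 0 := by
    rw [sum_congr rfl fun i hi => show ξ i * η i = W.s i * W.t i by
      simp only [hξ, hη]; linear_combination (W.s i * W.t i) * hout1 i hi]
    have h5 := (W.sum_s htwo).2
    rw [← h5]
    refine sum_subset (subset_univ _) fun i _ hi => ?_
    rcases htsout i hi with ⟨-, e⟩ | ⟨-, e, -⟩ <;> rw [e] <;> ring
  obtain ⟨a, haZ, hax, hay⟩ := exists_type hx1 hy1 h4 sx sy sxy (ε := -1) (η := -1) (by norm_num) (by norm_num)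
  obtain ⟨b, hbZ, hbx, hby⟩ := exists_type hx1 hy1 h4 sx sy sxy (ε := -1) (η := 1) (by norm_num) (by norm_num)
  obtain ⟨c, hcZ, hcx, hcy⟩ := exists_type hx1 hy1 h4 sx sy sxy (ε := 1) (η := -1) (by norm_num) (by norm_num)
  have hox : ξ o = 1 ∧ η o = 1 := by simp only [hξ, hη, hA0o, hto, hso, mul_one]; trivial
  have hoa : o ≠ a := fun e => by rw [e, hax] at hox; norm_num at hox
  have hob : o ≠ b := fun e => by rw [e, hbx] at hox; norm_num at hox
  have hoc : o ≠ c := fun e => by rw [e, hcy] at hox; norm_num at hox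
  have hab : a ≠ b := fun e => by rw [e, hby] at hay; norm_num at hay
  have hac : a ≠ c := fun e => by rw [e, hcx] at hax; norm_num at hax
  have hbc : b ≠ c := fun e => by rw [e, hcx] at hbx; norm_num at hbx
  have hZ : W.zeros = {o, a, b, c} := by
    refine (eq_of_subset_of_card_le (fun i hi => ?_) ?_).symm
    · simp only [mem_insert, mem_singleton] at hi
      rcases hi with rfl | rfl | rfl | rfl <;> assumption
    · rw [h4, card_insert_of_notMem (by simp [hoa, hob, hoc]), card_insert_of_notMem (by simp [hab, hac]),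
        card_pair hbc]
  have hZsum : ∀ {R : Type} [AddCommMonoid R] (F : principalBlock M G → R),
      ∑ i ∈ W.zeros, F i = F o + (F a + (F b + F c)) := fun F => by
    rw [hZ, sum_insert (by simp [hoa, hob, hoc]), sum_insert (by simp [hab, hac]), sum_pair hbc]
  have hzs : ∀ i ∈ W.zeros, 2 * (W.A0 i * z i) = (1 - q) * ξ i + (1 + q) * η i := fun i _ => by
    simp only [hξ, hη]; linear_combination W.A0 i * hz2 i
  have hza : W.A0 a * z a = -1 := by have := hzs a haZ; rw [hax, hay] at this; linarith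
  have hzb : W.A0 b * z b = q := by have := hzs b hbZ; rw [hbx, hby] at this; linarith
  have hzcc : W.A0 c * z c = -q := by have := hzs c hcZ; rw [hcx, hcy] at this; linarith
  -- the congruences
  have hcg : ∀ i ∈ W.zeros, ∀ δ : ℤ, (∀ l ∈ Ico 1 (h / 2), W.A l i = δ * W.A0 i) →
      2 * (h : ℤ) ∣ W.A0 i * d i - W.A0 i * z i ∧
        2 * (h : ℤ) ∣ W.A0 i * d i + W.A0 i * z i - 2 * (1 + 2 * (((h / 2 : ℕ) : ℤ) - 1) * δ) := by
    intro i hi δ hδ
    have hC0 : ∑ l ∈ Ico 1 (h / 2), W.C l i = 0 := sum_eq_zero fun l hl => W.C_zero hl hi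
    have hA : ∑ l ∈ Ico 1 (h / 2), W.A l i = (((h / 2 : ℕ) : ℤ) - 1) * δ * W.A0 i := by
      rw [sum_congr rfl hδ, sum_const, Nat.card_Ico, nsmul_eq_mul,
        Nat.cast_sub (show 1 ≤ h / 2 by omega), Nat.cast_one, mul_assoc]
    have hO := hOd i; have hE := hEv i
    rw [hC0, mul_zero, zero_add] at hO
    rw [hA] at hE
    have hone' := hout1 i hi
    constructor
    · refine ⟨W.A0 i * V.N i.1 1, ?_⟩
      simp only [hzdef]; rw [hdEO]; simp only [hOdef]; rw [hO]; ring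
    · refine ⟨W.A0 i * V.N i.1 h, ?_⟩
      simp only [hzdef]; rw [hdEO]; simp only [hEdef]; rw [hE]
      linear_combination (2 * (1 + 2 * (((h / 2 : ℕ) : ℤ) - 1) * δ)) * hone'
  -- the pair
  have h1m : 1 ∈ Ico 1 (h / 2) := mem_Ico.2 ⟨le_rfl, by omega⟩
  obtain ⟨hUs, hU2, -, -, -⟩ := hsh 1 h1m
  have hAzero : ∀ i ∈ W.zeros, ∀ l ∈ Ico 1 (h / 2),
      W.A l i = (if i ∈ U 1 then 1 else 0) * W.A0 i := by
    intro i hi l hl
    obtain ⟨-, -, hxl, -, hA⟩ := hsh l hl
    have hUl : U l = U 1 := by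
      by_cases e : l = 1
      · rw [e]
      · exact hUeq l hl 1 h1m e
    rw [hA, if_neg fun e : i = x l => hxl (e ▸ hi), add_zero, hUl]
    split_ifs <;> simp
  have h4h : (4 : ℤ) ∣ (h : ℤ) := by exact_mod_cast S'.four_dvd
  have hnot : ∀ i ∈ W.zeros, i ∉ U 1 → (h : ℤ) ∣ W.A0 i * z i - 1 := fun i hi hn => by
    obtain ⟨h5, h6⟩ := hcg i hi 0 fun l hl => by rw [hAzero i hi l hl, if_neg hn]
    obtain ⟨k1, hk1⟩ := h5
    obtain ⟨k2, hk2⟩ := h6
    exact ⟨k2 - k1, by linarith⟩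
  have haU : a ∈ U 1 := by
    by_contra hn
    have h5 := h4h.trans (hnot a haZ hn)
    rw [hza] at h5
    norm_num at h5
  have hbU : b ∈ U 1 := by
    by_contra hn
    have h5 := h4h.trans (hnot b hbZ hn)
    rw [hzb] at h5
    omega
  have hUab : U 1 = {a, b} :=
    (eq_of_subset_of_card_le (insert_subset haU (singleton_subset_iff.2 hbU))
      (by rw [hU2, card_pair hab])).symm
  have hcU : c ∉ U 1 := by rw [hUab]; simp [hac.symm, hbc.symm]
  obtain ⟨hc5, hc6⟩ := hcg c hcZ 0 fun l hl => by rw [hAzero c hcZ l hl, if_neg hcU]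
  rw [hzcc] at hc5 hc6
  -- the relations of the degrees
  set xa := W.A0 a * d a with hxa
  set xb := W.A0 b * d b with hxb
  set C := W.A0 c * d c with hC
  have hdo : d o = 1 ∧ z o = 1 := by
    refine ⟨?_, ?_⟩
    · apply Int.cast_injective (α := ℂ)
      show ((d o : ℤ) : ℂ) = _
      rw [← hd, show (o.1 : G → ℂ) 1 = 1 from oneIrr_apply _]; simp
    · apply Int.cast_injective (α := ℂ)
      show ((z o : ℤ) : ℂ) = _
      rw [← hzc, show (o.1 : G → ℂ) (σ ^ h) = 1 from oneIrr_apply _]; simp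
  have hrel : 1 + xa + xb + C = 0 := by
    have h5 := hdorth _ hreg0
    rw [← hrestr, hZsum, hdo.1, hA0o] at h5
    rw [hxa, hxb, hC]; linarith
  have hAsum : ∀ l ∈ Ico 1 (h / 2), ∀ {R : Type} [CommRing R] (F : principalBlock M G → R),
      ∑ i, F i * (W.A l i : R) =
        F a * (W.A0 a : R) + F b * (W.A0 b : R) + F (x l) * (sg l : R) := by
    intro l hl R _ F
    obtain ⟨-, -, hxl, -, hA⟩ := hsh l hl
    have hUl : U l = U 1 := by
      by_cases e : l = 1
      · rw [e]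
      · exact hUeq l hl 1 h1m e
    simp only [hA, Int.cast_add, mul_add, sum_add_distrib]
    congr 1
    · rw [← sum_pair (f := fun i => F i * (W.A0 i : R)) hab, ← hUab, ← hUl]
      rw [← sum_subset (subset_univ (U l)) fun i _ hn => by rw [if_neg hn, Int.cast_zero, mul_zero]]
      exact sum_congr rfl fun i hi => by rw [if_pos hi]
    · rw [sum_eq_single_of_mem (x l) (mem_univ _) fun i _ hne => by
        rw [if_neg hne, Int.cast_zero, mul_zero], if_pos rfl]
  have hxd : ∀ l ∈ Ico 1 (h / 2), sg l * d (x l) = 1 + C ∧ sg l * z (x l) = 1 - q := by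
    intro l hl
    have h5 := hdorth _ (hregA l hl)
    have h6 := horth _ (W.t_orth.2 l hl).1 (W.s_orth.2 l hl).1
    rw [show ∑ χ, d χ * W.A l χ = _ from hAsum l hl d] at h5
    rw [show ∑ χ, z χ * W.A l χ = _ from hAsum l hl z] at h6
    push_cast at h5 h6
    exact ⟨by simp only [hxa, hxb] at hrel; linarith, by linarith⟩
  -- the weights
  set F : principalBlock M G → ℂ := fun χ => (z χ : ℂ) ^ 2 / (d χ : ℂ) with hF
  have hterm : ∀ i : principalBlock M G, ∀ σ' : ℤ, σ' * σ' = 1 →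
      F i * (σ' : ℂ) = ((σ' * z i : ℤ) : ℂ) ^ 2 / ((σ' * d i : ℤ) : ℂ) := by
    intro i σ' hs
    rcases mul_self_eq_one_iff.1 hs with rfl | rfl <;> simp [hF, div_neg]
  have hP : ∑ i, F i * (W.A0 i : ℂ) =
      1 + 1 / (xa : ℂ) + (q : ℂ) ^ 2 / (xb : ℂ) + (q : ℂ) ^ 2 / (C : ℂ) := by
    rw [← sum_subset (subset_univ W.zeros) (f := fun i => F i * (W.A0 i : ℂ)) fun i _ hi => by
      rw [hout i hi, Int.cast_zero, mul_zero], hZsum,
      hterm o _ (hout1 o hoZ), hterm a _ (hout1 a haZ), hterm b _ (hout1 b hbZ),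
      hterm c _ (hout1 c hcZ), hza, hzb, hzcc, hA0o, hdo.1, hdo.2]
    rw [← hxa, ← hxb, ← hC]
    push_cast; ring
  have hR : ∀ l ∈ Ico 1 (h / 2), ∑ i, F i * (W.A l i : ℂ) =
      1 / (xa : ℂ) + (q : ℂ) ^ 2 / (xb : ℂ) + (1 - q : ℂ) ^ 2 / (1 + C : ℂ) := by
    intro l hl
    obtain ⟨h5, h6⟩ := hxd l hl
    rw [hAsum l hl, hterm a _ (hout1 a haZ), hterm b _ (hout1 b hbZ),
      hterm _ _ (hsh l hl).2.2.2.1, hza, hzb, h5, h6, ← hxa, ← hxb]
    push_cast; ring
  have hCz : ∀ l ∈ Ico 1 (h / 2), ∑ i, F i * (W.C l i : ℂ) = 0 := by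
    intro l hl
    obtain ⟨u, v, huv, hu1, hv1, hrest, -⟩ := W.shapeC hl
    have h5 := hdorth _ (hregC l hl)
    have h6 := horth _ (W.t_orth.2 l hl).2 (W.s_orth.2 l hl).2
    have hpair : ∀ {R : Type} [CommRing R] (F : principalBlock M G → R),
        ∑ i, F i * (W.C l i : R) = F u * (W.C l u : R) + F v * (W.C l v : R) := fun F =>
      sum_eq_add (a := u) (b := v) huv (fun i _ hi => by
        rw [hrest i hi.1 hi.2, Int.cast_zero, mul_zero])
        (fun hn => absurd (mem_univ _) hn) (fun hn => absurd (mem_univ _) hn)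
    rw [show ∑ χ, d χ * W.C l χ = _ from hpair d] at h5
    rw [show ∑ χ, z χ * W.C l χ = _ from hpair z] at h6
    push_cast at h5 h6
    rw [hpair, hterm u _ hu1, hterm v _ hv1,
      show W.C l v * z v = -(W.C l u * z u) by linarith,
      show W.C l v * d v = -(W.C l u * d u) by linarith]
    push_cast; rw [div_neg, neg_sq, add_neg_cancel]
  -- nonvanishing
  have hxane : xa ≠ 0 := by
    intro e; rcases mul_eq_zero.1 e with e' | e'
    · have := hout1 a haZ; rw [e'] at this; norm_num at this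
    · exact (hd0 a).1.ne' e'
  have hxbne : xb ≠ 0 := by
    intro e; rcases mul_eq_zero.1 e with e' | e'
    · have := hout1 b hbZ; rw [e'] at this; norm_num at this
    · exact (hd0 b).1.ne' e'
  have hCne : C ≠ 0 := by
    intro e; rcases mul_eq_zero.1 e with e' | e'
    · have := hout1 c hcZ; rw [e'] at this; norm_num at this
    · exact (hd0 c).1.ne' e'
  have hC1 : C + 1 ≠ 0 := by
    intro e
    obtain ⟨h5, -⟩ := hxd 1 h1m
    rw [show (1 : ℤ) + C = 0 by omega] at h5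
    rcases mul_eq_zero.1 h5 with e' | e'
    · have := (hsh 1 h1m).2.2.2.1; rw [e'] at this; norm_num at this
    · exact (hd0 _).1.ne' e'
  -- class sums at the rotations
  have hone' : ∀ v : G, orderOf v = 2 ↔ IsConj (σ ^ h) v := fun v => by
    refine ⟨fun hv => D.isConj_invol S'.orderOf_z hv, fun hc => ?_⟩
    obtain ⟨g, rfl⟩ := isConj_iff.1 hc
    rw [CfsgLib.Invol.orderOf_conj_eq, S'.orderOf_z]
  have hclass : ∀ i, i < 2 * h → ¬ h ∣ i → ∀ val : ℂ, conj val = val →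
      ∑ χ, F χ * rotVal M σ χ.1 i = val →
      (Nat.card G : ℂ) * ((Nat.card (CfsgLib.SectionCount.core 2 (σ ^ i)) : ℂ) * val) =
        (Nat.card (cen (σ ^ h)) : ℂ) ^ 2 * ((coreSol (σ ^ i)).card : ℂ) := by
    intro i hi hnd val hval hsum
    obtain ⟨k, hk⟩ := D.exists_order i hnd
    obtain ⟨j, hj⟩ := D.hh
    have hi0 : i ≠ 0 := fun e => hnd (e ▸ dvd_zero _)
    have hih : i ≠ h := fun e => hnd (e ▸ dvd_rfl)
    have h5 := class_sum_principal (M := M) hM (z := σ ^ h) hk (a := j + 3)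
      (by rw [D.index_core_rot hM hi hi0 hih, hj]; ring) hone'
    rw [← h5]
    congr 2
    rw [← hval, ← hsum, map_sum,
      sum_subtype (univ.filter (· ∈ principalBlock M G)) (p := (· ∈ principalBlock M G)) (by simp)
        fun χ : IrrCharacter G => (χ : G → ℂ) (σ ^ h) * (χ : G → ℂ) (σ ^ h) *
          conj ((χ : G → ℂ) (σ ^ i)) / (χ : G → ℂ) 1]
    refine sum_congr rfl fun χ _ => ?_
    rw [hzc, hd, rotVal_of_mem χ.2, map_mul]
    simp only [hF, map_div₀, map_pow, map_intCast]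
    ring
  set P₀ := 1 + 1 / (xa : ℂ) + (q : ℂ) ^ 2 / (xb : ℂ) + (q : ℂ) ^ 2 / (C : ℂ) with hP0
  set R₀ := 1 / (xa : ℂ) + (q : ℂ) ^ 2 / (xb : ℂ) + (1 - q : ℂ) ^ 2 / (1 + C : ℂ) with hR0
  have hval : ∀ i, i < 2 * h → ¬ h ∣ i → ∑ χ, F χ * rotVal M σ χ.1 i = P₀ - R₀ - R₀ * (-1) ^ i :=
    fun i hi hnd => sum_av_eval V F
      (by rw [← hP, hWA0]) (fun l hl => by rw [← hR l hl, hWA]) (fun l hl => by rw [← hCz l hl, hWC])
      hi hnd
  have hcP : conj P₀ = P₀ := by simp only [hP0, map_add, map_div₀, map_pow, map_intCast, map_one]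
  have hcR : conj R₀ = R₀ := by
    simp only [hR0, map_add, map_sub, map_div₀, map_pow, map_intCast, map_one]
  have hP00 : P₀ = 0 := by
    have h5 := hclass 1 (by omega) (fun hd => by have := Nat.le_of_dvd one_pos hd; omega) P₀ hcP
      (by rw [hval 1 (by omega) (fun hd => by have := Nat.le_of_dvd one_pos hd; omega)]; ring)
    rw [D.coreSol_odd odd_one, card_empty, Nat.cast_zero, mul_zero] at h5
    rcases mul_eq_zero.1 h5 with e | e
    · exact absurd e (Nat.cast_ne_zero.2 Nat.card_pos.ne')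
    · exact (mul_eq_zero.1 e).resolve_left (Nat.cast_ne_zero.2 Nat.card_pos.ne')
  have hca : ((xa : ℂ)) ≠ 0 := Int.cast_ne_zero.2 hxane
  have hcb : ((xb : ℂ)) ≠ 0 := Int.cast_ne_zero.2 hxbne
  have hcc : ((C : ℂ)) ≠ 0 := Int.cast_ne_zero.2 hCne
  have hcc1 : (1 + (C : ℂ)) ≠ 0 := by
    rw [show (1 + (C : ℂ)) = ((C + 1 : ℤ) : ℂ) by push_cast; ring]
    exact Int.cast_ne_zero.2 hC1
  have hint : xa * xb * C + xb * C + q ^ 2 * xa * C + q ^ 2 * xa * xb = 0 := by
    apply Int.cast_injective (α := ℂ)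
    show ((xa * xb * C + xb * C + q ^ 2 * xa * C + q ^ 2 * xa * xb : ℤ) : ℂ) = _
    rw [hP0] at hP00
    field_simp at hP00
    push_cast
    linear_combination hP00
  have hprod : q ^ 2 * xa = xb * C := by
    have h5 : (1 + xa) * ((C + q ^ 2) * xa + C * (1 + C)) = 0 := by
      linear_combination (-1) * hint + (C + q ^ 2 * xa + xa * C) * hrel
    have hne : 1 + xa ≠ 0 := by
      intro e
      have hda : d a = 1 := by
        have h6 : W.A0 a * d a = -1 := by rw [← hxa]; omega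
        rcases mul_self_eq_one_iff.1 (hout1 a haZ) with e' | e' <;> rw [e'] at h6 <;>
          have := (hd0 a).1 <;> omega
      have hsub : Subsingleton {χ : IrrCharacter G // (χ : G → ℂ) 1 = 1} := by
        rw [← Finite.card_le_one_iff_subsingleton, CfsgLib.Char.card_linear,
          Group.IsPerfect.commutator_eq_top, Subgroup.index_top]
      refine hoa (Subtype.ext ?_)
      exact congrArg (fun w : {χ : IrrCharacter G // (χ : G → ℂ) 1 = 1} => w.1)
        (hsub.elim ⟨o.1, oneIrr_apply _⟩ ⟨a.1, by rw [hd, hda]; simp⟩)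
    have h6 := (mul_eq_zero.1 h5).resolve_left hne
    linear_combination h6 - C * hrel
  refine ⟨q, xa, xb, C, hq, ⟨?_, ?_, ?_, hrel, hprod, ?_, ?_, hC1, ?_⟩⟩
  · rcases mul_self_eq_one_iff.1 (hout1 a haZ) with e | e <;>
      rw [hxa, e] <;> simpa using (hd0 a).2
  · rcases mul_self_eq_one_iff.1 (hout1 b hbZ) with e | e <;>
      rw [hxb, e] <;> simpa using (hd0 b).2
  · rcases mul_self_eq_one_iff.1 (hout1 c hcZ) with e | e <;>
      rw [hC, e] <;> simpa using (hd0 c).2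
  · obtain ⟨k, hk⟩ := hc5; exact ⟨k, by rw [← hk, hC]; ring⟩
  · obtain ⟨k, hk⟩ := hc6; exact ⟨k, by rw [← hk, hC]; ring⟩
  -- the class equation
  obtain ⟨-, -, -, hm0, hm2, hmev⟩ := D.h_facts
  have hnd : ¬ h ∣ h / 2 := fun hd => by have := Nat.le_of_dvd hm0 hd; omega
  set v : ℂ := 2 * ((C : ℂ) + q) ^ 2 / ((C : ℂ) * ((C : ℂ) + 1)) with hv
  have hRv : -2 * R₀ = v := by
    have h5 : R₀ = -1 - (q : ℂ) ^ 2 / (C : ℂ) + (1 - q : ℂ) ^ 2 / (1 + C : ℂ) := by
      rw [hR0]; linear_combination hP00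
    rw [h5, hv, add_comm (C : ℂ) 1]
    field_simp
    ring
  have h5 := hclass (h / 2) hm2 hnd v (by rw [← hRv, map_mul, hcR, map_neg, map_ofNat])
    (by rw [hval _ hm2 hnd, hP00, hmev.neg_one_pow, ← hRv]; ring)
  have h6 := D.card_coreSol_four hM
  have h7 : Nat.card (cen (σ ^ (h / 2))) =
      2 * h * Nat.card (CfsgLib.SectionCount.core 2 (σ ^ (h / 2))) := by
    rw [← (CfsgLib.SectionCount.core 2 (σ ^ (h / 2))).card_mul_index,
      D.index_core_rot hM hm2 hm0.ne' (by omega)]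
    ring
  set ns := ((coreSol (σ ^ (h / 2))).card : ℂ)
  set cc := (Nat.card (cen (σ ^ (h / 2)) ⊓ cen τ : Subgroup G) : ℂ) with hccdef
  set co := (Nat.card (CfsgLib.SectionCount.core 2 (σ ^ (h / 2))) : ℂ)
  have h6' : (h : ℂ) * (ns * cc ^ 2) = (Nat.card (cen (σ ^ (h / 2))) : ℂ) ^ 2 := by
    simp only [ns, hccdef]; exact_mod_cast h6
  have h7' : (Nat.card (cen (σ ^ (h / 2))) : ℂ) = 2 * (h : ℂ) * co := by
    simp only [co]; exact_mod_cast h7
  have hfne : (Nat.card (cen (σ ^ (h / 2))) : ℂ) ≠ 0 := Nat.cast_ne_zero.2 Nat.card_pos.ne'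
  apply Int.cast_injective (α := ℂ)
  push_cast
  refine mul_right_cancel₀ hfne ?_
  have h8 : v * ((C : ℂ) * ((C : ℂ) + 1)) = 2 * ((C : ℂ) + q) ^ 2 := by
    rw [hv, div_mul_cancel₀]
    exact mul_ne_zero hcc (by rw [add_comm]; exact hcc1)
  calc (Nat.card G : ℂ) * ((C : ℂ) + q) ^ 2 * cc ^ 2 * (Nat.card (cen (σ ^ (h / 2))) : ℂ)
      = (Nat.card G : ℂ) * (co * v) * ((h : ℂ) * cc ^ 2 * ((C : ℂ) * ((C : ℂ) + 1))) := by
        rw [h7']; linear_combination (-((Nat.card G : ℂ) * co * (h : ℂ) * cc ^ 2)) * h8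
    _ = _ := by
        rw [h5]
        linear_combination ((Nat.card (cen (σ ^ h)) : ℂ) ^ 2 * ((C : ℂ) * ((C : ℂ) + 1))) * h6'

end CfsgLib.AlmostZ
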